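import Cfsg.Agent.Lib.Sporadic.ConwayPsu62.Moves

/-! Image checks for four of the generators. -/

set_option autoImplicit false

namespace CfsgLib.Sporadic.ConwayPsu62

open CfsgLib.Sporadic

theorem moves_ok4 : allFrom 0 891 (moveOK 4) = true := by decide +kernel
theorem moves_ok5 : allFrom 0 891 (moveOK 5) = true := by decide +kernel
theorem moves_ok6 : allFrom 0 891 (moveOK 6) = true := by decide +kernel
theorem moves_ok7 : allFrom 0 891 (moveOK 7) = true := by decide +kernel

end CfsgLib.Sporadic.ConwayPsu62
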