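import Cfsg.Agent.Lib.Sporadic.ConwayPsu62.MovesA
import Cfsg.Agent.Lib.Sporadic.ConwayPsu62.MovesB

/-! Checks on the planes, generators and isotropic lines. -/

set_option autoImplicit false
set_option maxRecDepth 100000

namespace CfsgLib.Sporadic.ConwayPsu62

open Cfsg CfsgLib.Golay CfsgLib.Golay.LeechOrbit CfsgLib.Sporadic CfsgLib.Presented.Fi22Unitary

theorem moves_ok : ∀ k < 8, ∀ i < 891, moveOK k i = true := by
  intro k hk i hi
  match k, hk with
  | 0, _ => exact of_allFrom_zero moves_ok0 hi
  | 1, _ => exact of_allFrom_zero moves_ok1 hi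
  | 2, _ => exact of_allFrom_zero moves_ok2 hi
  | 3, _ => exact of_allFrom_zero moves_ok3 hi
  | 4, _ => exact of_allFrom_zero moves_ok4 hi
  | 5, _ => exact of_allFrom_zero moves_ok5 hi
  | 6, _ => exact of_allFrom_zero moves_ok6 hi
  | 7, _ => exact of_allFrom_zero moves_ok7 hi

theorem key_zero_unique : allFrom 0 891 (fun i => i == 0 || !(keyT.get i == keyT.get 0)) = true := by
  decide +kernel

/-- Orthogonality of two codes. -/
noncomputable def perpOK (u v : ℕ) : Bool := !hLo u v && !hHi u v

/-- The first plane is isotropic and one generator moves it. -/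
theorem first_ok : (perpOK (base1 0) (base1 0) && perpOK (base2 0) (base1 0) && perpOK (base3 0) (base1 0) &&
    !perpOK (tvCode (gVecs.getD 1 0) (base1 0)) (base1 0)) = true := by decide +kernel

theorem gens_ok : (gVecs.length == 8 && gWs.length == 8 &&
    gVecs.all fun v => Nat.blt v 4096 && !(v == 0) && isoOK v) = true := by decide +kernel

/-- The reach test at an index. -/
noncomputable def reachOK (t : ℕ) : Bool :=
  forceN t fun t => forceN (ordT.get t) fun x =>
    bif t == 0 then sameLine x (gVecs.getD 0 0) else
      forceN (parT.get t / 693) fun k => forceN (parT.get t % 693) fun s =>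
        Nat.blt s t && Nat.blt k 8 && sameLine x (tvCode (gVecs.getD k 0) (ordT.get s))

theorem reach_ok : allFrom 0 693 reachOK = true := by decide +kernel

/-- The cover test at a code. -/
noncomputable def coverOK (v : ℕ) : Bool :=
  forceN v fun v => v == 0 || !isoOK v ||
    forceN (posT.get v) fun t => Nat.blt t 693 && sameLine v (ordT.get t)

theorem cover_ok : allFrom 0 4096 coverOK = true := by decide +kernel

theorem cols_g : gCols = gWs.map colsW := by
  rw [← colsE_eq]
  decide +kernel

theorem fix_ok : fixB gWs [toL (Spor.leechU : GolayPt → ℤ), toL (vecK pairKey)] = true := by decide +kernel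

theorem pair_ok : latA (vecK pairKey) = true := by decide +kernel

theorem pair_mem : (dotL (toL (vecK pairKey)) (toL (vecK pairKey)) = 32) ∧
    dotL (toL (Spor.leechU : GolayPt → ℤ)) (toL (vecK pairKey)) = -16 := by decide +kernel

theorem root_ok : latA (vecK (keyT.get 0)) = true := by decide +kernel

theorem root_norm : dotL (toL (vecK (keyT.get 0))) (toL (vecK (keyT.get 0))) = 32 ∧
    keyOf (vecK (keyT.get 0)) = keyT.get 0 := by decide +kernel

end CfsgLib.Sporadic.ConwayPsu62
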