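import Cfsg.Agent.Lib.Golay.LeechOrbit.Cert

/-! Generated: eight automorphisms of the lattice fixing two minimal vectors, and the
totally isotropic planes attached to 891 minimal vectors on which they act as transvections. -/

set_option autoImplicit false
set_option maxRecDepth 20000

namespace CfsgLib.Sporadic.ConwayPsu62

open CfsgLib.Sporadic CfsgLib.Golay.LeechOrbit

/-- Words. -/
def gWs : List (List Letter) := [[.Ci, .S, .T, .Si, .E, .S, .T, .Si, .C, .Si, .T, .S, .C, .T, .E, .T, .Ci, .Si, .T, .S],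
  [.Ci, .X, .Ci, .X, .C, .X, .S, .S, .S, .T, .Si, .C, .C, .S, .S, .T, .Ci, .Si, .T, .S, .C, .E, .Ci, .Si, .T, .S, .C, .Si, .T, .Si, .Si, .E, .S, .S, .T, .S, .T, .Si, .Si, .Ci, .Ci, .S, .T, .Si, .Si, .Si, .X, .Ci, .X, .C, .X, .C],
  [.Ci, .Si, .T, .S, .C, .E, .Ci, .Si, .T, .S, .C, .Si, .T, .Si, .Si, .E, .S, .S, .T, .S],
  [.Ci, .X, .Ci, .X, .C, .X, .S, .S, .S, .T, .Si, .C, .C, .S, .S, .T, .C, .S, .T, .Si, .E, .S, .T, .Si, .Ci, .T, .Si, .Si, .Ci, .T, .Si, .E, .S, .T, .Ci, .S, .T, .Si, .Si, .Si, .X, .Ci, .X, .C, .X, .C],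
  [.Si, .T, .S, .C, .E, .Ci, .Si, .T, .S, .C, .S, .T, .Si, .Ci, .Ci, .E, .C, .C, .S, .T, .Si, .Ci],
  [.C, .S, .T, .Si, .E, .S, .T, .Si, .Ci, .T, .Si, .Si, .Ci, .T, .Si, .E, .S, .T, .C, .S, .S, .T],
  [.Si, .Si, .Ci, .Ci, .S, .E, .C, .E, .C, .X, .Ci, .X, .C, .X, .S, .S, .S, .T, .Si, .C, .C, .S, .S, .T, .Si, .T, .S, .C, .E, .Ci, .Si, .T, .S, .C, .S, .T, .Si, .Ci, .Ci, .E, .C, .C, .S, .T, .Si, .Ci, .T, .Si, .Si, .Ci, .Ci, .S, .T, .Si, .Si, .Si, .X, .Ci, .X, .C, .X, .Ci, .E, .Ci, .E, .Si, .C, .C, .S, .S],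
  [.C, .S, .T, .Si, .E, .S, .T, .Si, .Ci, .Si, .Ci, .T, .Si, .Si, .Ci, .E, .C, .S, .S, .T, .C, .S]]

/-- Packed columns. -/
def gCols : List (List ℤ) := [[8, 128, 2048, -32768, -524288, -8388608, -134217728, -2147483648, -34359738368, 549755813888, 8796093022208, -140737488355328, -2251799813685248, -36028797018963968, -576460752303423488, 9223372036854775808, -147573952589676412928, -2361183241434822606848, -37778931862957161709568, -604462909807314587353088, 9671406556917033397649408, -154742504910672534362390528, -2475880078570760549798248448, 39614081257132168796771975168],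
  [19807040628567210298292830276, -19807040628567210298292830140, 18889466001830145162240, -1315311296352402560507723776, -1180591620992356581376, 302157667931760497786880, 1180591620992221839360, 4835703008242537982853120, -18889466001864504902656, 1180591620442600243200, 302157667922964413153280, 18889465861092656808960, -19807040628564958498479145020, 4835702972213743111372800, -4835703584703292433760256, 1315311287129030523652915200, -302305241884350182588416, -1180591620442466549760, -18889465861127016545280, -302305241875554081177600, -4835703548674493267312640, 1160568791441730026145300480, -1160568782218357989290557440, 19807040628564958498479144900],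
  [8, 128, -2048, 32768, -524288, -8388608, 134217728, -2147483648, 34359738368, -549755813888, 8796093022208, -140737488355328, -2251799813685248, 36028797018963968, -576460752303423488, -9223372036854775808, -147573952589676412928, -2361183241434822606848, -37778931862957161709568, -604462909807314587353088, -9671406556917033397649408, -154742504910672534362390528, -2475880078570760549798248448, 39614081257132168796771975168],
  [19807040633177770416813375556, -19807040633177770416813375420, -4835703278453843774407680, -1315311291741842441987178496, 18249154560, -18258067456, -73498675550009425920, 16102195200, -16110059520, -4835703278454393530219520, -4835703278462639867427840, -73498816287363563520, 1315311291739590642173460480, -322301530470251795316736, -74075136302178631680, -19807040623954398379958599740, -74075277039801204736, 319940311200019953745920, 284522562578497614643200, -282161415365859811000320, -4835703278463189623243776, 1160568786831169907624755200, -1160568786828918107811102720,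 19807040623954398379958599620],
  [8, 128, -2048, -32768, -524288, 8388608, -134217728, -2147483648, -34359738368, -549755813888, 8796093022208, -140737488355328, 2251799813685248, -36028797018963968, -576460752303423488, -9223372036854775808, 147573952589676412928, -2361183241434822606848, -37778931862957161709568, 604462909807314587353088, -9671406556917033397649408, -154742504910672534362390528, -2475880078570760549798248448, 39614081257132168796771975168],
  [8, 128, -2048, -32768, 524288, 8388608, -134217728, 2147483648, 34359738368, -549755813888, -8796093022208, -140737488355328, -2251799813685248, -36028797018963968, -576460752303423488, 9223372036854775808, -147573952589676412928, -2361183241434822606848, -37778931862957161709568, -604462909807314587353088, -9671406556917033397649408, -154742504910672534362390528, -2475880078570760549798248448, 39614081257132168796771975168],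
  [19807040628566088796432498756, -19807040628566088796432498620, -4835698666772223393530880, 18014415622225920, -77390142209498121914023936, 302157669053262358118400, -18014415756476416, -1237941219877071362128347136, 18014381262520320, -4835698666772773149342720, -19807040628566080000339476540, 1237941219876930622492508160, 302157666801462552821760, -18014381396705280, 77390141633037369610076160, -4835707890144260248304640, -302305243005852042919936, 1237938858693829925158256640, 77352363277635164751790080, -302305240754052220846080, -4835707890144810004120576, -77352362701174412448890880, -1237938858693689189817384960, 19807040628566080000339476420],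
  [8, 128, -2048, -32768, -524288, -8388608, -134217728, 2147483648, -34359738368, -549755813888, -8796093022208, -140737488355328, 2251799813685248, 36028797018963968, 576460752303423488, -9223372036854775808, -147573952589676412928, -2361183241434822606848, -37778931862957161709568, -604462909807314587353088, 9671406556917033397649408, -154742504910672534362390528, -2475880078570760549798248448, 39614081257132168796771975168]]

/-- Transvection centres. -/
def gVecs : List ℕ := [1280, 304, 245, 2654, 1525, 1473, 1520, 2777]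

/-- The key of the second fixed vector. -/
def pairKey : ℕ := 42255020007607646716556773444

/-- Part of `keyT`. -/
def keyT_p00 : Tr := .node (.node (.node (.node (.node (.node (.node (.node (.leaf 0x48888888888888888888888c) (.leaf 0x7797979999777797779999b9)) (.node (.leaf 0x688a88888aaa8888688888aa) (.leaf 0x7997979999799977999799b9))) (.node (.node (.leaf 0x6888868a888888a8a888a8aa) (.leaf 0x7977979999797799977779b9)) (.leaf 0x7777979999779979797979b9))) (.node (.node (.node (.leaf 0x68688a888a888a88888a88aa) (.leaf 0x7799979999777979977797b9)) (.node (.leaf 0x6a88888a88a88888888a86aa) (.leaf 0x7999979999799799797997b9))) (.node (.node (.leaf 0x6888888aaa88a888868888aa) (.leaf 0x7979979999797977779977b9)) (.leaf 0x7779979999779797999777b9)))) (.node (.node (.node (.node (.leaf 0x6688a8888a8888aa888888aa) (.leaf 0x7799779999979999799799b9)) (.node (.leaf 0x68a88a888a888a88888688aa) (.leaf 0x7999779999997779979999b9))) (.node (.node (.leaf 0x688888886888888aa8aa88aa) (.leaf 0x7979779999999997997979b9))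 (.leaf 0x7779779999977777777779b9))) (.node (.node (.node (.leaf 0x6886a8888888a888888aa8aa) (.leaf 0x7977779999999779799777b9)) (.node (.leaf 0x7777779999977999979977b9) (.leaf 0x8888888888888888488888c8))) (.node (.node (.leaf 0x68888a8a888888a8a88868aa) (.leaf 0x7997779999997997777797b9)) (.leaf 0x7797779999979777997997b9))))) (.node (.node (.node (.node (.node (.leaf 0x668888688888aa88688888aa) (.leaf 0x7797999999999997799977b9)) (.node (.leaf 0x68a8688888888888aa888aaa) (.leaf 0x7997999999977777979777b9))) (.node (.node (.leaf 0x688888688a88888888a8aaaa) (.leaf 0x7977999999979999997797b9)) (.leaf 0x7777999999997779777997b9))) (.node (.node (.node (.leaf 0x6886888868888aa8888886aa) (.leaf 0x7799999999999779997779b9)) (.node (.leaf 0x6aa88888a88a8888888868aa) (.leaf 0x7999999999977999777979b9))) (.node (.node (.leaf 0x688888a88a88888888a8a6aa) (.leaf 0x7979999999979777799999b9)) (.leaf 0x7779999999997997979799b9)))) (.node (.node (.node (.node (.leaf 0x6868688888888888aa8886aa) (.leaf 0x7799799999797799779777b9))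 (.node (.leaf 0x6a868a88888888888aa888aa) (.leaf 0x7999799999779979999977b9))) (.node (.node (.leaf 0x6888888888a88a8a8a8868aa) (.leaf 0x7979799999777797977997b9)) (.leaf 0x7779799999799977797797b9))) (.node (.node (.node (.leaf 0x68886aa8a8a88888888888aa) (.leaf 0x7977799999777979779799b9)) (.node (.leaf 0x7777799999799799999999b9) (.leaf 0x88888888888c8888888888c8))) (.node (.node (.leaf 0x6888aaa8a8688888888888aa) (.leaf 0x7997799999779797797779b9)) (.leaf 0x7797799999797977977979b9)))))) (.node (.node (.node (.node (.node (.node (.leaf 0x66868a88888888888a6888aa) (.leaf 0x7797997999779779799797b9)) (.node (.leaf 0x688aa8888888a888888a68aa) (.leaf 0x7997997999797999979997b9))) (.node (.node (.leaf 0x68888868888688a88a8688aa) (.leaf 0x7977997999799777997977b9)) (.leaf 0x7777997999777997777777b9))) (.node (.node (.node (.leaf 0x686a88aa8888888a888888aa) (.leaf 0x7799997999779997997999b9)) (.node (.leaf 0x6a88a8888a8888a6888888aa) (.leaf 0x7999997999797777777799b9))) (.node (.node (.leaf 0x688888a8888688a88a8a88aa)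 (.leaf 0x7979997999799999799779b9)) (.leaf 0x7779997999777779979979b9)))) (.node (.node (.node (.node (.leaf 0x66a88888a88a88888888a8aa) (.leaf 0x7799797999977977779997b9)) (.node (.leaf 0x68aa88aa88888886888888aa) (.leaf 0x7999797999999797999797b9))) (.node (.node (.leaf 0x6888888888688a8a8a88a8aa) (.leaf 0x7979797999997979977777b9)) (.leaf 0x7779797999979799797977b9))) (.node (.node (.node (.leaf 0x68886886888a8a88886888aa) (.leaf 0x7977797999997797779979b9)) (.node (.leaf 0x7777797999979977999779b9) (.leaf 0x8888888888888888888c88c8))) (.node (.node (.leaf 0x6888a886888a8a8888a888aa) (.leaf 0x7997797999999979797999b9)) (.leaf 0x7797797999977799977799b9))))) (.node (.node (.node (.node (.node (.leaf 0x6688888a88a88888888a8aaa) (.leaf 0x7799777999799777799979b9)) (.node (.leaf 0x68a888888868a8a888a888aa) (.leaf 0x7999777999777997979779b9))) (.node (.node (.leaf 0x68888886aa88a8888a8888aa) (.leaf 0x7979777999779779997799b9)) (.leaf 0x7779777999797999777999b9))) (.node (.node (.node (.leaf 0x688688888aaa8888a88888aa)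 (.leaf 0x7977777999779997799997b9)) (.node (.leaf 0x7777777999797777979797b9) (.leaf 0x8888888848888888888888c8))) (.node (.node (.leaf 0x68888a888886a88a88888aaa) (.leaf 0x7997777999777779777977b9)) (.leaf 0x7797777999799999997777b9)))) (.node (.node (.node (.node (.leaf 0x686888888868a8a8886888aa) (.leaf 0x7799977999997797977977b9)) (.node (.leaf 0x6a8888688888aa88a88888aa) (.leaf 0x7999977999979977797777b9))) (.node (.node (.leaf 0x68888888a888888aa8a688aa) (.leaf 0x7979977999977799779797b9)) (.leaf 0x7779977999999979999997b9))) (.node (.node (.node (.leaf 0x688886888886a88a888886aa) (.leaf 0x7977977999977977977999b9)) (.node (.leaf 0x7777977999999797797799b9) (.leaf 0x888c888888888888888888c8))) (.node (.node (.leaf 0x688a888868888aa888888aaa) (.leaf 0x7997977999979799999979b9)) (.leaf 0x7797977999997979779779b9))))))) (.node (.node (.node (.node (.node (.node (.node (.leaf 0x66688888a88a8888888868aa) (.leaf 0x7797997799797797999779b9)) (.node (.leaf 0x688a8888a8888aa8888886aa) (.leaf 0x7997997799779977779979b9)))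 (.node (.node (.leaf 0x688888688688888888a8a6aa) (.leaf 0x7977997799777799797999b9)) (.leaf 0x7777997799799979977799b9))) (.node (.node (.node (.leaf 0x6868a88888888888aa888aaa) (.leaf 0x7799997799797979797977b9)) (.node (.leaf 0x6a8888a88888aa88688888aa) (.leaf 0x7999997799779799977777b9))) (.node (.node (.leaf 0x688888a88688888888a8aaaa) (.leaf 0x7979997799777977999797b9)) (.leaf 0x7779997799799797779997b9)))) (.node (.node (.node (.node (.leaf 0x668a8a88888888888aa888aa) (.leaf 0x7799797799999999979979b9)) (.node (.leaf 0x68a8a88888888888aa8886aa) (.leaf 0x7999797799977779799779b9))) (.node (.node (.leaf 0x688888888868868a8a8868aa) (.leaf 0x7979797799979997777799b9)) (.leaf 0x7779797799997777997999b9))) (.node (.node (.node (.leaf 0x688866a8a8688888888888aa) (.leaf 0x7977797799979779979997b9)) (.node (.leaf 0x7777797799997999799797b9) (.leaf 0x8888888888888888888848c8))) (.node (.node (.leaf 0x6888a6a8a8a88888888888aa) (.leaf 0x7997797799977997997977b9)) (.leaf 0x7797797799999777777777b9)))))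 (.node (.node (.node (.node (.node (.leaf 0x6688888688a88888888a86aa) (.leaf 0x7799777799777799999997b9)) (.node (.leaf 0x68a886888a888a88888a88aa) (.leaf 0x7999777799799979779797b9))) (.node (.node (.leaf 0x688888866a88a888868888aa) (.leaf 0x7979777799797797797777b9)) (.leaf 0x7779777799779977977977b9))) (.node (.node (.node (.leaf 0x6886888886aa8888688888aa) (.leaf 0x7977777799797979999979b9)) (.node (.leaf 0x7777777799779799779779b9) (.leaf 0x8888488888888888888888c8))) (.node (.node (.leaf 0x68888a86888888a8a888a8aa) (.leaf 0x7997777799799797977999b9)) (.leaf 0x7797777799777977797799b9)))) (.node (.node (.node (.node (.leaf 0x686886888a888a88888688aa) (.leaf 0x7799977799979779777999b9)) (.node (.leaf 0x6a8868888a8888aa888888aa) (.leaf 0x7999977799997999997799b9))) (.node (.node (.leaf 0x68888888a8888886a8aa88aa) (.leaf 0x7979977799999777979779b9)) (.leaf 0x7779977799977997799979b9))) (.node (.node (.node (.leaf 0x68888686888888a8a88868aa) (.leaf 0x7977977799999999777977b9)) (.node (.leaf 0x7777977799977779997777b9)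 (.leaf 0x8888888c88888888888888c8))) (.node (.node (.leaf 0x688a68888888a888888aa8aa) (.leaf 0x7997977799997777799997b9)) (.leaf 0x7797977799979997979797b9)))))) (.node (.node (.node (.node (.node (.node (.leaf 0x668868888a8888a6888888aa) (.leaf 0x7797999799977979999999b9)) (.node (.leaf 0x68a688aa8888888a888888aa) (.leaf 0x7997999799999799779799b9))) (.node (.node (.leaf 0x68888868888a88a88a8a88aa) (.leaf 0x7977999799997977797779b9)) (.leaf 0x7777999799979797977979b9))) (.node (.node (.node (.leaf 0x688668888888a888888a68aa) (.leaf 0x7799999799977797797797b9)) (.node (.leaf 0x6a8a8a88888888888a6888aa) (.leaf 0x7999999799999977977997b9))) (.node (.node (.leaf 0x688888a8888a88a88a8688aa) (.leaf 0x7979999799997799999977b9)) (.leaf 0x7779999799979979779777b9)))) (.node (.node (.node (.node (.leaf 0x686688aa88888886888888aa) (.leaf 0x7799799799779777979799b9)) (.node (.leaf 0x6a688888a88a88888888a8aa) (.leaf 0x7999799799797997799999b9))) (.node (.node (.leaf 0x6888888888a8868a8a88a8aa) (.leaf 0x7979799799799779777979b9))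 (.leaf 0x7779799799777999997779b9))) (.node (.node (.node (.leaf 0x6888688a888a8a8888a888aa) (.leaf 0x7977799799799997979777b9)) (.node (.leaf 0x7777799799777777799977b9) (.leaf 0x888888888888888c888888c8))) (.node (.node (.leaf 0x6888a88a888a8a88886888aa) (.leaf 0x7997799799797779997797b9)) (.leaf 0x7797799799779999777997b9))))) (.node (.node (.node (.node (.node (.leaf 0x668888a88888aa88a88888aa) (.leaf 0x7799779799997977999777b9)) (.node (.leaf 0x68a8888888a8a8a8886888aa) (.leaf 0x7999779799979797779977b9))) (.node (.node (.leaf 0x6888888868888886a8a688aa) (.leaf 0x7979779799977979797997b9)) (.leaf 0x7779779799999799977797b9))) (.node (.node (.node (.leaf 0x68868888a8888aa888888aaa) (.leaf 0x7977779799977797999799b9)) (.node (.leaf 0x7777779799999977779999b9) (.leaf 0x8888888888884888888888c8))) (.node (.node (.leaf 0x68888a88888aa88a888886aa) (.leaf 0x7997779799979979977779b9)) (.leaf 0x7797779799997799797979b9)))) (.node (.node (.node (.node (.leaf 0x6868888888a8a8a888a888aa) (.leaf 0x7799979799799997777779b9))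 (.node (.leaf 0x6a88888688a88888888a8aaa) (.leaf 0x7999979799777777997979b9))) (.node (.node (.leaf 0x6888888a6a88a8888a8888aa) (.leaf 0x7979979799779999979999b9)) (.leaf 0x7779979799797779799799b9))) (.node (.node (.node (.leaf 0x68888688888aa88a88888aaa) (.leaf 0x7977979799779777777797b9)) (.leaf 0x7777979799797997997997b9)) (.node (.node (.leaf 0x688a888886aa8888a88888aa) (.leaf 0x7997979799777999799777b9)) (.leaf 0x7797979799799779979977b9)))))))

/-- Part of `keyT`. -/
def keyT_p01 : Tr := .node (.node (.node (.node (.node (.node (.node (.node (.leaf 0x66688888688a88888888a8aa) (.leaf 0x7797997779997997777999b9)) (.node (.leaf 0x688a8888a88886a888888aaa) (.leaf 0x7997997779979777997799b9))) (.node (.node (.leaf 0x68888868868888888868aaaa) (.leaf 0x7977997779977999979779b9)) (.leaf 0x7777997779999779799979b9))) (.node (.node (.node (.leaf 0x6868a888888888886a8886aa) (.leaf 0x7799997779997779979797b9)) (.node (.leaf 0x6a8888a888886a88a88888aa) (.leaf 0x7999997779979999799997b9))) (.node (.node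 (.leaf 0x688888a8868888888868a6aa) (.leaf 0x7979997779977777777977b9)) (.leaf 0x7779997779999997997777b9)))) (.node (.node (.node (.node (.leaf 0x668a8688888888888a6888aa) (.leaf 0x7799797779799799797799b9)) (.node (.leaf 0x68a8a888888888886a888aaa) (.leaf 0x7999797779777979977999b9))) (.node (.node (.leaf 0x68888888886886868a88a8aa) (.leaf 0x7979797779779797999979b9)) (.leaf 0x7779797779797977779779b9))) (.node (.node (.node (.leaf 0x68886668a8a88888888888aa) (.leaf 0x7977797779779979797777b9)) (.node (.leaf 0x7777797779797799977977b9) (.leaf 0x8888888888888888884888c8))) (.node (.node (.leaf 0x6888a668a8688888888888aa) (.leaf 0x7997797779777797779797b9)) (.leaf 0x7797797779799977999997b9))))) (.node (.node (.node (.node (.node (.leaf 0x6688888688688888888a8aaa) (.leaf 0x7799777779977999777777b9)) (.node (.leaf 0x68a8868886888a88888688aa) (.leaf 0x7999777779999779997977b9))) (.node (.node (.leaf 0x688888866688a8888a8888aa) (.leaf 0x7979777779997997979997b9)) (.leaf 0x7779777779979777799797b9)))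 (.node (.node (.node (.leaf 0x68868888866a8888a88888aa) (.leaf 0x7977777779997779777799b9)) (.node (.leaf 0x7777777779979999997999b9) (.leaf 0x8848888888888888888888c8))) (.node (.node (.leaf 0x68888a8688888868a88868aa) (.leaf 0x7997777779999997799779b9)) (.leaf 0x7797777779977777979979b9)))) (.node (.node (.node (.node (.leaf 0x6868868886888a88888a88aa) (.leaf 0x7799977779779979999779b9)) (.node (.leaf 0x6a886888868888a6888888aa) (.leaf 0x7999977779797799779979b9))) (.node (.node (.leaf 0x68888888a888888668a688aa) (.leaf 0x7979977779799977797999b9)) (.leaf 0x7779977779777797977799b9))) (.node (.node (.node (.leaf 0x6888868688888868a888a8aa) (.leaf 0x7977977779799799999797b9)) (.node (.leaf 0x7777977779777979779997b9) (.leaf 0x888888888c888888888888c8))) (.node (.node (.leaf 0x688a688888886888888a68aa) (.leaf 0x7997977779797977977777b9)) (.leaf 0x7797977779779797797977b9)))))) (.node (.node (.node (.node (.node (.node (.leaf 0x66886888868888aa888888aa) (.leaf 0x7797999779777779777779b9)) (.node (.leaf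 0x68a6886a88888886888888aa) (.leaf 0x7997999779799999997979b9))) (.node (.node (.leaf 0x68888868888a88688a8688aa) (.leaf 0x7977999779797777979999b9)) (.leaf 0x7777999779779997799799b9))) (.node (.node (.node (.leaf 0x6886688888886888888aa8aa) (.leaf 0x7799999779777997979977b9)) (.node (.leaf 0x6a8a8688888888888aa888aa) (.leaf 0x7999999779799777799777b9))) (.node (.node (.leaf 0x688888a8888a88688a8a88aa) (.leaf 0x7979999779797999777797b9)) (.leaf 0x7779999779779779997997b9)))) (.node (.node (.node (.node (.leaf 0x6866886a8888888a888888aa) (.leaf 0x7799799779979977797979b9)) (.node (.leaf 0x6a688888688a8888888868aa) (.leaf 0x7999799779997797977779b9))) (.node (.node (.leaf 0x6888888888a886868a8868aa) (.leaf 0x7979799779999979999799b9)) (.leaf 0x7779799779977799779999b9))) (.node (.node (.node (.leaf 0x6888688a88868a88886888aa) (.leaf 0x7977799779999797797997b9)) (.node (.leaf 0x7777799779977977977797b9) (.leaf 0x88888888888888888c8888c8))) (.node (.node (.leaf 0x6888a88a88868a8888a888aa) (.leaf 0x7997799779997979779977b9))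 (.leaf 0x7797799779979799999777b9))))) (.node (.node (.node (.node (.node (.leaf 0x668888a888886a88688888aa) (.leaf 0x7799779779797777777997b9)) (.node (.leaf 0x68a8888888a868a888a888aa) (.leaf 0x7999779779779997997797b9))) (.node (.node (.leaf 0x688888886888888668aa88aa) (.leaf 0x7979779779777779979777b9)) (.leaf 0x7779779779799999799977b9))) (.node (.node (.node (.leaf 0x68868888a88886a8888886aa) (.leaf 0x7977779779777997777979b9)) (.node (.leaf 0x7777779779799777997779b9) (.leaf 0x8888888888488888888888c8))) (.node (.node (.leaf 0x68888a88888a688a88888aaa) (.leaf 0x7997779779779779799999b9)) (.leaf 0x7797779779797999979799b9)))) (.node (.node (.node (.node (.leaf 0x6868888888a868a8886888aa) (.leaf 0x7799979779999797999999b9)) (.node (.leaf 0x6a88888688688888888a86aa) (.leaf 0x7999979779977977779799b9))) (.node (.node (.leaf 0x6888888a6688a888868888aa) (.leaf 0x7979979779979799797779b9)) (.leaf 0x7779979779997979977979b9))) (.node (.node (.node (.leaf 0x68888688888a688a888886aa) (.leaf 0x7977979779979977999977b9))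 (.node (.leaf 0x7777979779997797779777b9) (.leaf 0x8c88888888888888888888c8))) (.node (.node (.leaf 0x688a8888866a8888688888aa) (.leaf 0x7997979779977799977997b9)) (.leaf 0x7797979779999979797797b9))))))) (.node (.node (.node (.node (.node (.node (.node (.leaf 0x66868688888888888aa888aa) (.leaf 0x7797997979979979977977b9)) (.node (.leaf 0x688aa88888886888888aa8aa) (.leaf 0x7997997979997799797777b9))) (.node (.node (.leaf 0x68888868888688688a8a88aa) (.leaf 0x7977997979999977779797b9)) (.leaf 0x7777997979977797999997b9))) (.node (.node (.node (.leaf 0x686a886a88888886888888aa) (.leaf 0x7799997979979797779779b9)) (.node (.leaf 0x6a88a888868888aa888888aa) (.leaf 0x7999997979997977999979b9))) (.node (.node (.leaf 0x688888a8888688688a8688aa) (.leaf 0x7979997979999799977999b9)) (.leaf 0x7779997979977979797799b9)))) (.node (.node (.node (.node (.leaf 0x66a88888688a8888888868aa) (.leaf 0x7799797979777777997777b9)) (.node (.leaf 0x68aa886a8888888a888888aa) (.leaf 0x7999797979799997777977b9))) (.node (.node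 (.leaf 0x6888888888688a868a8868aa) (.leaf 0x7979797979797779799997b9)) (.leaf 0x7779797979779999979797b9))) (.node (.node (.node (.leaf 0x6888688688868a8888a888aa) (.leaf 0x7977797979797997997799b9)) (.node (.leaf 0x7777797979779777777999b9) (.leaf 0x888888888888888888888cc8))) (.node (.node (.leaf 0x6888a88688868a88886888aa) (.leaf 0x7997797979799779979779b9)) (.leaf 0x7797797979777999799979b9))))) (.node (.node (.node (.node (.node (.leaf 0x6688888a88688888888a86aa) (.leaf 0x7799777979999977977799b9)) (.node (.leaf 0x68a88888886868a8886888aa) (.leaf 0x7999777979977797797999b9))) (.node (.node (.leaf 0x68888886a688a888868888aa) (.leaf 0x7979777979979979779979b9)) (.leaf 0x7779777979997799999779b9))) (.node (.node (.node (.leaf 0x688688888a6a8888688888aa) (.leaf 0x7977777979979797977777b9)) (.node (.leaf 0x7777777979997977797977b9) (.leaf 0x8888884888888888888888c8))) (.node (.node (.leaf 0x68888a888886688a888886aa) (.leaf 0x7997777979977979999797b9)) (.leaf 0x7797777979999799779997b9)))) (.node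 (.node (.node (.node (.leaf 0x68688888886868a888a888aa) (.leaf 0x7799977979797997799797b9)) (.node (.leaf 0x6a88886888886a88688888aa) (.leaf 0x7999977979779777979997b9))) (.node (.node (.leaf 0x68888888a888888a68aa88aa) (.leaf 0x7979977979777999997977b9)) (.leaf 0x7779977979799779777777b9))) (.node (.node (.node (.leaf 0x688886888886688a88888aaa) (.leaf 0x7977977979777777799779b9)) (.node (.leaf 0x7777977979799997979979b9) (.leaf 0x88888c8888888888888888c8))) (.node (.node (.leaf 0x688a8888688886a8888886aa) (.leaf 0x7997977979779999777799b9)) (.leaf 0x7797977979797779997999b9)))))) (.node (.node (.node (.node (.node (.node (.leaf 0x6688886888886a88a88888aa) (.leaf 0x7797999979799797977797b9)) (.node (.leaf 0x68a86888888888886a8886aa) (.leaf 0x7997999979777977797997b9))) (.node (.node (.leaf 0x688888688a8888888868a6aa) (.leaf 0x7977999979779799779977b9)) (.leaf 0x7777999979797979999777b9))) (.node (.node (.node (.leaf 0x68868888688886a888888aaa) (.leaf 0x7799999979799979779999b9)) (.node (.leaf 0x6aa88888688a88888888a8aa)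 (.leaf 0x7999999979777799999799b9))) (.node (.node (.leaf 0x688888a88a8888888868aaaa) (.leaf 0x7979999979779977977779b9)) (.leaf 0x7779999979797797797979b9)))) (.node (.node (.node (.node (.leaf 0x68686888888888886a888aaa) (.leaf 0x7799799979997999997997b9)) (.node (.leaf 0x6a868688888888888a6888aa) (.leaf 0x7999799979979779777797b9))) (.node (.node (.leaf 0x6888888888a88a868a88a8aa) (.leaf 0x7979799979977997799777b9)) (.leaf 0x7779799979999777979977b9))) (.node (.node (.node (.leaf 0x68886a68a8688888888888aa) (.leaf 0x7977799979977779997979b9)) (.node (.leaf 0x7777799979999999777779b9) (.leaf 0x8888888888888c88888888c8))) (.node (.node (.leaf 0x6888aa68a8a88888888888aa) (.leaf 0x7997799979979997979999b9)) (.leaf 0x7797799979997777799799b9))))) (.node (.node (.node (.node (.node (.leaf 0x6688a888868888a6888888aa) (.leaf 0x7799779979779799977979b9)) (.node (.leaf 0x68a88a8886888a88888a88aa) (.leaf 0x7999779979797979797779b9))) (.node (.node (.leaf 0x688888886888888a68a688aa) (.leaf 0x7979779979799797779799b9))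 (.leaf 0x7779779979777977999999b9))) (.node (.node (.node (.leaf 0x6886a88888886888888a68aa) (.leaf 0x7977779979799979977997b9)) (.node (.leaf 0x7777779979777799797797b9) (.leaf 0x8888888888888848888888c8))) (.node (.node (.leaf 0x68888a8a88888868a888a8aa) (.leaf 0x7997779979797797999977b9)) (.leaf 0x7797779979779977779777b9)))) (.node (.node (.node (.node (.leaf 0x68688a8886888a88888688aa) (.leaf 0x7799979979977779799977b9)) (.node (.leaf 0x6a88888a88688888888a8aaa) (.leaf 0x7999979979999999979777b9))) (.node (.node (.leaf 0x6888888aa688a8888a8888aa) (.leaf 0x7979979979997777997797b9)) (.leaf 0x7779979979979997777997b9))) (.node (.node (.node (.leaf 0x6888868a88888868a88868aa) (.leaf 0x7977979979997999799999b9)) (.leaf 0x7777979979979779979799b9)) (.node (.node (.leaf 0x688a88888a6a8888a88888aa) (.leaf 0x7997979979999777777979b9)) (.leaf 0x7797979979977997997779b9)))))))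

/-- Part of `keyT`. -/
def keyT_p10 : Tr := .node (.node (.node (.node (.node (.node (.node (.node (.leaf 0x6668888868868888888868aa) (.leaf 0x7797997777977977799777b9)) (.node (.leaf 0x688a8888a8888668888886aa) (.leaf 0x7997997777999797979977b9))) (.node (.node (.leaf 0x6888886886888888886866aa) (.leaf 0x7977997777997979997997b9)) (.leaf 0x7777997777979799777797b9))) (.node (.node (.node (.leaf 0x6868a8888888888866888aaa) (.leaf 0x7799997777977799997979b9)) (.node (.leaf 0x6a8888a888886688688888aa) (.leaf 0x7999997777999979777779b9))) (.node (.node (.leaf 0x688888a88688888888686aaa) (.leaf 0x7979997777997797799799b9)) (.leaf 0x7779997777979977979999b9)))) (.node (.node (.node (.node (.leaf 0x668a86888888888886a888aa) (.leaf 0x7799797777779779779977b9)) (.node (.leaf 0x68a8a88888888888668886aa) (.leaf 0x7999797777797999999777b9))) (.node (.node (.leaf 0x6888888888688686868868aa) (.leaf 0x7979797777799777977797b9)) (.leaf 0x7779797777777997797997b9))) (.node (.node (.node (.leaf 0x6888666868688888888888aa)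 (.leaf 0x7977797777799999779999b9)) (.node (.leaf 0x7777797777777779999799b9) (.leaf 0x8888888888888888848888c8))) (.node (.node (.leaf 0x6888a66868a88888888888aa) (.leaf 0x7997797777797777797979b9)) (.leaf 0x7797797777779997977779b9))))) (.node (.node (.node (.node (.node (.leaf 0x6688888688688888888686aa) (.leaf 0x7799777777997979799999b9)) (.node (.leaf 0x68a8868886888688888a88aa) (.leaf 0x7999777777979799979799b9))) (.node (.node (.leaf 0x6888888666886888868888aa) (.leaf 0x7979777777977977997779b9)) (.leaf 0x7779777777999797777979b9))) (.node (.node (.node (.leaf 0x6886888886668888688888aa) (.leaf 0x7977777777977799799977b9)) (.node (.leaf 0x7777777777999979979777b9) (.leaf 0x8488888888888888888888c8))) (.node (.node (.leaf 0x68888a86888888686888a8aa) (.leaf 0x7997777777979977777997b9)) (.leaf 0x7797777777997797997797b9)))) (.node (.node (.node (.node (.leaf 0x6868868886888688888688aa) (.leaf 0x7799977777799999977997b9)) (.node (.leaf 0x6a8868888688886a888888aa) (.leaf 0x7999977777777779797797b9)))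 (.node (.node (.leaf 0x68888888a8888886686a88aa) (.leaf 0x7979977777779997779777b9)) (.leaf 0x7779977777797777999977b9))) (.node (.node (.node (.leaf 0x6888868688888868688868aa) (.leaf 0x7977977777779779977979b9)) (.node (.leaf 0x7777977777797999797779b9) (.leaf 0x8888888888c88888888888c8))) (.node (.node (.leaf 0x688a6888888868888886a8aa) (.leaf 0x7997977777777997999999b9)) (.leaf 0x7797977777799777779799b9)))))) (.node (.node (.node (.node (.node (.node (.leaf 0x6688688886888866888888aa) (.leaf 0x7797999777797799799997b9)) (.node (.leaf 0x68a688668888888a888888aa) (.leaf 0x7997999777779979979797b9))) (.node (.node (.leaf 0x68888868888a8868868a88aa) (.leaf 0x7977999777777797997777b9)) (.leaf 0x7777999777799977777977b9))) (.node (.node (.node (.leaf 0x6886688888886888888668aa) (.leaf 0x7799999777797977997799b9)) (.node (.leaf 0x6a8a868888888888866888aa) (.leaf 0x7999999777779797777999b9))) (.node (.node (.leaf 0x688888a8888a8868868688aa) (.leaf 0x7979999777777979799979b9)) (.leaf 0x7779999777799799979779b9))))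 (.node (.node (.node (.node (.leaf 0x6866886688888886888888aa) (.leaf 0x7799799777999997779797b9)) (.node (.leaf 0x6a688888688688888888a8aa) (.leaf 0x7999799777977777999997b9))) (.node (.node (.leaf 0x6888888888a886868688a8aa) (.leaf 0x7979799777979999977977b9)) (.leaf 0x7779799777997779797777b9))) (.node (.node (.node (.leaf 0x6888688a8886868888a888aa) (.leaf 0x7977799777979777779779b9)) (.node (.leaf 0x7777799777997997999979b9) (.leaf 0x888888888888888888c888c8))) (.node (.node (.leaf 0x6888a88a88868688886888aa) (.leaf 0x7997799777977999797799b9)) (.leaf 0x7797799777999779977999b9))))) (.node (.node (.node (.node (.node (.leaf 0x668888a888886688a88888aa) (.leaf 0x7799779777777797799779b9)) (.node (.leaf 0x68a8888888a86868886888aa) (.leaf 0x7999779777799977979979b9))) (.node (.node (.leaf 0x6888888868888886686688aa) (.leaf 0x7979779777797799997999b9)) (.leaf 0x7779779777779979777799b9))) (.node (.node (.node (.leaf 0x68868888a888866888888aaa) (.leaf 0x7977779777797977799797b9)) (.node (.leaf 0x7777779777779797979997b9)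 (.leaf 0x8888888884888888888888c8))) (.node (.node (.leaf 0x68888a88888a6886888886aa) (.leaf 0x7997779777799799777777b9)) (.leaf 0x7797779777777979997977b9)))) (.node (.node (.node (.node (.leaf 0x6868888888a8686888a888aa) (.leaf 0x7799979777979777977777b9)) (.node (.leaf 0x6a8888868868888888868aaa) (.leaf 0x7999979777997997797977b9))) (.node (.node (.leaf 0x6888888a668868888a8888aa) (.leaf 0x7979979777999779779997b9)) (.leaf 0x7779979777977999999797b9))) (.node (.node (.node (.leaf 0x68888688888a688688888aaa) (.leaf 0x7977979777999997977799b9)) (.node (.leaf 0x7777979777977777797999b9) (.leaf 0x88c8888888888888888888c8))) (.node (.node (.leaf 0x688a888886668888a88888aa) (.leaf 0x7997979777997779999779b9)) (.leaf 0x7797979777979999779979b9))))))) (.node (.node (.node (.node (.node (.node (.node (.leaf 0x6686868888888888866888aa) (.leaf 0x7797997977999999999799b9)) (.node (.leaf 0x688aa88888886888888668aa) (.leaf 0x7997997977977779779999b9))) (.node (.node (.leaf 0x6888886888868868868688aa) (.leaf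 0x7977997977979997797979b9)) (.leaf 0x7777997977997777977779b9))) (.node (.node (.node (.leaf 0x686a88668888888a888888aa) (.leaf 0x7799997977999777797997b9)) (.node (.leaf 0x6a88a88886888866888888aa) (.leaf 0x7999997977977997977797b9))) (.node (.node (.leaf 0x688888a888868868868a88aa) (.leaf 0x7979997977979779999777b9)) (.leaf 0x7779997977997999779977b9)))) (.node (.node (.node (.node (.leaf 0x66a88888688688888888a8aa) (.leaf 0x7799797977797797979999b9)) (.node (.leaf 0x68aa886688888886888888aa) (.leaf 0x7999797977779977799799b9))) (.node (.node (.leaf 0x6888888888688a868688a8aa) (.leaf 0x7979797977777799777779b9)) (.leaf 0x7779797977799979997979b9))) (.node (.node (.node (.leaf 0x6888688688868688886888aa) (.leaf 0x7977797977777977979977b9)) (.node (.leaf 0x7777797977799797799777b9) (.leaf 0x8888888888888888888884c8))) (.node (.node (.leaf 0x6888a8868886868888a888aa) (.leaf 0x7997797977779799997997b9)) (.leaf 0x7797797977797979777797b9))))) (.node (.node (.node (.node (.node (.leaf 0x6688888a8868888888868aaa)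 (.leaf 0x7799777977979997999977b9)) (.node (.leaf 0x68a888888868686888a888aa) (.leaf 0x7999777977997777779777b9))) (.node (.node (.leaf 0x68888886a68868888a8888aa) (.leaf 0x7979777977999999797797b9)) (.leaf 0x7779777977977779977997b9))) (.node (.node (.node (.leaf 0x688688888a668888a88888aa) (.leaf 0x7977777977999777999999b9)) (.node (.leaf 0x7777777977977997779799b9) (.leaf 0x8888848888888888888888c8))) (.node (.node (.leaf 0x68888a888886688688888aaa) (.leaf 0x7997777977997999977979b9)) (.leaf 0x7797777977979779797779b9)))) (.node (.node (.node (.node (.leaf 0x6868888888686868886888aa) (.leaf 0x7799977977777977777979b9)) (.node (.leaf 0x6a88886888886688a88888aa) (.leaf 0x7999977977799797997779b9))) (.node (.node (.leaf 0x68888888a888888a686688aa) (.leaf 0x7979977977797979979799b9)) (.leaf 0x7779977977779799799999b9))) (.node (.node (.node (.leaf 0x6888868888866886888886aa) (.leaf 0x7977977977797797777997b9)) (.node (.leaf 0x7777977977779977997797b9) (.leaf 0x888888c888888888888888c8))) (.node (.node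 (.leaf 0x688a88886888866888888aaa) (.leaf 0x7997977977799979799977b9)) (.leaf 0x7797977977777799979777b9)))))) (.node (.node (.node (.node (.node (.node (.leaf 0x6688886888886688688888aa) (.leaf 0x7797999977779777999979b9)) (.node (.leaf 0x68a868888888888866888aaa) (.leaf 0x7997999977797997779779b9))) (.node (.node (.leaf 0x688888688a88888888686aaa) (.leaf 0x7977999977799779797799b9)) (.leaf 0x7777999977777999977999b9))) (.node (.node (.node (.leaf 0x6886888868888668888886aa) (.leaf 0x7799999977779999797777b9)) (.node (.leaf 0x6aa8888868868888888868aa) (.leaf 0x7999999977797779977977b9))) (.node (.node (.leaf 0x688888a88a888888886866aa) (.leaf 0x7979999977799997999997b9)) (.leaf 0x7779999977777777779797b9)))) (.node (.node (.node (.node (.leaf 0x6868688888888888668886aa) (.leaf 0x7799799977977979979779b9)) (.node (.leaf 0x6a8686888888888886a888aa) (.leaf 0x7999799977999799799979b9))) (.node (.node (.leaf 0x6888888888a88a86868868aa) (.leaf 0x7979799977997977777999b9)) (.leaf 0x7779799977979797997799b9)))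 (.node (.node (.node (.leaf 0x68886a6868a88888888888aa) (.leaf 0x7977799977997799979797b9)) (.node (.leaf 0x7777799977979979799997b9) (.leaf 0x88888888888888c8888888c8))) (.node (.node (.leaf 0x6888aa6868688888888888aa) (.leaf 0x7997799977999977997777b9)) (.leaf 0x7797799977977797777977b9))))) (.node (.node (.node (.node (.node (.leaf 0x6688a8888688886a888888aa) (.leaf 0x7799779977799779999797b9)) (.node (.leaf 0x68a88a8886888688888688aa) (.leaf 0x7999779977777999779997b9))) (.node (.node (.leaf 0x688888886888888a686a88aa) (.leaf 0x7979779977779777797977b9)) (.leaf 0x7779779977797997977777b9))) (.node (.node (.node (.leaf 0x6886a888888868888886a8aa) (.leaf 0x7977779977779999999779b9)) (.node (.leaf 0x7777779977797779779979b9) (.leaf 0x8888888888888488888888c8))) (.node (.node (.leaf 0x68888a8a88888868688868aa) (.leaf 0x7997779977777777977799b9)) (.leaf 0x7797779977799997797999b9)))) (.node (.node (.node (.node (.leaf 0x68688a8886888688888a88aa) (.leaf 0x7799979977997799777799b9)) (.node (.leaf 0x6a88888a88688888888686aa)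 (.leaf 0x7999979977979979997999b9))) (.node (.node (.leaf 0x6888888aa6886888868888aa) (.leaf 0x7979979977977797979979b9)) (.leaf 0x7779979977999977799779b9))) (.node (.node (.node (.leaf 0x6888868a888888686888a8aa) (.leaf 0x7977979977977979777777b9)) (.leaf 0x7777979977999799997977b9)) (.node (.node (.leaf 0x688a88888a668888688888aa) (.leaf 0x7997979977979797799797b9)) (.leaf 0x7797979977997977979997b9)))))))

/-- Part of `keyT`. -/
def keyT_p11 : Tr := .node (.node (.node (.node (.node (.node (.node (.node (.leaf 0x66688888a88688888888a8aa) (.leaf 0x7797997797777777977997b9)) (.node (.leaf 0x688a8888a8888a6888888aaa) (.leaf 0x7997997797799997797797b9))) (.node (.node (.leaf 0x688888688688888888a86aaa) (.leaf 0x7977997797797779779777b9)) (.leaf 0x7777997797779999999977b9))) (.node (.node (.node (.leaf 0x6868a88888888888a68886aa) (.leaf 0x7799997797777999779799b9)) (.node (.leaf 0x6a8888a88888a688a88888aa) (.leaf 0x7999997797799779999999b9))) (.node (.node (.leaf 0x688888a88688888888a866aa) (.leaf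 0x7979997797797997977979b9)) (.leaf 0x7779997797779777797779b9)))) (.node (.node (.node (.node (.leaf 0x668a8a8888888888866888aa) (.leaf 0x7799797797979979997797b9)) (.node (.leaf 0x68a8a88888888888a6888aaa) (.leaf 0x7999797797997799777997b9))) (.node (.node (.leaf 0x688888888868868a8688a8aa) (.leaf 0x7979797797999977799977b9)) (.leaf 0x7779797797977797979777b9))) (.node (.node (.node (.leaf 0x688866a868a88888888888aa) (.leaf 0x7977797797999799997779b9)) (.node (.leaf 0x7777797797977979777979b9) (.leaf 0x8888888888888888888488c8))) (.node (.node (.leaf 0x6888a6a868688888888888aa) (.leaf 0x7997797797997977979799b9)) (.leaf 0x7797797797979797799999b9))))) (.node (.node (.node (.node (.node (.leaf 0x6688888688a8888888868aaa) (.leaf 0x7799777797797779977779b9)) (.node (.leaf 0x68a886888a888688888688aa) (.leaf 0x7999777797779999797979b9))) (.node (.node (.leaf 0x688888866a8868888a8888aa) (.leaf 0x7979777797777777779999b9)) (.leaf 0x7779777797799997999799b9))) (.node (.node (.node (.leaf 0x6886888886a68888a88888aa)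 (.leaf 0x7977777797777999977797b9)) (.node (.leaf 0x7777777797799779797997b9) (.leaf 0x8884888888888888888888c8))) (.node (.node (.leaf 0x68888a86888888a8688868aa) (.leaf 0x7997777797779777999777b9)) (.leaf 0x7797777797797997779977b9)))) (.node (.node (.node (.node (.leaf 0x686886888a888688888a88aa) (.leaf 0x7799977797999799799777b9)) (.node (.leaf 0x6a8868888a888866888888aa) (.leaf 0x7999977797977979979977b9))) (.node (.node (.leaf 0x68888888a8888886a86688aa) (.leaf 0x7979977797979797997997b9)) (.leaf 0x7779977797997977777797b9))) (.node (.node (.node (.leaf 0x68888686888888a86888a8aa) (.leaf 0x7977977797979979799799b9)) (.node (.leaf 0x7777977797997799979999b9) (.leaf 0x88888888c8888888888888c8))) (.node (.node (.leaf 0x688a68888888a888888668aa) (.leaf 0x7997977797977797777779b9)) (.leaf 0x7797977797999977997979b9)))))) (.node (.node (.node (.node (.node (.node (.leaf 0x668868888a88886a888888aa) (.leaf 0x7797999797997999977777b9)) (.node (.leaf 0x68a688a688888886888888aa) (.leaf 0x7997999797979779797977b9)))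 (.node (.node (.leaf 0x68888868888a88a8868688aa) (.leaf 0x7977999797977997779997b9)) (.leaf 0x7777999797999777999797b9))) (.node (.node (.node (.leaf 0x688668888888a8888886a8aa) (.leaf 0x7799999797997777779979b9)) (.node (.leaf 0x6a8a8a888888888886a888aa) (.leaf 0x7999999797979997999779b9))) (.node (.node (.leaf 0x688888a8888a88a8868a88aa) (.leaf 0x7979999797977779977799b9)) (.leaf 0x7779999797999999797999b9)))) (.node (.node (.node (.node (.leaf 0x686688a68888888a888888aa) (.leaf 0x7799799797799797997977b9)) (.node (.leaf 0x6a688888a8868888888868aa) (.leaf 0x7999799797777977777777b9))) (.node (.node (.leaf 0x6888888888a8868a868868aa) (.leaf 0x7979799797779799799797b9)) (.leaf 0x7779799797797979979997b9))) (.node (.node (.node (.leaf 0x6888688a888a8688886888aa) (.leaf 0x7977799797779977997999b9)) (.node (.leaf 0x7777799797797797777799b9) (.leaf 0x8888888888888888c88888c8))) (.node (.node (.leaf 0x6888a88a888a868888a888aa) (.leaf 0x7997799797777799979979b9)) (.leaf 0x7797799797799979799779b9)))))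 (.node (.node (.node (.node (.node (.leaf 0x668888a88888a688688888aa) (.leaf 0x7799779797977997977999b9)) (.node (.leaf 0x68a8888888a8a86888a888aa) (.leaf 0x7999779797999777797799b9))) (.node (.node (.leaf 0x6888888868888886a86a88aa) (.leaf 0x7979779797997999779779b9)) (.leaf 0x7779779797979779999979b9))) (.node (.node (.node (.leaf 0x68868888a8888a68888886aa) (.leaf 0x7977779797997777977977b9)) (.node (.leaf 0x7777779797979997797777b9) (.leaf 0x8888888888848888888888c8))) (.node (.node (.leaf 0x68888a88888aa88688888aaa) (.leaf 0x7997779797999999999997b9)) (.leaf 0x7797779797977779779797b9)))) (.node (.node (.node (.node (.leaf 0x6868888888a8a868886888aa) (.leaf 0x7799979797779977799997b9)) (.node (.leaf 0x6a88888688a88888888686aa) (.leaf 0x7999979797797797979797b9))) (.node (.node (.leaf 0x6888888a6a886888868888aa) (.leaf 0x7979979797799979997777b9)) (.leaf 0x7779979797777799777977b9))) (.node (.node (.node (.leaf 0x68888688888aa886888886aa) (.leaf 0x7977979797799797799979b9)) (.leaf 0x7777979797777977979779b9))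 (.node (.node (.leaf 0x688a888886a68888688888aa) (.leaf 0x7997979797797979777999b9)) (.leaf 0x7797979797779799997799b9))))))) (.node (.node (.node (.node (.node (.node (.node (.leaf 0x66868a888888888886a888aa) (.leaf 0x7797997997799799777979b9)) (.node (.leaf 0x688aa8888888a8888886a8aa) (.leaf 0x7997997997777979997779b9))) (.node (.node (.leaf 0x68888868888688a8868a88aa) (.leaf 0x7977997997779797979799b9)) (.leaf 0x7777997997797977799999b9))) (.node (.node (.node (.leaf 0x686a88a688888886888888aa) (.leaf 0x7799997997799977979777b9)) (.node (.leaf 0x6a88a8888a88886a888888aa) (.leaf 0x7999997997777797799977b9))) (.node (.node (.leaf 0x688888a8888688a8868688aa) (.leaf 0x7979997997779979777997b9)) (.leaf 0x7779997997797799997797b9)))) (.node (.node (.node (.node (.leaf 0x66a88888a8868888888868aa) (.leaf 0x7799797997997997797779b9)) (.node (.leaf 0x68aa88a68888888a888888aa) (.leaf 0x7999797997979777977979b9))) (.node (.node (.leaf 0x6888888888688a8a868868aa) (.leaf 0x7979797997977999999999b9)) (.leaf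 0x7779797997999779779799b9))) (.node (.node (.node (.leaf 0x68886886888a868888a888aa) (.leaf 0x7977797997977777797797b9)) (.node (.leaf 0x7777797997999997977997b9) (.leaf 0x88888888888888888888c8c8))) (.node (.node (.leaf 0x6888a886888a8688886888aa) (.leaf 0x7997797997979999779777b9)) (.leaf 0x7797797997997779999977b9))))) (.node (.node (.node (.node (.node (.leaf 0x6688888a88a88888888686aa) (.leaf 0x7799777997779797777797b9)) (.node (.leaf 0x68a888888868a868886888aa) (.leaf 0x7999777997797977997997b9))) (.node (.node (.leaf 0x68888886aa886888868888aa) (.leaf 0x7979777997799799979977b9)) (.leaf 0x7779777997777979799777b9))) (.node (.node (.node (.leaf 0x688688888aa68888688888aa) (.leaf 0x7977777997799977777779b9)) (.node (.leaf 0x7777777997777797997979b9) (.leaf 0x8888888488888888888888c8))) (.node (.node (.leaf 0x68888a888886a886888886aa) (.leaf 0x7997777997797799799799b9)) (.leaf 0x7797777997779979979999b9)))) (.node (.node (.node (.node (.leaf 0x686888888868a86888a888aa) (.leaf 0x7799977997977777999799b9))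 (.node (.leaf 0x6a8888688888a688688888aa) (.leaf 0x7999977997999997779999b9))) (.node (.node (.leaf 0x68888888a888888aa86a88aa) (.leaf 0x7979977997997779797979b9)) (.leaf 0x7779977997979999977779b9))) (.node (.node (.node (.leaf 0x688886888886a88688888aaa) (.leaf 0x7977977997997997999777b9)) (.node (.leaf 0x7777977997979777779977b9) (.leaf 0x8888c88888888888888888c8))) (.node (.node (.leaf 0x688a888868888a68888886aa) (.leaf 0x7997977997999779977797b9)) (.leaf 0x7797977997977999797997b9)))))) (.node (.node (.node (.node (.node (.node (.leaf 0x668888688888a688a88888aa) (.leaf 0x7797999997979977777799b9)) (.node (.leaf 0x68a8688888888888a68886aa) (.leaf 0x7997999997997797997999b9))) (.node (.node (.leaf 0x688888688a88888888a866aa) (.leaf 0x7977999997999979979979b9)) (.leaf 0x7777999997977799799779b9))) (.node (.node (.node (.leaf 0x6886888868888a6888888aaa) (.leaf 0x7799999997979799979997b9)) (.node (.leaf 0x6aa88888a88688888888a8aa) (.leaf 0x7999999997997979799797b9))) (.node (.node (.leaf 0x688888a88a88888888a86aaa)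 (.leaf 0x7979999997999797777777b9)) (.leaf 0x7779999997977977997977b9)))) (.node (.node (.node (.node (.leaf 0x6868688888888888a6888aaa) (.leaf 0x7799799997777779797999b9)) (.node (.leaf 0x6a868a8888888888866888aa) (.leaf 0x7999799997799999977799b9))) (.node (.node (.leaf 0x6888888888a88a8a8688a8aa) (.leaf 0x7979799997797777999779b9)) (.leaf 0x7779799997779997779979b9))) (.node (.node (.node (.leaf 0x68886aa868688888888888aa) (.leaf 0x7977799997797999797977b9)) (.node (.leaf 0x7777799997779779977777b9) (.leaf 0x888888888888c888888888c8))) (.node (.node (.leaf 0x6888aaa868a88888888888aa) (.leaf 0x7997799997799777779997b9)) (.leaf 0x7797799997777997999797b9))))) (.node (.node (.node (.node (.node (.leaf 0x6688a8888a888866888888aa) (.leaf 0x7799779997999979777977b9)) (.node (.leaf 0x68a88a888a888688888a88aa) (.leaf 0x7999779997977799997777b9))) (.node (.node (.leaf 0x688888886888888aa86688aa) (.leaf 0x7979779997979977979797b9)) (.leaf 0x7779779997997797799997b9))) (.node (.node (.node (.leaf 0x6886a8888888a888888668aa)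 (.leaf 0x7977779997979799777999b9)) (.node (.leaf 0x7777779997997979997799b9) (.leaf 0x8888888888888884888888c8))) (.node (.node (.leaf 0x68888a8a888888a86888a8aa) (.leaf 0x7997779997977977799979b9)) (.leaf 0x7797779997999797979779b9)))) (.node (.node (.node (.node (.leaf 0x68688a888a888688888688aa) (.leaf 0x7799979997797999999979b9)) (.node (.leaf 0x6a88888a88a8888888868aaa) (.leaf 0x7999979997779779779779b9))) (.node (.node (.leaf 0x6888888aaa8868888a8888aa) (.leaf 0x7979979997777997797799b9)) (.leaf 0x7779979997799777977999b9))) (.node (.node (.node (.leaf 0x6888868a888888a8688868aa) (.leaf 0x7977979997777779999997b9)) (.leaf 0x7777979997799999779797b9)) (.node (.node (.leaf 0x688a88888aa68888a88888aa) (.leaf 0x7997979997779997977977b9)) (.leaf 0x7797979997797777797777b9)))))))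

/-- The keys of the 891 vectors. -/
def keyT : Tr := .node (.node (keyT_p00) (keyT_p01)) (.node (keyT_p10) (keyT_p11))

/-- Part of `planeT`. -/
def planeT_p00 : Tr := .node (.node (.node (.node (.node (.node (.node (.node (.leaf 0x7605a500) (.leaf 0x7236c166a)) (.node (.leaf 0x43e1725b7) (.leaf 0x7f1466d9))) (.node (.node (.leaf 0x67072c076) (.leaf 0x79755d76a)) (.leaf 0x1f8723666))) (.node (.node (.node (.leaf 0x15350f5af) (.leaf 0x567a66e9)) (.node (.leaf 0x65d4c9518) (.leaf 0x17818765a))) (.node (.node (.leaf 0x4a45bb583) (.leaf 0x6a67d5728)) (.leaf 0x6e54465aa)))) (.node (.node (.node (.node (.leaf 0x5a969f59b) (.leaf 0x6c162844b)) (.node (.leaf 0x67b7e95af) (.leaf 0x1b44d16d9))) (.node (.node (.leaf 0x5e96ea5c1) (.leaf 0x64c756728)) (.leaf 88889066))) (.node (.node (.node (.leaf 0x72c6ea06e) (.leaf 0x18a71476a)) (.node (.leaf 0x4046665f7) (.leaf 0x6fe5c1076))) (.node (.node (.leaf 0x4a4618076) (.leaf 0x7d71c565a)) (.leaf 0x5fa56d6ab))))) (.node (.node (.node (.node (.node (.leaf 0x5a04d155a)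 (.leaf 0x5f76384c9)) (.node (.leaf 0x56d72852c) (.leaf 0x4927af1b3))) (.node (.node (.leaf 0x72c075018) (.leaf 0x65d462108)) (.leaf 0x55f56d453))) (.node (.node (.node (.leaf 0x6a50f500) (.leaf 0x7b96bb408)) (.node (.leaf 0x1305f9042) (.leaf 0x1927ed172))) (.node (.node (.leaf 0x5997af018) (.leaf 0x4a31c950f)) (.leaf 0x5996f5153)))) (.node (.node (.node (.node (.leaf 0x1206fe52c) (.leaf 0x68416244a)) (.node (.leaf 0x6ee4c95d9) (.leaf 0x43d7af1f1))) (.node (.node (.leaf 0x72369b05a) (.leaf 0x13566e4a3)) (.leaf 0x4fc6766fe))) (.node (.node (.node (.leaf 0x6055a7542) (.leaf 0x644528462)) (.node (.leaf 0x6f560555d) (.leaf 0x638042534))) (.node (.node (.leaf 0x1585f9542) (.leaf 0x7e07ed130)) (.leaf 0x7f60548b)))))) (.node (.node (.node (.node (.node (.node (.leaf 0x60d4d15d9) (.leaf 0x5f6e9600)) (.node (.leaf 0x7b965a06e) (.leaf 0x1b1146618))) (.node (.node (.leaf 0x67a453576) (.leaf 0x7d555f7ab)) (.leaf 0x1b4776487))) (.node (.node (.node (.leaf 0x7cc55d56e) (.leaf 0x68366a126)) (.node (.leaf 0x5214c959b)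 (.leaf 0x6fe18769b))) (.node (.node (.leaf 0x44b638576) (.leaf 0x7e07977e9)) (.leaf 0x44650f126)))) (.node (.node (.node (.node (.leaf 0x51c4d1042) (.leaf 0x6ab600075)) (.node (.leaf 0x67072856e) (.leaf 0x104492618))) (.node (.node (.leaf 0x507af05a) (.leaf 0x65d7147e9)) (.leaf 0x4c56a7453))) (.node (.node (.node (.leaf 0x5aa1b35f5) (.leaf 0x7f67567ab)) (.node (.leaf 0x624404153) (.leaf 0x4535af5c1))) (.node (.node (.leaf 0x5fa1305f5) (.leaf 0x5ea4d169b)) (.leaf 0x7b9683628))))) (.node (.node (.node (.node (.node (.leaf 0x756ea518) (.leaf 0x1e143e48b)) (.node (.leaf 0x4f27e95ed) (.leaf 0x64472c1f1))) (.node (.node (.leaf 0x1a85f9583) (.leaf 0x7e056a420)) (.leaf 0x57e6b743e))) (.node (.node (.node (.leaf 0x6051b35b7) (.leaf 0x53362c4e1)) (.node (.leaf 0x18f5a5634) (.leaf 0x5f9042500))) (.node (.node (.leaf 0x1a86bb534) (.leaf 0x40276e130)) (.leaf 0x67a40244a)))) (.node (.node (.node (.node (.leaf 0x1201a85ed) (.leaf 0x70f1e14c9)) (.node (.leaf 0x55f44a55a) (.leaf 0x67b76e172))) (.node (.node (.leaf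 0x4a25bb5c1) (.leaf 0x1084205aa)) (.leaf 0x63470f075))) (.node (.node (.node (.leaf 0x599187534) (.leaf 0x5954e11c9)) (.node (.leaf 0x4d46b76ea) (.leaf 0x50e5b7500))) (.node (.node (.leaf 0x56d5e9500) (.leaf 0x55072c1b3)) (.leaf 0x44b638408))))))) (.node (.node (.node (.node (.node (.node (.node (.leaf 0x7565a7042) (.leaf 0x16255d4c9)) (.node (.leaf 0x5aa5bb500) (.leaf 0x6de72c130))) (.node (.node (.leaf 0x1367ed018) (.leaf 0x1084a3453)) (.leaf 0x77a07f6b7))) (.node (.node (.node (.leaf 0x1f807552c) (.leaf 0x6f9180408)) (.node (.leaf 0x50f4c955a) (.leaf 0x12676e1f1))) (.node (.node (.leaf 0x18076e018) (.leaf 0x462126075)) (.leaf 0x10c7fb634)))) (.node (.node (.node (.node (.leaf 0x1c955d5d9) (.leaf 0x4a45e944a)) (.node (.leaf 0x7067ab52c) (.leaf 0x7f672c172))) (.node (.node (.leaf 0x63165a05a) (.leaf 0x6317245e9)) (.leaf 0x6b71bc50f))) (.node (.node (.node (.leaf 0x40257a542) (.leaf 0x55f4a35e9)) (.node (.leaf 0x163548634) (.leaf 0x76e07605a))) (.node (.node (.leaf 0x7235bb542) (.leaf 0x18076e1b3))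 (.leaf 0x1985e948b))))) (.node (.node (.node (.node (.node (.leaf 0x4bc452518) (.leaf 0x55628600)) (.node (.leaf 0x44b7285af) (.leaf 0x4d1075618))) (.node (.node (.leaf 0x4f25e9583) (.leaf 0x7566ea76a)) (.leaf 0x198446666))) (.node (.node (.node (.leaf 0x1261f15b7) (.leaf 0x7f714728)) (.node (.leaf 0x18a1d1487) (.leaf 0x18d59b5f5))) (.node (.node (.leaf 0x1f876e076) (.leaf 0x14655d69b)) (.leaf 0x7d76836ab)))) (.node (.node (.node (.node (.leaf 0x1205aa5af) (.leaf 0x6a6e94a4)) (.node (.leaf 0x17844a59b) (.leaf 0x70f67b69b))) (.node (.node (.leaf 0x15357a5c1) (.leaf 0x70f06a76a)) (.leaf 0x4c56661bc))) (.node (.node (.node (.leaf 0x6fe69b076) (.leaf 0x19806a728)) (.node (.leaf 0x776180404) (.leaf 0x4bc5f5076))) (.node (.node (.leaf 0x55d7af06e) (.leaf 0x1c51a8618)) (.leaf 0x67b66a600)))))) (.node (.node (.node (.node (.node (.node (.leaf 0x1cf75659b) (.leaf 0x6c16e91bc)) (.node (.leaf 0x1bc76a56e) (.leaf 0x1c51986d9))) (.node (.node (.leaf 0x1b36ea576) (.leaf 0x7d55ea7e9)) (.leaf 0x6a74044a4))) (.node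 (.node (.node (.leaf 0x15369b06e) (.leaf 0x65613d66a)) (.node (.leaf 0x67b4085d9) (.leaf 0x11645265a))) (.node (.node (.leaf 0x402130576) (.leaf 0x67f7977ab)) (.leaf 0x5564a24c5)))) (.node (.node (.node (.node (.leaf 0x7f64a456e) (.leaf 0x1986ab06a)) (.node (.leaf 0x72405e042) (.leaf 0x5991876d9))) (.node (.node (.leaf 0x60572c05a) (.leaf 0x6a4537ab)) (.leaf 0x1d11a8446))) (.node (.node (.node (.leaf 0x4a41f15f5) (.leaf 0x5f77567e9)) (.node (.leaf 0x55f4876a7) (.leaf 0x1e853405a))) (.node (.node (.leaf 0x7cc1725f5) (.leaf 0x6054d165a)) (.leaf 0x1f862806a))))) (.node (.node (.node (.node (.node (.leaf 0x7565aa55a) (.leaf 0x1a86bb48b)) (.node (.leaf 0x1267285ed) (.leaf 0x6887af172))) (.node (.node (.leaf 0x6a4535c1) (.leaf 0x6d77244e1)) (.leaf 0x4256765aa))) (.node (.node (.node (.leaf 0x5f75f9500) (.leaf 0x766180420)) (.node (.leaf 0x1986f54a4) (.leaf 0x4f25ed534))) (.node (.node (.leaf 0x60e1f1534) (.leaf 0x4267ed1b3)) (.leaf 0x1bc63844a)))) (.node (.node (.node (.node (.leaf 0x7a66055ed) (.leaf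 0x6fe5e94c9)) (.node (.leaf 0x4fc44a518) (.leaf 0x14b7ed1f1))) (.node (.node (.leaf 0x60e670583) (.leaf 0x5994e15e9)) (.leaf 0x77a1806f5))) (.node (.node (.node (.leaf 0x751b3534) (.leaf 0x4205e96ea)) (.leaf 0x46c6761a8)) (.node (.node (.leaf 0x7231305b7) (.leaf 0x5f77af130)) (.leaf 0x5fa5e9408)))))))

/-- Part of `planeT`. -/
def planeT_p01 : Tr := .node (.node (.node (.node (.node (.node (.node (.node (.leaf 0x76e130042) (.leaf 0x6af55e7cc)) (.node (.leaf 0x55d01c500) (.leaf 0x426404566))) (.node (.node (.leaf 0x5f77af018) (.leaf 0x49317855e)) (.leaf 0x67072c566))) (.node (.node (.node (.leaf 0x1d41a352c) (.leaf 0x13d55e62c)) (.node (.leaf 0x4d448b55a) (.leaf 0x1784c5566))) (.node (.node (.leaf 0x7f672c018) (.leaf 0x55e4f2402)) (.leaf 0x40276e566)))) (.node (.node (.node (.node (.leaf 0x5d7565d9) (.leaf 0x4921d151c)) (.node (.leaf 0x5f77e952c) (.leaf 0x6de4465e5))) (.node (.node (.leaf 0x4267ed05a) (.leaf 0x55f51c453)) (.leaf 0x65d72c5e5))) (.node (.node (.node (.leaf 0x43e5f9542) (.leaf 0x51c1534d1))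 (.node (.leaf 0x50f76e5e5) (.leaf 0x1355ed5c1))) (.node (.node (.leaf 0x70f5a7542) (.leaf 0x7560755e5)) (.leaf 0x62c51c55d))))) (.node (.node (.node (.node (.node (.leaf 0x65d61c518) (.leaf 0x688724066)) (.node (.leaf 0x4537ab5af) (.leaf 0x14a5505f9))) (.node (.node (.leaf 0x567a6583) (.leaf 0x660666600)) (.leaf 0x4256185f9))) (.node (.node (.node (.leaf 0x6881725b7) (.leaf 0x666385aa)) (.node (.leaf 0x67044a5f9) (.leaf 0x7ab5af042))) (.node (.node (.leaf 0x4d465a076) (.leaf 0x1e418b5f9)) (.leaf 0x7660667cc)))) (.node (.node (.node (.node (.leaf 0x7b91985af) (.leaf 0x7d77f607a)) (.node (.leaf 0x18040859b) (.leaf 0x7f66fe538))) (.node (.node (.leaf 0x7fb5f95c1) (.leaf 0x79566661c)) (.leaf 0x18a76a1f1))) (.node (.node (.node (.leaf 0x7067ed076) (.leaf 0x6000756ea)) (.node (.leaf 0x7eb618130) (.leaf 0x1805835af))) (.node (.node (.leaf 0x6ea6d906e) (.leaf 0x44b55d538)) (.leaf 0x1b442e07a)))))) (.node (.node (.node (.node (.node (.node (.leaf 0x1ac1c959b) (.leaf 0x77a492066)) (.node (.leaf 0x7cc7ab56e)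 (.leaf 0x6de1085f9))) (.node (.node (.leaf 0x192172576) (.leaf 0x6661c453)) (.leaf 0x1f81305f9))) (.node (.node (.node (.leaf 0x7b976e06e) (.leaf 0x1924f2066)) (.node (.leaf 0x7f48b5d9) (.leaf 0x6705f75f9))) (.node (.node (.leaf 0x7b91f1576) (.leaf 0x6669f153)) (.leaf 0x507ab5f9)))) (.node (.node (.node (.node (.leaf 0x12067056e) (.leaf 0x72407a670)) (.node (.leaf 0x6e9600042) (.leaf 0x18b70f538))) (.node (.node (.leaf 0x43e61805a) (.leaf 0x70f07a6bb)) (.leaf 0x7cc44a7ab))) (.node (.node (.node (.leaf 0x1c56705f5) (.leaf 0x7a50f638)) (.node (.leaf 0x4f248b65a) (.leaf 0x19458305a))) (.node (.node (.leaf 0x6385aa5f5) (.leaf 0x4d405d538)) (.leaf 0x76650a07a))))) (.node (.node (.node (.node (.node (.leaf 0x55f69f55a) (.leaf 0x55055e66e)) (.node (.leaf 0x7237ab5ed) (.leaf 0x756126566))) (.node (.node (.leaf 0x567b95c1) (.leaf 0x55e1266ea)) (.leaf 0x6fe7af566))) (.node (.node (.node (.leaf 0x54857a500) (.leaf 0x7d979555e)) (.node (.leaf 0x4205665aa) (.leaf 0x1265ed05a))) (.node (.node (.leaf 0x56d172534)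 (.leaf 0x5991e1566)) (.leaf 0x1d167b4f2)))) (.node (.node (.node (.node (.leaf 0x1e143e5ed) (.leaf 0x5fa51c670)) (.node (.leaf 0x6ea408518) (.leaf 0x6316f55e5))) (.node (.node (.leaf 0x1801bc583) (.leaf 0x49368851c)) (.leaf 0x7cc7ed5e5))) (.node (.node (.node (.leaf 0x1b1130534) (.leaf 0x5a645251c)) (.node (.leaf 0x5ea7af5e5) (.leaf 0x4d155a042))) (.node (.node (.leaf 0x1801b35b7) (.leaf 0x5951e15e5)) (.leaf 0x70605d51c))))))) (.node (.node (.node (.node (.node (.node (.node (.leaf 0x13569f5d9) (.leaf 0x40218001c)) (.node (.leaf 0x1537ed06e) (.leaf 0x40219857a))) (.node (.node (.leaf 0x1c5153576) (.leaf 0x5d63801c)) (.leaf 0x4536187ab))) (.node (.node (.node (.leaf 0x1e11bc56e) (.leaf 0x7247b901c)) (.node (.leaf 0x19848b59b) (.leaf 0x1921c957a))) (.node (.node (.leaf 0x7f6146576) (.leaf 0x55f69f01c)) (.leaf 0x15357a7e9)))) (.node (.node (.node (.node (.leaf 0x4205e9042) (.leaf 0x7e519805e)) (.node (.leaf 0x4a47e956e) (.leaf 0x18b1805bb))) (.node (.node (.leaf 0x5aa6d905a) (.leaf 0x6fe60005e)) (.leaf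 0x6ae44a618))) (.node (.node (.node (.leaf 0x55f6bb5f5) (.leaf 0x4bc68305e)) (.node (.leaf 0x7237ab130) (.leaf 0x599534500))) (.node (.node (.leaf 0x1040505f5) (.leaf 0x1a414a5bb)) (.leaf 0x7eb72305e))))) (.node (.node (.node (.node (.node (.leaf 0x70f65e518) (.leaf 0x1586af44b)) (.node (.leaf 0x70f76a5ed) (.leaf 0x5fa756524))) (.node (.node (.leaf 0x19857a583) (.leaf 0x60d7184d1)) (.leaf 0x4205246ea))) (.node (.node (.node (.leaf 0x13e1305b7) (.leaf 0x59518a180)) (.node (.leaf 0x19876e524) (.leaf 0x7f656e55a))) (.node (.node (.leaf 0x19c146534) (.leaf 0x7d7404524)) (.leaf 0x1d15ea075)))) (.node (.node (.node (.node (.leaf 0x4261625ed) (.leaf 0x1e462c5dd)) (.node (.leaf 0x5aa40855a) (.leaf 0x5501e15a7))) (.node (.node (.leaf 0x44b05e5c1) (.leaf 0x4931985dd)) (.leaf 0x18076e5a7))) (.node (.node (.node (.leaf 0x5f7638534) (.leaf 0x7f65dd5aa)) (.node (.leaf 0x6051465a7) (.leaf 0x468534076))) (.node (.node (.leaf 0x5285ea500) (.leaf 0x1a46b75a7)) (.leaf 0x6af5dd605)))))) (.node (.node (.node (.node (.node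 (.node (.leaf 0x1c950f55a) (.leaf 0x50a66e07f)) (.node (.leaf 0x59976a52c) (.leaf 0x43d487524))) (.node (.node (.leaf 0x46c76e018) (.leaf 0x10c49350f)) (.leaf 0x55d7af524))) (.node (.node (.node (.leaf 0x556075500) (.leaf 0x6ed6fe43e)) (.node (.leaf 0x446666042) (.leaf 0x198446524))) (.node (.node (.leaf 0x56d7ed018) (.leaf 0x7d91a4452)) (.leaf 0x43e7ed524)))) (.node (.node (.node (.node (.leaf 0x5821e152c) (.leaf 0x60e56d5dd)) (.node (.leaf 0x5be44a5d9) (.leaf 0x4927145a7))) (.node (.node (.leaf 0x12676e05a) (.leaf 0x65665d5dd)) (.leaf 0x7af4535a7))) (.node (.node (.node (.leaf 0x6315bb542) (.leaf 0x7fb5dd4d1)) (.node (.leaf 0x1537ed5a7) (.leaf 0x54805a500))) (.node (.node (.leaf 0x12657a542) (.leaf 0x1807565a7)) (.leaf 0x1985995dd))))) (.node (.node (.node (.node (.node (.leaf 0x1b44d159b) (.leaf 0x5fa12601c)) (.node (.leaf 0x6ea76a5af) (.leaf 0x14a67b57a))) (.node (.node (.leaf 0x14b5565c1) (.leaf 0x1806c101c)) (.leaf 0x12657a48b))) (.node (.node (.node (.leaf 0x44b61806e) (.leaf 0x66655d01c))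 (.node (.leaf 90546480) (.leaf 0x5a9076500))) (.node (.node (.leaf 0x1bc7af076) (.leaf 0x18b07f57a)) (.leaf 0x67b1f801c)))) (.node (.node (.node (.node (.leaf 0x5fa1e15af) (.leaf 0x7245f705e)) (.node (.leaf 0x42548b518) (.leaf 0x7d71085bb))) (.node (.node (.leaf 0x7cc538583) (.leaf 0x18a61c05e)) (.leaf 0x56d5bb65a))) (.node (.node (.node (.leaf 0x7cc6d9076) (.leaf 0x19863805e)) (.leaf 0x6ea76a5bb)) (.node (.node (.leaf 0x55d1f15b7) (.leaf 0x551c95bb)) (.leaf 0x60e44b05e)))))))

/-- Part of `planeT`. -/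
def planeT_p10 : Tr := .node (.node (.node (.node (.node (.node (.node (.node (.leaf 0x4d165a042) (.leaf 0x17855d01c)) (.node (.leaf 0x5845f9500) (.leaf 85239162))) (.node (.node (.leaf 0x5996d9018) (.leaf 0x5fb6c101c)) (.leaf 0x7f57a48b))) (.node (.node (.node (.leaf 0x12056d52c) (.leaf 0x5a54a401c)) (.node (.leaf 0x7f644a55a) (.leaf 0x42618b57a))) (.node (.node (.leaf 0x75618018) (.leaf 0x40266601c)) (.leaf 0x1bc65a130)))) (.node (.node (.node (.node (.leaf 0x5ea4d15d9) (.leaf 0x7664d405e)) (.node (.leaf 0x14f72852c) (.leaf 0x1c96ea5bb))) (.node (.node (.leaf 0x70f69b05a) (.leaf 0x5f763805e)) (.leaf 0x46876a5bb))) (.node (.node (.node (.leaf 0x741556542) (.leaf 0x46861c05e)) (.node (.leaf 0x7d75bb65a) (.leaf 0x1e258305a))) (.node (.node (.leaf 0x6a605542) (.leaf 0x1085aa5bb)) (.leaf 0x6ae72405e))))) (.node (.node (.node (.node (.node (.leaf 0x7fb4d1518) (.leaf 0x54866e4a4)) (.node (.leaf 0x1537e95af) (.leaf 0x55f487524))) (.node (.node (.leaf 0x7e056a583) (.leaf 0x13e10c493)) (.leaf 0x1bc7af524)))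 (.node (.node (.node (.leaf 0x70f6bb5b7) (.leaf 0x7a607f6fe)) (.node (.leaf 0x1587ed524) (.leaf 0x44a55a042))) (.node (.node (.leaf 0x64472c076) (.leaf 0x44655d524)) (.leaf 0x60d6ed50f)))) (.node (.node (.node (.node (.leaf 0x1a31805af) (.leaf 0x7fb7f65dd)) (.node (.leaf 0x1b44c959b) (.leaf 0x5f77565a7))) (.node (.node (.leaf 0x6ea5bb5c1) (.leaf 0x5dd6054d1)) (.leaf 0x1927ed5a7))) (.node (.node (.node (.leaf 0x4bc618076) (.leaf 0x6de5995dd)) (.node (.leaf 0x4927af5a7) (.leaf 0x70f5ed05a))) (.node (.node (.leaf 0x6de72c06e) (.leaf 0x7144535a7)) (.leaf 0x65d1d15dd)))))) (.node (.node (.node (.node (.node (.node (.leaf 0x19869f59b) (.leaf 89740975)) (.node (.leaf 0x1a472856e) (.leaf 0x7565246ea))) (.node (.node (.leaf 0x44b130576) (.leaf 0x5ea4d1075)) (.leaf 0x4a2420524))) (.node (.node (.node (.leaf 0x17865a06e) (.leaf 0x62c1d17a6)) (.node (.leaf 0x55d4c95d9) (.leaf 0x795404524))) (.node (.node (.leaf 0x4531b3576) (.leaf 0x75a14b4d4)) (.leaf 0x5fa76e524)))) (.node (.node (.node (.node (.leaf 0x4bc16256e)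 (.leaf 0x6af1f85dd)) (.node (.leaf 0x5e944a042) (.leaf 0x5a06b75a7))) (.node (.node (.leaf 0x7237af05a) (.leaf 0x64c4525dd)) (.leaf 0x5501465a7))) (.node (.node (.node (.leaf 0x1047cc5f5) (.leaf 0x49370f5dd)) (.node (.leaf 0x4a476e5a7) (.leaf 0x42d5ed5c1))) (.node (.node (.leaf 0x6bb4a45f5) (.leaf 0x70f1e15a7)) (.leaf 0x5dd1bc5aa))))) (.node (.node (.node (.node (.node (.leaf 0x794d155a) (.leaf 0x65d55f01c)) (.node (.leaf 0x6057e95ed) (.leaf 0x10845357a))) (.node (.node (.leaf 0x7955e95c1) (.leaf 0x67b63801c)) (.leaf 0x7066187ab))) (.node (.node (.node (.leaf 0x56d5bb500) (.leaf 0x69f12601c)) (.node (.leaf 0x67b57a7e9) (.leaf 0x4b45835af))) (.node (.node (.leaf 0x5991b3534) (.leaf 0x12607557a)) (.leaf 0x72405d01c)))) (.node (.node (.node (.node (.leaf 0x1201265ed) (.leaf 0x7a705005e)) (.node (.leaf 0x4534c9518) (.leaf 0x6c814a5bb))) (.node (.node (.leaf 0x4a45e9583) (.leaf 0x1cf68305e)) (.leaf 0x7a67ab130))) (.node (.node (.node (.leaf 0x5821f1534) (.leaf 0x63160005e)) (.node (.leaf 0x4a444a618)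 (.leaf 0x1e15af042))) (.node (.node (.leaf 0x1986385b7) (.leaf 0x63118b5bb)) (.leaf 0x6fe1bc05e))))))) (.node (.node (.node (.node (.node (.node (.node (.leaf 0x5d71c95d9) (.leaf 0x66e4026ea)) (.node (.leaf 0x55d69b06e) (.leaf 0x7565665aa))) (.node (.node (.leaf 0x6de638576) (.leaf 0x52355e4d1)) (.leaf 0x44b7af566))) (.node (.node (.node (.leaf 0x1a307f56e) (.leaf 0x55e1d15f7)) (.node (.leaf 0x1ac44a59b) (.leaf 0x18a1e1566))) (.node (.node (.leaf 0x4026ea576) (.leaf 0x55055e7d7)) (.leaf 0x56d420566)))) (.node (.node (.node (.node (.leaf 0x7567ab042) (.leaf 0x66e72351c)) (.node (.leaf 0x55d76a56e) (.leaf 0x6441e15e5))) (.node (.node (.leaf 0x55072c05a) (.leaf 0x5fa1a851c)) (.leaf 0x7237af5e5))) (.node (.node (.node (.leaf 0x7e06385f5) (.leaf 0x49305d51c)) (.node (.leaf 0x1e47ed5e5) (.leaf 0x75534500))) (.node (.node (.leaf 0x4bc1c55f5) (.leaf 0x5ea6f55e5)) (.leaf 0x6ed68851c))))) (.node (.node (.node (.node (.node (.leaf 0x43f452518) (.leaf 0x56d066453)) (.node (.leaf 0x6317285ed) (.leaf 0x1f81085f9)))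 (.node (.node (.leaf 0x1805bb583) (.leaf 0x49206661c)) (.leaf 0x5f71305f9))) (.node (.node (.node (.leaf 0x1f81465b7) (.leaf 0x19206669f)) (.node (.leaf 0x7b97ab5f9) (.leaf 0x67b534076))) (.node (.node (.leaf 0x187075534) (.leaf 0x7fb1c95f9)) (.leaf 0x599066153)))) (.node (.node (.node (.node (.leaf 0x6221a35ed) (.leaf 0x76607a605)) (.node (.leaf 0x6fe4c955a) (.leaf 0x14a55f538))) (.node (.node (.leaf 0x45357a5c1) (.leaf 0x7e007a638)) (.leaf 0x60548b65a))) (.node (.node (.node (.leaf 0x4686bb534) (.leaf 0x7f607a6bb)) (.node (.leaf 0x7f644a7ab) (.leaf 0x46c56e55a))) (.node (.node (.leaf 0x6a5f7500) (.leaf 0x7918b538)) (.leaf 0x72407a50f)))))) (.node (.node (.node (.node (.node (.node (.leaf 0x54875655a) (.leaf 0x6643e5aa)) (.node (.leaf 0x757ab52c) (.leaf 0x7e014a5f9))) (.node (.node (.leaf 0x58269b018) (.leaf 0x688666600)) (.leaf 0x43e6185f9))) (.node (.node (.node (.leaf 0x5995e9500) (.leaf 0x766706066)) (.node (.leaf 0x77a6f5042) (.leaf 0x5a018b5f9))) (.node (.node (.leaf 0x40265a018) (.leaf 0x1a1066638))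 (.leaf 0x55044a5f9)))) (.node (.node (.node (.node (.leaf 0x1cf16252c) (.leaf 0x1a807a6ea)) (.node (.leaf 0x4684085d9) (.leaf 0x46c1c9538))) (.node (.node (.leaf 0x60565a05a) (.leaf 0x6d769f600)) (.leaf 0x44b618130))) (.node (.node (.node (.leaf 0x7235e9542) (.leaf 0x7d766661c)) (.node (.leaf 0x55d76a1f1) (.leaf 0x50b076500))) (.node (.node (.leaf 0x5ab426542) (.leaf 0x18a108538)) (.leaf 0x70f07a075))))) (.node (.node (.node (.node (.node (.leaf 0x18075659b) (.leaf 0x6af55e050)) (.node (.leaf 0x1987285af) (.leaf 0x4d4404566))) (.node (.node (.leaf 0x6a1535c1) (.leaf 0x49355e67b)) (.leaf 0x1a872c566))) (.node (.node (.node (.leaf 0x7af45306e) (.leaf 0x64455e452)) (.node (.leaf 0x12676e566) (.leaf 0x5aa05a500))) (.node (.node (.leaf 0x67069b076) (.leaf 0x7e04c5566)) (.leaf 0x4a262c126)))) (.node (.node (.node (.node (.leaf 0x67b44b5af) (.leaf 0x55f51c153)) (.node (.leaf 0x67044a518) (.leaf 0x7fb7565e5))) (.node (.node (.leaf 0x6705f9583) (.leaf 0x19251c4d1)) (.leaf 0x7b976e5e5))) (.node (.node (.node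 (.leaf 0x4a476e076) (.leaf 0x49251c55d)) (.leaf 0x72c0755e5)) (.node (.node (.leaf 0x6311875b7) (.leaf 0x44650f5e5)) (.leaf 0x1a851c453)))))))

/-- Part of `planeT`. -/
def planeT_p11 : Tr := .node (.node (.node (.node (.node (.node (.node (.node (.leaf 0x1c95f9042) (.leaf 0x5a56c1628)) (.node (.leaf 0x7557a500) (.leaf 0x1266ea6d9))) (.node (.node (.leaf 0x56d65a018) (.leaf 0x756126728)) (.leaf 0x19c1584c5))) (.node (.node (.node (.leaf 0x5991e152c) (.leaf 0x16318a6ab)) (.node (.leaf 0x68840855a) (.leaf 0x7951c565a))) (.node (.node (.leaf 0x15869b018) (.leaf 0x71459976a)) (.leaf 0x7d7404666)))) (.node (.node (.node (.node (.leaf 0x7f69f5d9) (.leaf 0x6c17f666a)) (.node (.leaf 0x6fe76a52c) (.leaf 0x1465aa6d9))) (.node (.node (.leaf 0x13e76e05a) (.leaf 0x52379776a)) (.leaf 0x55487666))) (.node (.node (.node (.leaf 0x158126542) (.leaf 0x5507d5728)) (.node (.leaf 0x7f446670) (.leaf 0x6ea5af5c1))) (.node (.node (.leaf 0x7f65e9542) (.leaf 0x63118765a)) (.leaf 0x6e97cc55d))))) (.node (.node (.node (.node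 (.node (.leaf 0x43d65e518) (.leaf 0x50f6384c9)) (.node (.leaf 0x46876a5af) (.leaf 0x7af4531b3))) (.node (.node (.leaf 0x7be4bc583) (.leaf 0x462108402)) (.leaf 0x492676402))) (.node (.node (.node (.leaf 0x18743e5b7) (.leaf 0x4a36705f7)) (.node (.leaf 0x5f1926f5) (.leaf 0x55d5b7500))) (.node (.node (.leaf 0x7e06d9076) (.leaf 0x1537ed172)) (.leaf 0x6886bb408)))) (.node (.node (.node (.node (.leaf 0x1e16ea5af) (.leaf 0x5ff67a48b)) (.node (.leaf 0x6a648b59b) (.leaf 0x6117ed130))) (.node (.node (.leaf 0x6fe05e5c1) (.leaf 0x52846267b)) (.leaf 0x7eb13d6f5))) (.node (.node (.node (.leaf 0x1a47af076) (.leaf 0x70f07f4a3)) (.node (.leaf 0x5f067b670) (.leaf 0x5e9042500))) (.node (.node (.leaf 0x45361806e) (.leaf 0x55d7af1f1)) (.leaf 0x1627cc44a)))))) (.node (.node (.node (.node (.node (.node (.leaf 0x1a14d159b) (.leaf 0x60e1e148b)) (.node (.leaf 0x7e07e956e) (.leaf 0x74172c1f1))) (.node (.node (.leaf 0x7fb1f1576) (.leaf 0x46856a420)) (.leaf 0x4b45fa6b7))) (.node (.node (.node (.leaf 0x4f27ed06e) (.leaf 0x67a67044a))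 (.node (.leaf 0x5d44a5d9) (.leaf 0x13e76e130))) (.node (.node (.leaf 0x153172576) (.leaf 0x1e462c4e1)) (.leaf 0x18f1f87cc)))) (.node (.node (.node (.node (.leaf 0x6441e156e) (.leaf 0x6385aa408)) (.node (.leaf 0x1d151c042) (.leaf 0x751b36ea))) (.node (.node (.leaf 0x1266d905a) (.leaf 0x4e160544b)) (.leaf 0x18f60e6b7))) (.node (.node (.node (.leaf 0x1bc1305f5) (.leaf 0x5ea108420)) (.node (.leaf 0x5507d7634) (.leaf 0x14f5c1076))) (.node (.node (.leaf 0x6701b35f5) (.leaf 0x5d76e172)) (.leaf 0x4a21e14c9))))) (.node (.node (.node (.node (.node (.leaf 0x42e1c955a) (.leaf 0x6e9670600)) (.node (.leaf 0x43e76a5ed) (.leaf 0x14650f618))) (.node (.node (.leaf 0x4a244b5c1) (.leaf 0x4267d57ab)) (.leaf 0x7764877cc))) (.node (.node (.node (.leaf 0x5fa01c500) (.leaf 0x5f7977e9)) (.node (.leaf 0x6a76fe446) (.leaf 0x130042534))) (.node (.node (.leaf 0x5f7130534) (.leaf 0x53318769b)) (.leaf 0x55f68366a)))) (.node (.node (.node (.node (.leaf 0x1627235ed) (.leaf 0x706683628)) (.node (.leaf 0x12648b518) (.leaf 0x1534d169b)))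 (.node (.node (.leaf 0x567cc583) (.leaf 0x7560757ab)) (.leaf 0x624192404))) (.node (.node (.node (.leaf 0x1a8172534) (.leaf 0x6887147e9)) (.leaf 0x60e5ea6a7)) (.node (.node (.leaf 0x14655d5b7) (.leaf 0x104453618)) (.leaf 0x506ab600))))))) (.node (.node (.node (.node (.node (.node (.node (.leaf 0x67b7565d9) (.leaf 0x6bb12648b)) (.node (.leaf 0x5d76e06e) (.leaf 0x5ea7af172))) (.node (.node (.leaf 0x7b9146576) (.leaf 0x72405d4e1)) (.leaf 0x688676126))) (.node (.node (.node (.leaf 0x5ea40256e) (.leaf 0x15863844a)) (.node (.leaf 0x49840859b) (.leaf 0x7ed5aa1b3))) (.node (.node (.leaf 0x1921c5576) (.leaf 0x1cf766420)) (.leaf 0x551e46f5)))) (.node (.node (.node (.node (.leaf 0x63805e042) (.leaf 0x5e96ea408)) (.node (.leaf 0x7f67ab56e) (.leaf 91943216))) (.node (.node (.leaf 0x50f61805a) (.leaf 0x42e4205e9)) (.leaf 0x42e67644b))) (.node (.node (.node (.leaf 0x1a41725f5) (.leaf 0x4e16fe5e9)) (.node (.leaf 0x4bc7f65f7) (.leaf 0x65a07605a))) (.node (.node (.leaf 0x6441f15f5) (.leaf 0x18a7ed1f1)) (.leaf 0x56d5e94c9)))))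 (.node (.node (.node (.node (.node (.leaf 0x61c453518) (.leaf 0x4d46c16e9)) (.node (.leaf 0x7a67ab5ed) (.leaf 0x6601c56d9))) (.node (.node (.leaf 0x644538583) (.leaf 0x43d7d57e9)) (.leaf 0x1636a7404))) (.node (.node (.node (.leaf 0x7236385b7) (.leaf 0x4bc7977ab)) (.node (.leaf 0x55605d43e) (.leaf 0x6705f5076))) (.node (.node (.leaf 0x4f2638534) (.leaf 0x4f240265a)) (.leaf 0x40266a43e)))) (.node (.node (.node (.node (.leaf 0x60e1e15ed) (.leaf 0x6a15350f)) (.node (.leaf 0x4f248b55a) (.leaf 0x7fb4d165a))) (.node (.node (.leaf 0x7b95f95c1) (.leaf 0x1f87567e9)) (.leaf 0x7b95996a7))) (.node (.node (.node (.leaf 0x56d146534) (.leaf 0x49206a7ab)) (.node (.leaf 0x70f56d446) (.leaf 0x17859b5f5))) (.node (.node (.leaf 0x5055d500) (.leaf 0x55f1876d9)) (.leaf 0x6a5f7453)))))) (.node (.node (.node (.node (.node (.node (.leaf 0x4d469f55a) (.leaf 0x6fe6006ea)) (.node (.leaf 0x1f87e952c) (.leaf 0x5a04d1618))) (.node (.node (.leaf 0x6ee618018) (.leaf 0x46875676a)) (.leaf 0x66644b55d))) (.node (.node (.node (.leaf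 0x5825aa500) (.leaf 0x6836ab5aa)) (.node (.leaf 0x76e5a7042) (.leaf 0x18a14669b))) (.node (.node (.leaf 0x5f76d9018) (.leaf 0x7d7714728)) (.leaf 0x1d1487075)))) (.node (.node (.node (.node (.leaf 0x7065f752c) (.leaf 0x66a605600)) (.node (.leaf 0x50e48b5d9) (.leaf 0x4bc1c5618))) (.node (.node (.leaf 0x7ed5aa05a) (.leaf 0x1a406a728)) (.leaf 0x776404605))) (.node (.node (.node (.leaf 0x67b06a542) (.leaf 285648746)) (.node (.leaf 0x4c55fa666) (.leaf 0x6225ed534))) (.node (.node (.leaf 0x40243e542) (.leaf 0x10468869b)) (.leaf 0x4f206a6e9))))) (.node (.node (.node (.node (.node (.leaf 0x4b41c959b) (.leaf 0x1f84534c9)) (.node (.leaf 0x7b97ab5af) (.leaf 0x65d72c130))) (.node (.node (.leaf 0x567065c1) (.leaf 0x4921084a3)) (.leaf 0x4265826b7))) (.node (.node (.node (.leaf 0x60e6d906e) (.leaf 0x4621c955d)) (.node (.leaf 0x10c4f27b9) (.leaf 0x12953405a))) (.node (.node (.leaf 0x7cc7ed076) (.leaf 0x7f76e1f1)) (.leaf 0x50153408)))) (.node (.node (.node (.node (.leaf 0x1624535af) (.leaf 0x7235e948b)) (.node (.leaf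 0x7fb408518) (.leaf 0x50f76e1b3))) (.node (.node (.leaf 0x1bc57a583) (.leaf 0x4d44a35e9)) (.leaf 0x178634723))) (.node (.node (.node (.leaf 0x1bc65a076) (.leaf 0x5f7245e9)) (.leaf 0x10c4a26b7)) (.node (.node (.leaf 0x6bb1265b7) (.leaf 0x54872c172)) (.leaf 0x55f5e944a)))))))

/-- Bases of the planes, three codes each. -/
def planeT : Tr := .node (.node (planeT_p00) (planeT_p01)) (.node (planeT_p10) (planeT_p11))

/-- Part of `succT`. -/
def succT_p00000 : Tr := .node (.node (.node (.node (.node (.node (.node (.node (.leaf 0) (.leaf 617)) (.node (.leaf 71) (.leaf 215))) (.node (.node (.leaf 872) (.leaf 518)) (.leaf 165))) (.node (.node (.node (.leaf 611) (.leaf 153)) (.node (.leaf 407) (.leaf 829))) (.node (.node (.leaf 556) (.leaf 52)) (.leaf 313)))) (.node (.node (.node (.node (.leaf 249) (.leaf 361)) (.node (.leaf 663) (.leaf 166))) (.node (.node (.leaf 244) (.leaf 596)) (.leaf 278))) (.node (.node (.node (.leaf 355) (.leaf 774)) (.node (.leaf 795) (.leaf 573))) (.node (.node (.leaf 327) (.leaf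 615)) (.leaf 62))))) (.node (.node (.node (.node (.node (.leaf 211) (.leaf 489)) (.node (.leaf 791) (.leaf 330))) (.node (.node (.leaf 731) (.leaf 390)) (.leaf 54))) (.node (.node (.node (.leaf 483) (.leaf 56)) (.node (.leaf 668) (.leaf 701))) (.node (.node (.leaf 404) (.leaf 129)) (.leaf 149)))) (.node (.node (.node (.node (.leaf 739) (.leaf 312)) (.node (.leaf 535) (.leaf 48))) (.node (.node (.leaf 71) (.leaf 844)) (.leaf 167))) (.node (.node (.node (.leaf 678) (.leaf 646)) (.node (.leaf 695) (.leaf 445))) (.node (.node (.leaf 200) (.leaf 779)) (.leaf 745)))))) (.node (.node (.node (.node (.node (.node (.leaf 274) (.leaf 553)) (.node (.leaf 8) (.leaf 246))) (.node (.node (.leaf 854) (.leaf 454)) (.leaf 163))) (.node (.node (.node (.leaf 675) (.leaf 119)) (.node (.leaf 343) (.leaf 637))) (.node (.node (.leaf 539) (.leaf 807)) (.leaf 254)))) (.node (.node (.node (.node (.leaf 17) (.leaf 852)) (.node (.leaf 599) (.leaf 110))) (.node (.node (.leaf 114) (.leaf 403)) (.leaf 277))) (.node (.node (.node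 (.leaf 419) (.leaf 710)) (.node (.leaf 771) (.leaf 381))) (.node (.node (.leaf 263) (.leaf 251)) (.leaf 809))))) (.node (.node (.node (.node (.node (.leaf 149) (.leaf 425)) (.node (.leaf 727) (.leaf 238))) (.node (.node (.leaf 548) (.leaf 882)) (.leaf 53))) (.node (.node (.node (.leaf 547) (.leaf 838)) (.node (.leaf 877) (.leaf 509))) (.node (.node (.leaf 411) (.leaf 332)) (.leaf 113)))) (.node (.node (.node (.node (.leaf 803) (.leaf 260)) (.node (.leaf 471) (.leaf 765))) (.node (.node (.leaf 47) (.leaf 530)) (.leaf 161))) (.node (.node (.node (.leaf 509) (.leaf 582)) (.node (.leaf 4) (.leaf 872))) (.node (.node (.leaf 136) (.leaf 451)) (.leaf 681))))))) (.node (.node (.node (.node (.node (.node (.node (.leaf 306) (.leaf 649)) (.node (.leaf 39) (.leaf 209))) (.node (.node (.leaf 386) (.leaf 486)) (.leaf 93))) (.node (.node (.node (.leaf 707) (.leaf 148)) (.node (.leaf 375) (.leaf 797))) (.node (.node (.leaf 480) (.leaf 347)) (.leaf 286)))) (.node (.node (.node (.node (.leaf 50) (.leaf 393)) (.node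 (.leaf 631) (.leaf 130))) (.node (.node (.leaf 169) (.leaf 276)) (.leaf 289))) (.node (.node (.node (.leaf 451) (.leaf 742)) (.node (.leaf 343) (.leaf 541))) (.node (.node (.leaf 295) (.leaf 673)) (.leaf 9))))) (.node (.node (.node (.node (.node (.leaf 153) (.leaf 521)) (.node (.leaf 759) (.leaf 272))) (.node (.node (.leaf 655) (.leaf 358)) (.leaf 67))) (.node (.node (.node (.leaf 579) (.leaf 23)) (.node (.leaf 503) (.leaf 669))) (.node (.node (.leaf 396) (.leaf 305)) (.leaf 158)))) (.node (.node (.node (.node (.leaf 835) (.leaf 280)) (.node (.leaf 503) (.leaf 14))) (.node (.node (.leaf 59) (.leaf 602)) (.leaf 94))) (.node (.node (.node (.leaf 850) (.leaf 614)) (.node (.leaf 575) (.leaf 413))) (.node (.node (.leaf 170) (.leaf 545)) (.leaf 777)))))) (.node (.node (.node (.node (.node (.node (.leaf 73) (.leaf 585)) (.node (.leaf 823) (.leaf 333))) (.node (.node (.leaf 878) (.leaf 422)) (.leaf 65))) (.node (.node (.node (.leaf 515) (.leaf 88)) (.node (.leaf 874) (.leaf 605))) (.node (.node (.leaf 416)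 (.leaf 803)) (.leaf 209)))) (.node (.node (.node (.node (.leaf 771) (.leaf 884)) (.node (.leaf 567) (.leaf 246))) (.node (.node (.leaf 51) (.leaf 417)) (.leaf 261))) (.node (.node (.node (.leaf 875) (.leaf 678)) (.node (.leaf 858) (.leaf 349))) (.node (.node (.leaf 232) (.leaf 150)) (.leaf 841))))) (.node (.node (.node (.node (.node (.leaf 115) (.leaf 457)) (.node (.leaf 695) (.leaf 194))) (.node (.node (.leaf 206) (.leaf 850)) (.leaf 291))) (.node (.node (.node (.leaf 387) (.leaf 806)) (.node (.leaf 887) (.leaf 477))) (.node (.node (.leaf 118) (.leaf 110)) (.leaf 73)))) (.node (.node (.node (.node (.leaf 643) (.leaf 215)) (.node (.leaf 439) (.leaf 733))) (.node (.node (.leaf 564) (.leaf 513)) (.leaf 147))) (.node (.node (.node (.leaf 884) (.leaf 550)) (.leaf 262)) (.node (.node (.leaf 104) (.leaf 683)) (.leaf 713)))))))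

/-- Part of `succT`. -/
def succT_p00001 : Tr := .node (.node (.node (.node (.node (.node (.node (.node (.leaf 322) (.leaf 601)) (.node (.leaf 59) (.leaf 814))) (.node (.node (.leaf 830) (.leaf 502)) (.leaf 133))) (.node (.node (.node (.leaf 595) (.leaf 166)) (.node (.leaf 391) (.leaf 813))) (.node (.node (.leaf 25) (.leaf 431)) (.leaf 301)))) (.node (.node (.node (.node (.leaf 65) (.leaf 345)) (.node (.leaf 647) (.leaf 160))) (.node (.node (.leaf 405) (.leaf 767)) (.leaf 13))) (.node (.node (.node (.leaf 339) (.leaf 758)) (.node (.leaf 872) (.leaf 557))) (.node (.node (.leaf 312) (.leaf 133)) (.leaf 65))))) (.node (.node (.node (.node (.node (.leaf 193) (.leaf 473)) (.node (.leaf 775) (.leaf 288))) (.node (.node (.leaf 628) (.leaf 374)) (.leaf 309))) (.node (.node (.node (.leaf 467) (.leaf 38)) (.node (.leaf 683) (.leaf 685))) (.node (.node (.leaf 183) (.leaf 817)) (.leaf 169)))) (.node (.node (.node (.node (.leaf 723) (.leaf 296)) (.node (.leaf 519) (.leaf 32))) (.node (.node (.leaf 715) (.leaf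 167)) (.leaf 137))) (.node (.node (.node (.leaf 618) (.leaf 630)) (.node (.leaf 699) (.leaf 429))) (.node (.node (.leaf 179) (.leaf 279)) (.leaf 729)))))) (.node (.node (.node (.node (.node (.node (.leaf 80) (.leaf 537)) (.node (.leaf 839) (.leaf 0))) (.node (.node (.leaf 879) (.leaf 438)) (.leaf 310))) (.node (.node (.node (.leaf 659) (.leaf 104)) (.node (.leaf 858) (.leaf 621))) (.node (.node (.leaf 257) (.leaf 335)) (.leaf 109)))) (.node (.node (.node (.node (.leaf 3) (.leaf 871)) (.node (.leaf 583) (.leaf 262))) (.node (.node (.leaf 688) (.leaf 510)) (.leaf 139))) (.node (.node (.node (.leaf 403) (.leaf 694)) (.node (.leaf 379) (.leaf 365))) (.node (.node (.leaf 245) (.leaf 535)) (.leaf 793))))) (.node (.node (.node (.node (.node (.leaf 129) (.leaf 409)) (.node (.leaf 711) (.leaf 221))) (.node (.node (.leaf 458) (.leaf 873)) (.leaf 14))) (.node (.node (.node (.leaf 531) (.leaf 822)) (.node (.leaf 812) (.leaf 493))) (.node (.node (.leaf 214) (.leaf 836)) (.leaf 237)))) (.node (.node (.node (.node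 (.leaf 787) (.leaf 232)) (.node (.leaf 455) (.leaf 749))) (.node (.node (.leaf 35) (.leaf 474)) (.leaf 158))) (.node (.node (.node (.leaf 864) (.leaf 566)) (.node (.leaf 135) (.leaf 856))) (.node (.node (.leaf 120) (.leaf 181)) (.leaf 665))))))) (.node (.node (.node (.node (.node (.node (.node (.leaf 289) (.leaf 633)) (.node (.leaf 21) (.leaf 484))) (.node (.node (.leaf 734) (.leaf 470)) (.leaf 214))) (.node (.node (.node (.leaf 691) (.leaf 136)) (.node (.leaf 359) (.leaf 653))) (.node (.node (.leaf 20) (.leaf 460)) (.leaf 289)))) (.node (.node (.node (.node (.leaf 5) (.leaf 377)) (.node (.leaf 615) (.leaf 125))) (.node (.node (.leaf 362) (.leaf 883)) (.leaf 7))) (.node (.node (.node (.leaf 435) (.leaf 726)) (.node (.leaf 150) (.leaf 397))) (.node (.node (.leaf 283) (.leaf 315)) (.leaf 14))))) (.node (.node (.node (.node (.node (.leaf 165) (.leaf 505)) (.node (.leaf 743) (.leaf 83))) (.node (.node (.leaf 543) (.leaf 342)) (.leaf 303))) (.node (.node (.node (.leaf 563) (.leaf 8)) (.node (.leaf 571)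 (.leaf 525))) (.node (.node (.leaf 112) (.leaf 723)) (.leaf 143)))) (.node (.node (.node (.node (.leaf 819) (.leaf 263)) (.node (.leaf 487) (.leaf 781))) (.node (.node (.leaf 612) (.leaf 743)) (.leaf 217))) (.node (.node (.node (.leaf 470) (.leaf 598)) (.node (.leaf 467) (.leaf 851))) (.node (.node (.leaf 151) (.leaf 270)) (.leaf 761)))))) (.node (.node (.node (.node (.node (.node (.leaf 226) (.leaf 569)) (.node (.leaf 807) (.leaf 320))) (.node (.node (.leaf 359) (.leaf 406)) (.leaf 331))) (.node (.node (.node (.leaf 499) (.leaf 72)) (.node (.leaf 849) (.leaf 717))) (.node (.node (.leaf 151) (.leaf 293)) (.leaf 207)))) (.node (.node (.node (.node (.leaf 755) (.leaf 328)) (.node (.leaf 551) (.leaf 64))) (.node (.node (.leaf 668) (.leaf 557)) (.leaf 218))) (.node (.node (.node (.leaf 859) (.leaf 662)) (.node (.leaf 339) (.leaf 461))) (.node (.node (.leaf 216) (.leaf 795)) (.leaf 825))))) (.node (.node (.node (.node (.node (.leaf 98) (.leaf 441)) (.node (.leaf 679) (.leaf 192))) (.node (.node (.leaf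 426) (.leaf 14)) (.leaf 35))) (.node (.node (.node (.leaf 371) (.leaf 790)) (.node (.leaf 739) (.leaf 589))) (.node (.node (.leaf 136) (.leaf 804)) (.leaf 79)))) (.node (.node (.node (.node (.leaf 627) (.leaf 200)) (.node (.leaf 423) (.leaf 845))) (.node (.node (.leaf 11) (.leaf 718)) (.leaf 334))) (.node (.node (.node (.leaf 876) (.leaf 534)) (.leaf 213)) (.node (.node (.leaf 85) (.leaf 243)) (.leaf 697)))))))

/-- Part of `succT`. -/
def succT_p00010 : Tr := .node (.node (.node (.node (.node (.node (.node (.node (.leaf 301) (.leaf 609)) (.node (.leaf 64) (.leaf 198))) (.node (.node (.leaf 751) (.leaf 510)) (.leaf 169))) (.node (.node (.node (.leaf 603) (.leaf 174)) (.node (.leaf 399) (.leaf 821))) (.node (.node (.leaf 12) (.leaf 362)) (.leaf 310)))) (.node (.node (.node (.node (.leaf 241) (.leaf 353)) (.node (.leaf 655) (.leaf 174))) (.node (.node (.leaf 402) (.leaf 708)) (.leaf 281))) (.node (.node (.node (.leaf 347) (.leaf 766)) (.node (.leaf 190) (.leaf 565))) (.node (.node (.leaf 317) (.leaf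 550)) (.leaf 53))))) (.node (.node (.node (.node (.node (.leaf 203) (.leaf 481)) (.node (.leaf 783) (.leaf 266))) (.node (.node (.leaf 648) (.leaf 382)) (.leaf 57))) (.node (.node (.node (.leaf 475) (.leaf 46)) (.node (.leaf 659) (.leaf 693))) (.node (.node (.leaf 152) (.leaf 281)) (.leaf 182)))) (.node (.node (.node (.node (.leaf 731) (.leaf 304)) (.node (.leaf 527) (.leaf 37))) (.node (.node (.leaf 676) (.leaf 166)) (.leaf 171))) (.node (.node (.node (.leaf 606) (.leaf 638)) (.node (.leaf 716) (.leaf 437))) (.node (.node (.leaf 191) (.leaf 569)) (.leaf 737)))))) (.node (.node (.node (.node (.node (.node (.leaf 293) (.leaf 545)) (.node (.leaf 847) (.leaf 90))) (.node (.node (.leaf 727) (.leaf 446)) (.leaf 58))) (.node (.node (.node (.leaf 667) (.leaf 111)) (.node (.leaf 889) (.leaf 629))) (.node (.node (.leaf 19) (.leaf 799)) (.leaf 247)))) (.node (.node (.node (.node (.leaf 10) (.leaf 879)) (.node (.leaf 591) (.leaf 104))) (.node (.node (.leaf 338) (.leaf 236)) (.leaf 173))) (.node (.node (.node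 (.leaf 411) (.leaf 702)) (.node (.leaf 444) (.leaf 373))) (.node (.node (.leaf 253) (.leaf 39)) (.leaf 801))))) (.node (.node (.node (.node (.node (.leaf 139) (.leaf 417)) (.node (.leaf 719) (.leaf 232))) (.node (.node (.leaf 883) (.leaf 874)) (.leaf 282))) (.node (.node (.node (.leaf 539) (.leaf 830)) (.node (.leaf 403) (.leaf 501))) (.node (.node (.leaf 98) (.leaf 179)) (.leaf 121)))) (.node (.node (.node (.node (.leaf 795) (.leaf 239)) (.node (.leaf 463) (.leaf 757))) (.node (.node (.leaf 604) (.leaf 108)) (.leaf 188))) (.node (.node (.node (.leaf 408) (.leaf 574)) (.node (.leaf 175) (.leaf 875))) (.node (.node (.leaf 127) (.leaf 588)) (.leaf 673))))))) (.node (.node (.node (.node (.node (.node (.node (.leaf 299) (.leaf 641)) (.node (.leaf 31) (.leaf 17))) (.node (.node (.leaf 835) (.leaf 478)) (.leaf 74))) (.node (.node (.node (.leaf 699) (.leaf 142)) (.node (.leaf 367) (.leaf 789))) (.node (.node (.leaf 15) (.leaf 348)) (.leaf 277)))) (.node (.node (.node (.node (.leaf 69) (.leaf 385)) (.node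 (.leaf 623) (.leaf 138))) (.node (.node (.leaf 429) (.leaf 473)) (.leaf 271))) (.node (.node (.node (.leaf 443) (.leaf 734)) (.node (.leaf 183) (.leaf 533))) (.node (.node (.leaf 288) (.leaf 748)) (.leaf 17))))) (.node (.node (.node (.node (.node (.leaf 173) (.leaf 513)) (.node (.leaf 751) (.leaf 94))) (.node (.node (.leaf 580) (.leaf 350)) (.leaf 45))) (.node (.node (.node (.leaf 571) (.leaf 16)) (.node (.leaf 588) (.leaf 661))) (.node (.node (.leaf 179) (.leaf 271)) (.leaf 189)))) (.node (.node (.node (.node (.leaf 827) (.leaf 270)) (.node (.leaf 495) (.leaf 34))) (.node (.node (.leaf 691) (.leaf 806)) (.leaf 73))) (.node (.node (.node (.leaf 502) (.leaf 606)) (.node (.leaf 540) (.leaf 405))) (.node (.node (.leaf 155) (.leaf 475)) (.leaf 769)))))) (.node (.node (.node (.node (.node (.node (.leaf 234) (.leaf 577)) (.node (.leaf 815) (.leaf 328))) (.node (.node (.leaf 348) (.leaf 414)) (.leaf 47))) (.node (.node (.node (.leaf 507) (.leaf 92)) (.node (.leaf 857) (.leaf 597))) (.node (.node (.leaf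 258) (.leaf 531)) (.leaf 217)))) (.node (.node (.node (.node (.leaf 763) (.leaf 334)) (.node (.leaf 559) (.leaf 42))) (.node (.node (.leaf 664) (.leaf 413)) (.leaf 242))) (.node (.node (.node (.leaf 867) (.leaf 670)) (.node (.leaf 861) (.leaf 341))) (.node (.node (.leaf 223) (.leaf 295)) (.leaf 833))))) (.node (.node (.node (.node (.node (.leaf 106) (.leaf 449)) (.node (.leaf 687) (.leaf 202))) (.node (.node (.leaf 434) (.leaf 707)) (.leaf 269))) (.node (.node (.node (.leaf 379) (.leaf 798)) (.node (.leaf 356) (.leaf 469))) (.node (.node (.leaf 198) (.leaf 241)) (.leaf 86)))) (.node (.node (.node (.node (.leaf 635) (.leaf 206)) (.node (.leaf 431) (.leaf 725))) (.node (.node (.leaf 34) (.leaf 337)) (.leaf 111))) (.node (.node (.node (.leaf 447) (.leaf 542)) (.leaf 241)) (.node (.node (.leaf 95) (.leaf 556)) (.leaf 705)))))))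

/-- Part of `succT`. -/
def succT_p00011 : Tr := .node (.node (.node (.node (.node (.node (.node (.node (.leaf 313) (.leaf 593)) (.node (.leaf 48) (.leaf 425))) (.node (.node (.leaf 344) (.leaf 494)) (.leaf 117))) (.node (.node (.node (.leaf 715) (.leaf 177)) (.node (.leaf 383) (.leaf 805))) (.node (.node (.leaf 488) (.leaf 28)) (.leaf 294)))) (.node (.node (.node (.node (.leaf 58) (.leaf 337)) (.node (.leaf 639) (.leaf 152))) (.node (.node (.leaf 172) (.leaf 499)) (.leaf 5))) (.node (.node (.node (.leaf 459) (.leaf 750)) (.node (.leaf 783) (.leaf 549))) (.node (.node (.leaf 304) (.leaf 210)) (.leaf 38))))) (.node (.node (.node (.node (.node (.leaf 189) (.leaf 465)) (.node (.leaf 767) (.leaf 282))) (.node (.node (.leaf 672) (.leaf 366)) (.leaf 301))) (.node (.node (.node (.leaf 587) (.leaf 32)) (.node (.leaf 300) (.leaf 677))) (.node (.node (.leaf 372) (.leaf 809)) (.leaf 161)))) (.node (.node (.node (.node (.leaf 843) (.leaf 288)) (.node (.leaf 511) (.leaf 24))) (.node (.node (.leaf 58) (.leaf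 633)) (.leaf 122))) (.node (.node (.node (.leaf 658) (.leaf 622)) (.node (.leaf 648) (.leaf 421))) (.node (.node (.leaf 162) (.leaf 9)) (.leaf 721)))))) (.node (.node (.node (.node (.node (.node (.leaf 81) (.leaf 529)) (.node (.leaf 831) (.leaf 275))) (.node (.node (.leaf 724) (.leaf 430)) (.leaf 329))) (.node (.node (.node (.leaf 523) (.leaf 95)) (.node (.leaf 873) (.leaf 613))) (.node (.node (.leaf 424) (.leaf 149)) (.leaf 108)))) (.node (.node (.node (.node (.leaf 779) (.leaf 863)) (.node (.leaf 575) (.leaf 251))) (.node (.node (.leaf 63) (.leaf 359)) (.leaf 121))) (.node (.node (.node (.leaf 856) (.leaf 686)) (.node (.leaf 816) (.leaf 357))) (.node (.node (.leaf 239) (.leaf 555)) (.leaf 785))))) (.node (.node (.node (.node (.node (.leaf 121) (.leaf 401)) (.node (.leaf 703) (.leaf 218))) (.node (.node (.leaf 142) (.leaf 858)) (.leaf 33))) (.node (.node (.node (.leaf 395) (.leaf 814)) (.node (.leaf 824) (.leaf 485))) (.node (.node (.leaf 106) (.leaf 419)) (.leaf 236)))) (.node (.node (.node (.node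 (.leaf 651) (.leaf 223)) (.node (.leaf 447) (.leaf 741))) (.node (.node (.leaf 588) (.leaf 862)) (.leaf 1))) (.node (.node (.node (.leaf 410) (.leaf 558)) (.leaf 118)) (.node (.node (.leaf 111) (.leaf 112)) (.leaf 657))))))) (.node (.node (.node (.node (.node (.node (.node (.leaf 282) (.leaf 625)) (.node (.leaf 16) (.leaf 25))) (.node (.node (.leaf 786) (.leaf 462)) (.leaf 197))) (.node (.node (.node (.leaf 683) (.leaf 127)) (.node (.leaf 351) (.leaf 645))) (.node (.node (.leaf 547) (.leaf 249)) (.leaf 241)))) (.node (.node (.node (.node (.leaf 26) (.leaf 369)) (.node (.leaf 607) (.leaf 122))) (.node (.node (.leaf 212) (.leaf 843)) (.leaf 25))) (.node (.node (.node (.leaf 427) (.leaf 718)) (.node (.leaf 391) (.leaf 389))) (.node (.node (.leaf 272) (.leaf 559)) (.leaf 5))))) (.node (.node (.node (.node (.node (.leaf 177) (.leaf 497)) (.node (.leaf 735) (.leaf 78))) (.node (.node (.leaf 476) (.leaf 890)) (.leaf 321))) (.node (.node (.node (.leaf 555) (.leaf 846)) (.node (.leaf 520) (.leaf 517))) (.node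 (.node (.leaf 419) (.leaf 715)) (.leaf 137)))) (.node (.node (.node (.node (.leaf 811) (.leaf 256)) (.node (.leaf 479) (.leaf 773))) (.node (.node (.leaf 48) (.leaf 534)) (.leaf 201))) (.node (.node (.node (.leaf 534) (.leaf 590)) (.node (.leaf 555) (.leaf 859))) (.node (.node (.leaf 144) (.leaf 35)) (.leaf 753)))))) (.node (.node (.node (.node (.node (.node (.leaf 217) (.leaf 561)) (.node (.leaf 799) (.leaf 310))) (.node (.node (.leaf 851) (.leaf 398)) (.leaf 322))) (.node (.node (.node (.leaf 491) (.leaf 64)) (.node (.leaf 703) (.leaf 709))) (.node (.node (.leaf 428) (.leaf 515)) (.leaf 201)))) (.node (.node (.node (.node (.leaf 747) (.leaf 319)) (.node (.leaf 543) (.leaf 58))) (.node (.node (.leaf 69) (.leaf 638)) (.leaf 203))) (.node (.node (.node (.leaf 888) (.leaf 654)) (.node (.leaf 364) (.leaf 453))) (.node (.node (.leaf 208) (.leaf 194)) (.leaf 817))))) (.node (.node (.node (.node (.node (.leaf 248) (.leaf 433)) (.node (.leaf 671) (.leaf 184))) (.node (.node (.leaf 241) (.leaf 657)) (.leaf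 26))) (.node (.node (.node (.leaf 363) (.leaf 782)) (.node (.leaf 351) (.leaf 581))) (.node (.node (.leaf 335) (.leaf 214)) (.leaf 70)))) (.node (.node (.node (.node (.leaf 619) (.leaf 188)) (.node (.leaf 415) (.leaf 837))) (.node (.node (.leaf 532) (.leaf 360)) (.leaf 305))) (.node (.node (.node (.leaf 354) (.leaf 526)) (.leaf 199)) (.node (.node (.leaf 77) (.leaf 367)) (.leaf 689)))))))

/-- Part of `succT`. -/
def succT_p00100 : Tr := .node (.node (.node (.node (.node (.node (.node (.node (.leaf 335) (.leaf 621)) (.node (.leaf 68) (.leaf 23))) (.node (.node (.leaf 137) (.leaf 514)) (.leaf 87))) (.node (.node (.node (.leaf 607) (.leaf 157)) (.node (.leaf 403) (.leaf 825))) (.node (.node (.leaf 544) (.leaf 620)) (.leaf 317)))) (.node (.node (.node (.node (.leaf 260) (.leaf 365)) (.node (.leaf 659) (.leaf 162))) (.node (.node (.leaf 144) (.leaf 613)) (.leaf 23))) (.node (.node (.node (.leaf 351) (.leaf 770)) (.node (.leaf 879) (.leaf 569))) (.node (.node (.leaf 324) (.leaf 784)) (.leaf 57))))) (.node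 (.node (.node (.node (.node (.leaf 205) (.leaf 493)) (.node (.leaf 787) (.leaf 297))) (.node (.node (.leaf 704) (.leaf 386)) (.leaf 320))) (.node (.node (.node (.leaf 479) (.leaf 52)) (.node (.leaf 600) (.leaf 697))) (.node (.node (.leaf 436) (.leaf 292)) (.leaf 145)))) (.node (.node (.node (.node (.leaf 735) (.leaf 308)) (.node (.leaf 531) (.leaf 70))) (.node (.node (.leaf 52) (.leaf 868)) (.leaf 88))) (.node (.node (.node (.leaf 710) (.leaf 642)) (.node (.leaf 675) (.leaf 441))) (.node (.node (.leaf 196) (.leaf 511)) (.leaf 749)))))) (.node (.node (.node (.node (.node (.node (.leaf 269) (.leaf 557)) (.node (.leaf 3) (.leaf 105))) (.node (.node (.leaf 140) (.leaf 450)) (.leaf 319))) (.node (.node (.node (.leaf 671) (.leaf 115)) (.node (.leaf 339) (.leaf 633))) (.node (.node (.leaf 500) (.leaf 567)) (.leaf 250)))) (.node (.node (.node (.node (.leaf 14) (.leaf 883)) (.node (.leaf 595) (.leaf 108))) (.node (.node (.leaf 174) (.leaf 397)) (.leaf 256))) (.node (.node (.node (.leaf 415) (.leaf 706)) (.node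 (.leaf 768) (.leaf 377))) (.node (.node (.leaf 257) (.leaf 296)) (.leaf 813))))) (.node (.node (.node (.node (.node (.leaf 141) (.leaf 429)) (.node (.leaf 723) (.leaf 236))) (.node (.node (.leaf 487) (.leaf 878)) (.leaf 24))) (.node (.node (.node (.leaf 543) (.leaf 834)) (.node (.leaf 408) (.leaf 505))) (.node (.node (.leaf 360) (.leaf 261)) (.leaf 117)))) (.node (.node (.node (.node (.leaf 799) (.leaf 243)) (.node (.leaf 467) (.leaf 761))) (.node (.node (.leaf 60) (.leaf 361)) (.leaf 248))) (.node (.node (.node (.leaf 832) (.leaf 578)) (.node (.leaf 255) (.leaf 868))) (.node (.node (.leaf 132) (.leaf 592)) (.leaf 685))))))) (.node (.node (.node (.node (.node (.node (.node (.leaf 329) (.leaf 653)) (.node (.leaf 36) (.leaf 201))) (.node (.node (.leaf 421) (.leaf 482)) (.leaf 105))) (.node (.node (.node (.leaf 703) (.leaf 152)) (.node (.leaf 371) (.leaf 793))) (.node (.node (.leaf 567) (.leaf 16)) (.leaf 281)))) (.node (.node (.node (.node (.leaf 45) (.leaf 397)) (.node (.leaf 627) (.leaf 134))) (.node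 (.node (.leaf 128) (.leaf 793)) (.leaf 11))) (.node (.node (.node (.leaf 447) (.leaf 738)) (.node (.leaf 182) (.leaf 537))) (.node (.node (.leaf 292) (.leaf 578)) (.leaf 26))))) (.node (.node (.node (.node (.node (.leaf 169) (.leaf 525)) (.node (.leaf 755) (.leaf 294))) (.node (.node (.leaf 849) (.leaf 354)) (.leaf 307))) (.node (.node (.node (.leaf 575) (.leaf 19)) (.node (.leaf 547) (.leaf 665))) (.node (.node (.leaf 439) (.leaf 277)) (.leaf 154)))) (.node (.node (.node (.node (.leaf 831) (.leaf 276)) (.node (.leaf 499) (.leaf 12))) (.node (.node (.leaf 68) (.leaf 662)) (.leaf 107))) (.node (.node (.node (.leaf 590) (.leaf 610)) (.node (.leaf 563) (.leaf 409))) (.node (.node (.leaf 174) (.leaf 541)) (.leaf 781)))))) (.node (.node (.node (.node (.node (.node (.leaf 238) (.leaf 589)) (.node (.leaf 819) (.leaf 302))) (.node (.node (.leaf 852) (.leaf 418)) (.leaf 308))) (.node (.node (.node (.leaf 511) (.leaf 84)) (.node (.leaf 878) (.leaf 601))) (.node (.node (.leaf 448) (.leaf 827)) (.leaf 213))))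 (.node (.node (.node (.node (.leaf 767) (.leaf 851)) (.node (.leaf 563) (.leaf 242))) (.node (.node (.leaf 70) (.leaf 352)) (.leaf 108))) (.node (.node (.node (.leaf 871) (.leaf 674)) (.node (.leaf 756) (.leaf 345))) (.node (.node (.leaf 227) (.leaf 40)) (.leaf 845))))) (.node (.node (.node (.node (.node (.leaf 110) (.leaf 461)) (.node (.leaf 691) (.leaf 198))) (.node (.node (.leaf 263) (.leaf 819)) (.leaf 12))) (.node (.node (.node (.leaf 383) (.leaf 802)) (.node (.leaf 360) (.leaf 473))) (.node (.node (.leaf 230) (.leaf 184)) (.leaf 91)))) (.node (.node (.node (.node (.leaf 639) (.leaf 211)) (.node (.leaf 435) (.leaf 729))) (.node (.node (.leaf 584) (.leaf 851)) (.leaf 0))) (.node (.node (.node (.leaf 866) (.leaf 546)) (.leaf 106)) (.node (.node (.leaf 99) (.leaf 560)) (.leaf 717)))))))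

/-- Part of `succT`. -/
def succT_p00101 : Tr := .node (.node (.node (.node (.node (.node (.node (.node (.leaf 317) (.leaf 605)) (.node (.leaf 52) (.leaf 395))) (.node (.node (.leaf 368) (.leaf 498)) (.leaf 125))) (.node (.node (.node (.leaf 719) (.leaf 162)) (.node (.leaf 387) (.leaf 809))) (.node (.node (.leaf 23) (.leaf 384)) (.leaf 298)))) (.node (.node (.node (.node (.leaf 62) (.leaf 349)) (.node (.leaf 643) (.leaf 156))) (.node (.node (.leaf 390) (.leaf 50)) (.leaf 275))) (.node (.node (.node (.leaf 463) (.leaf 754)) (.node (.leaf 463) (.leaf 553))) (.node (.node (.leaf 307) (.leaf 217)) (.leaf 42))))) (.node (.node (.node (.node (.node (.leaf 185) (.leaf 477)) (.node (.leaf 771) (.leaf 278))) (.node (.node (.leaf 663) (.leaf 370)) (.leaf 51))) (.node (.node (.node (.leaf 591) (.leaf 36)) (.node (.leaf 639) (.leaf 681))) (.node (.node (.leaf 238) (.leaf 487)) (.leaf 173)))) (.node (.node (.node (.node (.leaf 847) (.leaf 290)) (.node (.leaf 515) (.leaf 26))) (.node (.node (.leaf 656) (.leaf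 778)) (.leaf 126))) (.node (.node (.node (.leaf 661) (.leaf 626)) (.node (.leaf 623) (.leaf 425))) (.node (.node (.leaf 183) (.leaf 195)) (.leaf 733)))))) (.node (.node (.node (.node (.node (.node (.leaf 85) (.leaf 541)) (.node (.leaf 835) (.leaf 285))) (.node (.node (.leaf 124) (.leaf 434)) (.leaf 52))) (.node (.node (.node (.leaf 527) (.leaf 99)) (.node (.leaf 877) (.leaf 617))) (.node (.node (.leaf 191) (.leaf 252)) (.leaf 104)))) (.node (.node (.node (.node (.leaf 783) (.leaf 867)) (.node (.leaf 579) (.leaf 258))) (.node (.node (.leaf 696) (.leaf 453)) (.leaf 127))) (.node (.node (.node (.leaf 887) (.leaf 690)) (.node (.leaf 886) (.leaf 361))) (.node (.node (.leaf 243) (.leaf 587)) (.leaf 797))))) (.node (.node (.node (.node (.node (.leaf 127) (.leaf 413)) (.node (.leaf 707) (.leaf 214))) (.node (.node (.leaf 454) (.leaf 862)) (.leaf 276))) (.node (.node (.node (.leaf 399) (.leaf 818)) (.node (.leaf 854) (.leaf 489))) (.node (.node (.leaf 255) (.leaf 687)) (.leaf 232)))) (.node (.node (.node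 (.node (.leaf 655) (.leaf 227)) (.node (.leaf 451) (.leaf 745))) (.node (.node (.leaf 32) (.leaf 373)) (.leaf 154))) (.node (.node (.node (.leaf 806) (.leaf 562)) (.node (.leaf 128) (.leaf 852))) (.node (.node (.leaf 115) (.leaf 36)) (.leaf 669))))))) (.node (.node (.node (.node (.node (.node (.node (.leaf 286) (.leaf 637)) (.node (.leaf 17) (.leaf 273))) (.node (.node (.leaf 412) (.leaf 466)) (.leaf 208))) (.node (.node (.node (.leaf 687) (.leaf 130)) (.node (.leaf 355) (.leaf 649))) (.node (.node (.leaf 14) (.leaf 189)) (.leaf 266)))) (.node (.node (.node (.node (.leaf 30) (.leaf 381)) (.node (.leaf 611) (.leaf 118))) (.node (.node (.leaf 441) (.leaf 436)) (.leaf 268))) (.node (.node (.node (.leaf 431) (.leaf 722)) (.node (.leaf 840) (.leaf 393))) (.node (.node (.leaf 276) (.leaf 591)) (.leaf 29))))) (.node (.node (.node (.node (.node (.leaf 181) (.leaf 509)) (.node (.leaf 739) (.leaf 87))) (.node (.node (.leaf 528) (.leaf 338)) (.leaf 44))) (.node (.node (.node (.leaf 559) (.leaf 2)) (.node (.leaf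 559) (.leaf 521))) (.node (.node (.leaf 184) (.leaf 455)) (.leaf 133)))) (.node (.node (.node (.node (.leaf 815) (.leaf 248)) (.node (.leaf 483) (.leaf 777))) (.node (.node (.leaf 679) (.leaf 566)) (.leaf 205))) (.node (.node (.node (.leaf 561) (.leaf 594)) (.node (.leaf 580) (.leaf 884))) (.node (.node (.leaf 147) (.leaf 240)) (.leaf 765)))))) (.node (.node (.node (.node (.node (.node (.leaf 223) (.leaf 573)) (.node (.leaf 803) (.leaf 316))) (.node (.node (.leaf 881) (.leaf 402)) (.leaf 72))) (.node (.node (.node (.leaf 495) (.leaf 66)) (.node (.leaf 3) (.leaf 713))) (.node (.node (.leaf 260) (.leaf 845)) (.leaf 197)))) (.node (.node (.node (.node (.leaf 751) (.leaf 324)) (.node (.leaf 547) (.leaf 54))) (.node (.node (.leaf 708) (.leaf 704)) (.leaf 207))) (.node (.node (.node (.leaf 855) (.leaf 658)) (.node (.leaf 90) (.leaf 457))) (.node (.node (.leaf 211) (.leaf 29)) (.leaf 829))))) (.node (.node (.node (.node (.node (.leaf 261) (.leaf 445)) (.node (.leaf 675) (.leaf 188))) (.node (.node (.leaf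 422) (.leaf 631)) (.leaf 296))) (.node (.node (.node (.leaf 367) (.leaf 786)) (.node (.leaf 736) (.leaf 585))) (.node (.node (.leaf 299) (.leaf 222)) (.leaf 93)))) (.node (.node (.node (.node (.leaf 623) (.leaf 194)) (.node (.leaf 419) (.leaf 841))) (.node (.node (.leaf 36) (.leaf 64)) (.leaf 329))) (.node (.node (.node (.leaf 220) (.leaf 530)) (.leaf 206)) (.node (.node (.leaf 81) (.leaf 461)) (.leaf 701)))))))

/-- Part of `succT`. -/
def succT_p00110 : Tr := .node (.node (.node (.node (.node (.node (.node (.node (.leaf 326) (.leaf 613)) (.node (.leaf 55) (.leaf 520))) (.node (.node (.leaf 440) (.leaf 506)) (.leaf 142))) (.node (.node (.node (.leaf 599) (.leaf 170)) (.node (.leaf 395) (.leaf 817))) (.node (.node (.leaf 591) (.leaf 571)) (.leaf 325)))) (.node (.node (.node (.node (.leaf 41) (.leaf 357)) (.node (.leaf 651) (.leaf 170))) (.node (.node (.leaf 222) (.leaf 539)) (.leaf 266))) (.node (.node (.node (.leaf 343) (.leaf 762)) (.node (.leaf 876) (.leaf 561))) (.node (.node (.leaf 313) (.leaf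 317)) (.leaf 50))))) (.node (.node (.node (.node (.node (.leaf 199) (.leaf 485)) (.node (.leaf 779) (.leaf 292))) (.node (.node (.leaf 680) (.leaf 378)) (.leaf 42))) (.node (.node (.node (.leaf 471) (.leaf 44)) (.node (.leaf 708) (.leaf 689))) (.node (.node (.leaf 463) (.leaf 759)) (.leaf 178)))) (.node (.node (.node (.node (.leaf 727) (.leaf 298)) (.node (.leaf 523) (.leaf 6))) (.node (.node (.leaf 67) (.leaf 858)) (.leaf 143))) (.node (.node (.node (.leaf 638) (.leaf 634)) (.node (.leaf 660) (.leaf 433))) (.node (.node (.leaf 187) (.leaf 289)) (.leaf 741)))))) (.node (.node (.node (.node (.node (.node (.leaf 93) (.leaf 549)) (.node (.leaf 843) (.leaf 161))) (.node (.node (.leaf 374) (.leaf 442)) (.leaf 70))) (.node (.node (.node (.leaf 663) (.leaf 108)) (.node (.leaf 885) (.leaf 625))) (.node (.node (.leaf 456) (.leaf 294)) (.leaf 261)))) (.node (.node (.node (.node (.leaf 33) (.leaf 875)) (.node (.leaf 587) (.leaf 98))) (.node (.node (.leaf 72) (.leaf 106)) (.leaf 141))) (.node (.node (.node (.leaf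 407) (.leaf 698)) (.node (.leaf 764) (.leaf 369))) (.node (.node (.leaf 249) (.leaf 831)) (.leaf 805))))) (.node (.node (.node (.node (.node (.leaf 135) (.leaf 421)) (.node (.leaf 715) (.leaf 226))) (.node (.node (.leaf 262) (.leaf 870)) (.leaf 294))) (.node (.node (.node (.leaf 535) (.leaf 826)) (.node (.leaf 258) (.leaf 497))) (.node (.node (.leaf 297) (.leaf 840)) (.leaf 125)))) (.node (.node (.node (.node (.leaf 791) (.leaf 236)) (.node (.leaf 459) (.leaf 753))) (.node (.node (.leaf 576) (.leaf 104)) (.leaf 2))) (.node (.node (.node (.leaf 882) (.leaf 570)) (.node (.leaf 144) (.leaf 860))) (.node (.node (.leaf 124) (.leaf 263)) (.leaf 677))))))) (.node (.node (.node (.node (.node (.node (.node (.leaf 265) (.leaf 645)) (.node (.leaf 28) (.leaf 842))) (.node (.node (.leaf 742) (.leaf 474)) (.leaf 222))) (.node (.node (.node (.leaf 695) (.leaf 140)) (.node (.leaf 363) (.leaf 785))) (.node (.node (.leaf 524) (.leaf 393)) (.leaf 274)))) (.node (.node (.node (.node (.leaf 39) (.leaf 389)) (.node (.leaf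 619) (.leaf 142))) (.node (.node (.leaf 175) (.leaf 439)) (.leaf 287))) (.node (.node (.node (.leaf 439) (.leaf 730)) (.node (.leaf 857) (.leaf 529))) (.node (.node (.leaf 279) (.leaf 138)) (.leaf 21))))) (.node (.node (.node (.node (.node (.leaf 161) (.leaf 517)) (.node (.leaf 747) (.leaf 90))) (.node (.node (.leaf 568) (.leaf 346)) (.leaf 63))) (.node (.node (.node (.leaf 567) (.leaf 12)) (.node (.leaf 532) (.leaf 657))) (.node (.node (.leaf 352) (.leaf 789)) (.leaf 185)))) (.node (.node (.node (.node (.leaf 823) (.leaf 268)) (.node (.leaf 491) (.leaf 1))) (.node (.node (.leaf 57) (.leaf 689)) (.leaf 221))) (.node (.node (.node (.leaf 558) (.leaf 602)) (.node (.leaf 536) (.leaf 401))) (.node (.node (.leaf 159) (.leaf 283)) (.leaf 773)))))) (.node (.node (.node (.node (.node (.node (.leaf 230) (.leaf 581)) (.node (.leaf 811) (.leaf 322))) (.node (.node (.leaf 381) (.leaf 410)) (.leaf 64))) (.node (.node (.node (.leaf 503) (.leaf 75)) (.node (.leaf 853) (.leaf 593))) (.node (.node (.leaf 460) (.leaf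 336)) (.leaf 221)))) (.node (.node (.node (.node (.leaf 759) (.leaf 332)) (.node (.leaf 555) (.leaf 68))) (.node (.node (.leaf 64) (.leaf 586)) (.leaf 224))) (.node (.node (.node (.leaf 863) (.leaf 666)) (.node (.leaf 344) (.leaf 337))) (.node (.node (.leaf 220) (.leaf 563)) (.leaf 837))))) (.node (.node (.node (.node (.node (.leaf 102) (.leaf 453)) (.node (.leaf 683) (.leaf 206))) (.node (.node (.leaf 208) (.leaf 632)) (.leaf 288))) (.node (.node (.node (.leaf 375) (.leaf 794)) (.node (.leaf 804) (.leaf 465))) (.node (.node (.leaf 249) (.leaf 808)) (.leaf 82)))) (.node (.node (.node (.node (.leaf 631) (.leaf 204)) (.node (.leaf 427) (.leaf 721))) (.node (.node (.leaf 552) (.leaf 428)) (.leaf 0))) (.node (.node (.node (.leaf 776) (.leaf 538)) (.leaf 223)) (.node (.node (.leaf 89) (.leaf 178)) (.leaf 709)))))))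

/-- Part of `succT`. -/
def succT_p00111 : Tr := .node (.node (.node (.node (.node (.node (.node (.node (.leaf 310) (.leaf 597)) (.node (.leaf 43) (.leaf 220))) (.node (.node (.leaf 744) (.leaf 490)) (.leaf 233))) (.node (.node (.node (.leaf 711) (.leaf 181)) (.node (.leaf 379) (.leaf 801))) (.node (.node (.leaf 24) (.leaf 445)) (.leaf 269)))) (.node (.node (.node (.node (.leaf 54) (.leaf 341)) (.node (.leaf 635) (.leaf 148))) (.node (.node (.leaf 382) (.leaf 471)) (.leaf 31))) (.node (.node (.node (.leaf 455) (.leaf 746)) (.node (.leaf 791) (.leaf 545))) (.node (.node (.leaf 299) (.leaf 643)) (.leaf 33))))) (.node (.node (.node (.node (.node (.leaf 157) (.leaf 469)) (.node (.leaf 763) (.leaf 276))) (.node (.node (.leaf 596) (.leaf 362)) (.leaf 327))) (.node (.node (.node (.leaf 583) (.leaf 28)) (.node (.leaf 584) (.leaf 673))) (.node (.node (.leaf 228) (.leaf 132)) (.leaf 165)))) (.node (.node (.node (.node (.leaf 839) (.leaf 284)) (.node (.leaf 507) (.leaf 20))) (.node (.node (.leaf 632) (.leaf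 668)) (.leaf 235))) (.node (.node (.node (.leaf 641) (.leaf 618)) (.node (.leaf 40) (.leaf 417))) (.node (.node (.leaf 166) (.leaf 751)) (.leaf 725)))))) (.node (.node (.node (.node (.node (.node (.leaf 92) (.leaf 533)) (.node (.leaf 827) (.leaf 27))) (.node (.node (.leaf 427) (.leaf 426)) (.leaf 328))) (.node (.node (.node (.leaf 519) (.leaf 80)) (.node (.leaf 869) (.leaf 609))) (.node (.node (.leaf 192) (.leaf 835)) (.leaf 97)))) (.node (.node (.node (.node (.leaf 775) (.leaf 880)) (.node (.leaf 571) (.leaf 255))) (.node (.node (.leaf 720) (.leaf 449)) (.leaf 236))) (.node (.node (.node (.leaf 879) (.leaf 682)) (.node (.leaf 811) (.leaf 353))) (.node (.node (.leaf 236) (.leaf 250)) (.leaf 789))))) (.node (.node (.node (.node (.node (.leaf 117) (.leaf 405)) (.node (.leaf 699) (.leaf 209))) (.node (.node (.leaf 446) (.leaf 854)) (.leaf 32))) (.node (.node (.node (.leaf 391) (.leaf 810)) (.node (.leaf 819) (.leaf 481))) (.node (.node (.leaf 134) (.leaf 331)) (.leaf 225)))) (.node (.node (.node (.node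 (.leaf 647) (.leaf 219)) (.node (.leaf 443) (.leaf 737))) (.node (.node (.leaf 31) (.leaf 634)) (.leaf 157))) (.node (.node (.node (.leaf 400) (.leaf 554)) (.leaf 234)) (.node (.node (.leaf 108) (.leaf 423)) (.leaf 661))))))) (.node (.node (.node (.node (.node (.node (.node (.leaf 278) (.leaf 629)) (.node (.leaf 11) (.leaf 170))) (.node (.node (.leaf 808) (.leaf 458)) (.leaf 85))) (.node (.node (.node (.leaf 679) (.leaf 123)) (.node (.leaf 347) (.leaf 641))) (.node (.node (.leaf 28) (.leaf 839)) (.leaf 259)))) (.node (.node (.node (.node (.leaf 21) (.leaf 373)) (.node (.leaf 603) (.leaf 113))) (.node (.node (.leaf 449) (.leaf 870)) (.leaf 22))) (.node (.node (.node (.leaf 423) (.leaf 714)) (.node (.leaf 775) (.leaf 385))) (.node (.node (.leaf 267) (.leaf 190)) (.leaf 2))))) (.node (.node (.node (.node (.node (.leaf 145) (.leaf 501)) (.node (.leaf 731) (.leaf 74))) (.node (.node (.leaf 472) (.leaf 886)) (.leaf 317))) (.node (.node (.node (.leaf 551) (.leaf 842)) (.node (.leaf 436) (.leaf 513))) (.node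 (.node (.leaf 180) (.leaf 238)) (.leaf 131)))) (.node (.node (.node (.node (.leaf 807) (.leaf 252)) (.node (.leaf 475) (.leaf 769))) (.node (.node (.leaf 671) (.leaf 500)) (.leaf 86))) (.node (.node (.node (.leaf 482) (.leaf 586)) (.node (.leaf 511) (.leaf 876))) (.node (.node (.leaf 140) (.leaf 719)) (.leaf 757)))))) (.node (.node (.node (.node (.node (.node (.leaf 213) (.leaf 565)) (.node (.leaf 795) (.leaf 308))) (.node (.node (.leaf 725) (.leaf 394)) (.leaf 318))) (.node (.node (.node (.leaf 487) (.leaf 60)) (.node (.leaf 691) (.leaf 705))) (.node (.node (.leaf 259) (.leaf 325)) (.leaf 195)))) (.node (.node (.node (.node (.leaf 743) (.leaf 315)) (.node (.leaf 539) (.leaf 52))) (.node (.node (.leaf 700) (.leaf 699)) (.leaf 254))) (.node (.node (.node (.leaf 871) (.leaf 650)) (.node (.leaf 712) (.leaf 449))) (.node (.node (.leaf 204) (.leaf 581)) (.leaf 821))))) (.node (.node (.node (.node (.node (.leaf 253) (.leaf 437)) (.node (.leaf 667) (.leaf 180))) (.node (.node (.leaf 414) (.leaf 312)) (.leaf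 21))) (.node (.node (.node (.leaf 359) (.leaf 778)) (.node (.leaf 735) (.leaf 577))) (.node (.node (.leaf 332) (.leaf 709)) (.leaf 45)))) (.node (.node (.node (.node (.leaf 615) (.leaf 192)) (.node (.leaf 411) (.leaf 833))) (.node (.node (.leaf 33) (.leaf 388)) (.leaf 322))) (.node (.node (.node (.leaf 800) (.leaf 522)) (.leaf 253)) (.node (.node (.leaf 75) (.leaf 221)) (.leaf 693)))))))

/-- Part of `succT`. -/
def succT_p01000 : Tr := .node (.node (.node (.node (.node (.node (.node (.node (.leaf 333) (.leaf 623)) (.node (.leaf 69) (.leaf 385))) (.node (.node (.leaf 862) (.leaf 520)) (.leaf 726))) (.node (.node (.node (.leaf 605) (.leaf 155)) (.node (.leaf 405) (.leaf 827))) (.node (.node (.leaf 554) (.leaf 288)) (.leaf 319)))) (.node (.node (.node (.node (.leaf 258) (.leaf 367)) (.node (.leaf 661) (.leaf 164))) (.node (.node (.leaf 148) (.leaf 739)) (.leaf 470))) (.node (.node (.node (.leaf 349) (.leaf 776)) (.node (.leaf 884) (.leaf 571))) (.node (.node (.leaf 325) (.leaf 303)) (.leaf 59)))))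 (.node (.node (.node (.node (.node (.leaf 207) (.leaf 495)) (.node (.leaf 789) (.leaf 299))) (.node (.node (.leaf 361) (.leaf 392)) (.leaf 598))) (.node (.node (.node (.leaf 477) (.leaf 54)) (.node (.leaf 720) (.leaf 699))) (.node (.node (.leaf 796) (.leaf 741)) (.leaf 147)))) (.node (.node (.node (.node (.leaf 733) (.leaf 310)) (.node (.leaf 533) (.leaf 72))) (.node (.node (.leaf 307) (.leaf 435)) (.leaf 342))) (.node (.node (.node (.leaf 690) (.leaf 648)) (.node (.leaf 680) (.leaf 443))) (.node (.node (.leaf 198) (.leaf 81)) (.leaf 751)))))) (.node (.node (.node (.node (.node (.node (.leaf 271) (.leaf 559)) (.node (.leaf 6) (.leaf 323))) (.node (.node (.leaf 874) (.leaf 456)) (.leaf 662))) (.node (.node (.node (.leaf 669) (.leaf 117)) (.node (.leaf 341) (.leaf 635))) (.node (.node (.leaf 466) (.leaf 130)) (.leaf 252)))) (.node (.node (.node (.node (.leaf 16) (.leaf 885)) (.node (.leaf 597) (.leaf 106))) (.node (.node (.leaf 99) (.leaf 667)) (.leaf 406))) (.node (.node (.node (.leaf 413) (.leaf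 712)) (.node (.leaf 448) (.leaf 379))) (.node (.node (.leaf 261) (.leaf 841)) (.leaf 815))))) (.node (.node (.node (.node (.node (.leaf 143) (.leaf 431)) (.node (.leaf 725) (.leaf 234))) (.node (.node (.leaf 467) (.leaf 880)) (.leaf 534))) (.node (.node (.node (.leaf 541) (.leaf 840)) (.node (.leaf 464) (.leaf 507))) (.node (.node (.leaf 732) (.leaf 677)) (.leaf 119)))) (.node (.node (.node (.node (.leaf 797) (.leaf 258)) (.node (.leaf 469) (.leaf 763))) (.node (.node (.leaf 316) (.leaf 468)) (.leaf 297))) (.node (.node (.node (.leaf 517) (.leaf 584)) (.node (.leaf 790) (.leaf 870))) (.node (.node (.leaf 134) (.leaf 216)) (.leaf 687))))))) (.node (.node (.node (.node (.node (.node (.node (.leaf 331) (.leaf 655)) (.node (.leaf 37) (.leaf 617))) (.node (.node (.leaf 756) (.leaf 488)) (.leaf 814))) (.node (.node (.node (.leaf 701) (.leaf 146)) (.node (.leaf 373) (.leaf 795))) (.node (.node (.leaf 569) (.leaf 409)) (.leaf 283)))) (.node (.node (.node (.node (.leaf 47) (.leaf 399)) (.node (.leaf 629)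 (.leaf 136))) (.node (.node (.leaf 155) (.leaf 274)) (.leaf 494))) (.node (.node (.node (.leaf 445) (.leaf 744)) (.node (.leaf 184) (.leaf 539))) (.node (.node (.leaf 293) (.leaf 109)) (.leaf 28))))) (.node (.node (.node (.node (.node (.leaf 171) (.leaf 527)) (.node (.leaf 757) (.leaf 296))) (.node (.node (.leaf 631) (.leaf 360)) (.leaf 622))) (.node (.node (.node (.leaf 573) (.leaf 21)) (.node (.leaf 552) (.leaf 667))) (.node (.node (.leaf 807) (.leaf 737)) (.leaf 156)))) (.node (.node (.node (.node (.leaf 829) (.leaf 278)) (.node (.leaf 501) (.leaf 10))) (.node (.node (.leaf 323) (.leaf 745)) (.leaf 430))) (.node (.node (.node (.leaf 890) (.leaf 616)) (.node (.leaf 568) (.leaf 411))) (.node (.node (.leaf 172) (.leaf 146)) (.leaf 783)))))) (.node (.node (.node (.node (.node (.node (.leaf 240) (.leaf 591)) (.node (.leaf 821) (.leaf 304))) (.node (.node (.leaf 108) (.leaf 424)) (.leaf 686))) (.node (.node (.node (.leaf 509) (.leaf 86)) (.node (.leaf 876) (.leaf 603))) (.node (.node (.leaf 828) (.leaf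 306)) (.leaf 215)))) (.node (.node (.node (.node (.leaf 765) (.leaf 853)) (.node (.leaf 565) (.leaf 244))) (.node (.node (.leaf 329) (.leaf 355)) (.leaf 366))) (.node (.node (.node (.leaf 873) (.leaf 680)) (.node (.leaf 375) (.leaf 347))) (.node (.node (.leaf 230) (.leaf 483)) (.leaf 847))))) (.node (.node (.node (.node (.node (.leaf 112) (.leaf 463)) (.node (.leaf 693) (.leaf 200))) (.node (.node (.leaf 245) (.leaf 878)) (.leaf 558))) (.node (.node (.node (.leaf 381) (.leaf 808)) (.node (.leaf 808) (.leaf 475))) (.node (.node (.leaf 1) (.leaf 611)) (.leaf 89)))) (.node (.node (.node (.node (.leaf 637) (.leaf 213)) (.node (.leaf 437) (.leaf 731))) (.node (.node (.leaf 542) (.leaf 777)) (.leaf 97))) (.node (.node (.node (.leaf 236) (.leaf 552)) (.leaf 750)) (.node (.node (.leaf 102) (.leaf 211)) (.leaf 719)))))))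

/-- Part of `succT`. -/
def succT_p01001 : Tr := .node (.node (.node (.node (.node (.node (.node (.node (.leaf 319) (.leaf 607)) (.node (.leaf 57) (.leaf 153))) (.node (.node (.leaf 757) (.leaf 504)) (.leaf 382))) (.node (.node (.node (.leaf 717) (.leaf 168)) (.node (.leaf 389) (.leaf 811))) (.node (.node (.leaf 281) (.leaf 572)) (.leaf 300)))) (.node (.node (.node (.node (.leaf 64) (.leaf 351)) (.node (.leaf 645) (.leaf 154))) (.node (.node (.leaf 762) (.leaf 565)) (.leaf 574))) (.node (.node (.node (.leaf 461) (.leaf 760)) (.node (.leaf 847) (.leaf 555))) (.node (.node (.leaf 310) (.leaf 770)) (.leaf 44))))) (.node (.node (.node (.node (.node (.leaf 187) (.leaf 479)) (.node (.leaf 773) (.leaf 280))) (.node (.node (.leaf 616) (.leaf 376)) (.leaf 702))) (.node (.node (.node (.leaf 589) (.leaf 40)) (.node (.leaf 615) (.leaf 683))) (.node (.node (.leaf 171) (.leaf 333)) (.leaf 175)))) (.node (.node (.node (.node (.leaf 845) (.leaf 294)) (.node (.leaf 517) (.leaf 28))) (.node (.node (.leaf 622) (.leaf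 165)) (.leaf 766))) (.node (.node (.node (.leaf 665) (.leaf 632)) (.node (.leaf 687) (.leaf 427))) (.node (.node (.leaf 177) (.leaf 469)) (.leaf 735)))))) (.node (.node (.node (.node (.node (.node (.leaf 87) (.leaf 543)) (.node (.leaf 837) (.leaf 229))) (.node (.node (.leaf 870) (.leaf 440)) (.leaf 638))) (.node (.node (.node (.leaf 525) (.leaf 102)) (.node (.leaf 879) (.leaf 619))) (.node (.node (.leaf 205) (.leaf 755)) (.leaf 102)))) (.node (.node (.node (.node (.leaf 781) (.leaf 869)) (.node (.leaf 581) (.leaf 260))) (.node (.node (.leaf 706) (.leaf 758)) (.leaf 830))) (.node (.node (.node (.leaf 889) (.leaf 696)) (.node (.leaf 852) (.leaf 363))) (.node (.node (.leaf 247) (.leaf 284)) (.leaf 799))))) (.node (.node (.node (.node (.node (.leaf 125) (.leaf 415)) (.node (.leaf 709) (.leaf 216))) (.node (.node (.leaf 814) (.leaf 875)) (.leaf 510))) (.node (.node (.node (.leaf 397) (.leaf 824)) (.node (.leaf 881) (.leaf 491))) (.node (.node (.leaf 234) (.leaf 136)) (.leaf 230)))) (.node (.node (.node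 (.node (.leaf 653) (.leaf 230)) (.node (.leaf 453) (.leaf 747))) (.node (.node (.leaf 287) (.leaf 722)) (.leaf 185))) (.node (.node (.node (.leaf 858) (.leaf 568)) (.node (.leaf 446) (.leaf 854))) (.node (.node (.leaf 118) (.leaf 752)) (.leaf 671))))))) (.node (.node (.node (.node (.node (.node (.node (.leaf 288) (.leaf 639)) (.node (.leaf 23) (.leaf 75))) (.node (.node (.leaf 789) (.leaf 472)) (.leaf 350))) (.node (.node (.node (.leaf 685) (.leaf 134)) (.node (.leaf 357) (.leaf 651))) (.node (.node (.leaf 271) (.leaf 394)) (.leaf 268)))) (.node (.node (.node (.node (.leaf 32) (.leaf 383)) (.node (.leaf 613) (.leaf 120))) (.node (.node (.leaf 809) (.leaf 259)) (.leaf 478))) (.node (.node (.node (.leaf 429) (.leaf 728)) (.node (.leaf 776) (.leaf 395))) (.node (.node (.leaf 281) (.leaf 738)) (.leaf 31))))) (.node (.node (.node (.node (.node (.leaf 183) (.leaf 511)) (.node (.leaf 741) (.leaf 85))) (.node (.node (.leaf 496) (.leaf 344)) (.leaf 606))) (.node (.node (.node (.leaf 557) (.leaf 6)) (.node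 (.leaf 495) (.leaf 523))) (.node (.node (.leaf 210) (.leaf 265)) (.leaf 135)))) (.node (.node (.node (.node (.leaf 813) (.leaf 261)) (.node (.leaf 485) (.leaf 779))) (.node (.node (.leaf 681) (.leaf 833)) (.leaf 734))) (.node (.node (.node (.leaf 514) (.leaf 600)) (.node (.leaf 583) (.leaf 886))) (.node (.node (.leaf 149) (.leaf 729)) (.leaf 767)))))) (.node (.node (.node (.node (.node (.node (.leaf 221) (.leaf 575)) (.node (.leaf 805) (.leaf 314))) (.node (.node (.leaf 371) (.leaf 408)) (.leaf 670))) (.node (.node (.node (.leaf 493) (.leaf 70)) (.node (.leaf 871) (.leaf 715))) (.node (.node (.leaf 242) (.leaf 785)) (.leaf 199)))) (.node (.node (.node (.node (.leaf 749) (.leaf 326)) (.node (.leaf 549) (.leaf 56))) (.node (.node (.leaf 666) (.leaf 523)) (.leaf 798))) (.node (.node (.node (.leaf 857) (.leaf 664)) (.node (.leaf 257) (.leaf 459))) (.node (.node (.leaf 214) (.leaf 269)) (.leaf 831))))) (.node (.node (.node (.node (.node (.leaf 263) (.leaf 447)) (.node (.leaf 677) (.leaf 186))) (.node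 (.node (.leaf 802) (.leaf 322)) (.leaf 542))) (.node (.node (.node (.leaf 365) (.leaf 792)) (.node (.leaf 800) (.leaf 587))) (.node (.node (.leaf 102) (.leaf 313)) (.leaf 95)))) (.node (.node (.node (.node (.leaf 621) (.leaf 198)) (.node (.leaf 421) (.leaf 843))) (.node (.node (.leaf 295) (.leaf 392)) (.leaf 331))) (.node (.node (.node (.leaf 886) (.leaf 536)) (.leaf 414)) (.node (.node (.leaf 87) (.leaf 546)) (.leaf 703)))))))

/-- Part of `succT`. -/
def succT_p01010 : Tr := .node (.node (.node (.node (.node (.node (.node (.node (.leaf 328) (.leaf 615)) (.node (.leaf 62) (.leaf 522))) (.node (.node (.leaf 763) (.leaf 512)) (.leaf 390))) (.node (.node (.node (.leaf 597) (.leaf 176)) (.node (.leaf 397) (.leaf 819))) (.node (.node (.leaf 293) (.leaf 610)) (.leaf 327)))) (.node (.node (.node (.node (.leaf 43) (.leaf 359)) (.node (.leaf 653) (.leaf 172))) (.node (.node (.leaf 794) (.leaf 642)) (.leaf 518))) (.node (.node (.node (.leaf 341) (.leaf 768)) (.node (.leaf 873) (.leaf 563))) (.node (.node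 (.leaf 319) (.leaf 159)) (.leaf 52))))) (.node (.node (.node (.node (.node (.leaf 197) (.leaf 487)) (.node (.leaf 781) (.leaf 290))) (.node (.node (.leaf 695) (.leaf 384)) (.leaf 646))) (.node (.node (.node (.leaf 469) (.leaf 48)) (.node (.leaf 711) (.leaf 691))) (.node (.node (.leaf 243) (.leaf 733)) (.leaf 180)))) (.node (.node (.node (.node (.leaf 725) (.leaf 302)) (.node (.leaf 525) (.leaf 8))) (.node (.node (.leaf 674) (.leaf 173)) (.leaf 774))) (.node (.node (.node (.leaf 685) (.leaf 640)) (.node (.leaf 663) (.leaf 435))) (.node (.node (.leaf 189) (.leaf 37)) (.leaf 743)))))) (.node (.node (.node (.node (.node (.node (.leaf 95) (.leaf 551)) (.node (.leaf 845) (.leaf 49))) (.node (.node (.leaf 771) (.leaf 448)) (.leaf 710))) (.node (.node (.node (.leaf 661) (.leaf 109)) (.node (.leaf 887) (.leaf 627))) (.node (.node (.leaf 272) (.leaf 278)) (.leaf 263)))) (.node (.node (.node (.node (.leaf 35) (.leaf 877)) (.node (.leaf 589) (.leaf 100))) (.node (.node (.leaf 785) (.leaf 234)) (.leaf 838)))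 (.node (.node (.node (.leaf 405) (.leaf 704)) (.node (.leaf 831) (.leaf 371))) (.node (.node (.leaf 255) (.leaf 507)) (.leaf 807))))) (.node (.node (.node (.node (.node (.leaf 133) (.leaf 423)) (.node (.leaf 717) (.leaf 228))) (.node (.node (.leaf 868) (.leaf 867)) (.leaf 582))) (.node (.node (.node (.leaf 533) (.leaf 832)) (.node (.leaf 260) (.leaf 499))) (.node (.node (.leaf 116) (.leaf 488)) (.leaf 127)))) (.node (.node (.node (.node (.leaf 789) (.leaf 237)) (.node (.leaf 461) (.leaf 755))) (.node (.node (.leaf 657) (.leaf 232)) (.leaf 187))) (.node (.node (.node (.leaf 452) (.leaf 576)) (.node (.leaf 454) (.leaf 862))) (.node (.node (.leaf 125) (.leaf 199)) (.leaf 679))))))) (.node (.node (.node (.node (.node (.node (.node (.leaf 267) (.leaf 647)) (.node (.leaf 29) (.leaf 490))) (.node (.node (.leaf 433) (.leaf 480)) (.leaf 358))) (.node (.node (.node (.leaf 693) (.leaf 144)) (.node (.leaf 365) (.leaf 787))) (.node (.node (.leaf 284) (.leaf 491)) (.leaf 276)))) (.node (.node (.node (.node (.leaf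 37) (.leaf 391)) (.node (.leaf 621) (.leaf 144))) (.node (.node (.leaf 770) (.leaf 721)) (.leaf 550))) (.node (.node (.node (.leaf 437) (.leaf 736)) (.node (.leaf 865) (.leaf 531))) (.node (.node (.leaf 286) (.leaf 73)) (.leaf 23))))) (.node (.node (.node (.node (.node (.leaf 163) (.leaf 519)) (.node (.leaf 749) (.leaf 92))) (.node (.node (.leaf 536) (.leaf 352)) (.leaf 678))) (.node (.node (.node (.leaf 565) (.leaf 14)) (.node (.leaf 535) (.leaf 659))) (.node (.node (.leaf 170) (.leaf 465)) (.leaf 187)))) (.node (.node (.node (.node (.leaf 821) (.leaf 272)) (.node (.leaf 493) (.leaf 3))) (.node (.node (.leaf 598) (.leaf 599)) (.leaf 742))) (.node (.node (.node (.leaf 581) (.leaf 608)) (.node (.leaf 528) (.leaf 403))) (.node (.node (.leaf 153) (.leaf 267)) (.leaf 775)))))) (.node (.node (.node (.node (.node (.node (.leaf 232) (.leaf 583)) (.node (.leaf 813) (.leaf 324))) (.node (.node (.leaf 403) (.leaf 416)) (.leaf 614))) (.node (.node (.node (.leaf 501) (.leaf 90)) (.node (.leaf 855) (.leaf 595)))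 (.node (.node (.leaf 141) (.leaf 272)) (.leaf 223)))) (.node (.node (.node (.node (.leaf 757) (.leaf 336)) (.node (.leaf 557) (.leaf 66))) (.node (.node (.leaf 698) (.leaf 496)) (.leaf 806))) (.node (.node (.node (.leaf 865) (.leaf 672)) (.node (.leaf 400) (.leaf 339))) (.node (.node (.leaf 221) (.leaf 537)) (.leaf 839))))) (.node (.node (.node (.node (.node (.leaf 104) (.leaf 455)) (.node (.leaf 685) (.leaf 208))) (.node (.node (.leaf 790) (.leaf 792)) (.leaf 486))) (.node (.node (.node (.leaf 373) (.leaf 800)) (.node (.leaf 743) (.leaf 467))) (.node (.node (.leaf 213) (.leaf 810)) (.leaf 84)))) (.node (.node (.node (.node (.leaf 629) (.leaf 208)) (.node (.leaf 429) (.leaf 723))) (.node (.node (.leaf 275) (.leaf 601)) (.leaf 298))) (.node (.node (.node (.leaf 376) (.leaf 544)) (.leaf 422)) (.node (.node (.leaf 93) (.leaf 19)) (.leaf 711)))))))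

/-- Part of `succT`. -/
def succT_p01011 : Tr := .node (.node (.node (.node (.node (.node (.node (.node (.leaf 312) (.leaf 599)) (.node (.leaf 46) (.leaf 111))) (.node (.node (.leaf 415) (.leaf 496)) (.leaf 822))) (.node (.node (.node (.leaf 709) (.leaf 179)) (.node (.leaf 381) (.leaf 803))) (.node (.node (.leaf 577) (.leaf 26)) (.leaf 271)))) (.node (.node (.node (.node (.leaf 56) (.leaf 343)) (.node (.leaf 637) (.leaf 146))) (.node (.node (.leaf 159) (.leaf 735)) (.leaf 502))) (.node (.node (.node (.leaf 453) (.leaf 752)) (.node (.leaf 407) (.leaf 547))) (.node (.node (.leaf 302) (.leaf 353)) (.leaf 35))))) (.node (.node (.node (.node (.node (.leaf 159) (.leaf 471)) (.node (.leaf 765) (.leaf 274))) (.node (.node (.leaf 599) (.leaf 368)) (.leaf 630))) (.node (.node (.node (.leaf 581) (.leaf 30)) (.node (.leaf 544) (.leaf 675))) (.node (.node (.leaf 799) (.leaf 145)) (.leaf 167)))) (.node (.node (.node (.node (.leaf 837) (.leaf 286)) (.node (.leaf 509) (.leaf 18))) (.node (.node (.leaf 309) (.leaf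 514)) (.leaf 438))) (.node (.node (.node (.leaf 609) (.leaf 624)) (.node (.leaf 849) (.leaf 419))) (.node (.node (.leaf 164) (.leaf 489)) (.leaf 727)))))) (.node (.node (.node (.node (.node (.node (.leaf 90) (.leaf 535)) (.node (.leaf 829) (.leaf 77))) (.node (.node (.leaf 346) (.leaf 432)) (.leaf 694))) (.node (.node (.node (.leaf 517) (.leaf 93)) (.node (.leaf 868) (.leaf 611))) (.node (.node (.leaf 836) (.leaf 747)) (.leaf 99)))) (.node (.node (.node (.node (.leaf 773) (.leaf 878)) (.node (.leaf 573) (.leaf 253))) (.node (.node (.leaf 332) (.leaf 685)) (.leaf 374))) (.node (.node (.node (.leaf 881) (.leaf 688)) (.node (.leaf 427) (.leaf 355))) (.node (.node (.leaf 237) (.leaf 10)) (.leaf 791))))) (.node (.node (.node (.node (.node (.leaf 119) (.leaf 407)) (.node (.leaf 701) (.leaf 211))) (.node (.node (.leaf 246) (.leaf 883)) (.leaf 566))) (.node (.node (.node (.leaf 389) (.leaf 816)) (.node (.leaf 435) (.leaf 483))) (.node (.node (.leaf 216) (.leaf 212)) (.leaf 227)))) (.node (.node (.node (.node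 (.leaf 645) (.leaf 221)) (.node (.leaf 445) (.leaf 739))) (.node (.node (.leaf 550) (.leaf 91)) (.leaf 153))) (.node (.node (.node (.leaf 812) (.leaf 560)) (.leaf 758)) (.node (.node (.leaf 109) (.leaf 363)) (.leaf 663))))))) (.node (.node (.node (.node (.node (.node (.node (.leaf 280) (.leaf 631)) (.node (.leaf 14) (.leaf 257))) (.node (.node (.leaf 729) (.leaf 464)) (.leaf 782))) (.node (.node (.node (.leaf 677) (.leaf 125)) (.node (.leaf 349) (.leaf 643))) (.node (.node (.leaf 490) (.leaf 577)) (.leaf 257)))) (.node (.node (.node (.node (.leaf 23) (.leaf 375)) (.node (.leaf 605) (.leaf 115))) (.node (.node (.leaf 109) (.leaf 579)) (.leaf 526))) (.node (.node (.node (.leaf 421) (.leaf 720)) (.node (.leaf 839) (.leaf 387))) (.node (.node (.leaf 270) (.leaf 193)) (.leaf 4))))) (.node (.node (.node (.node (.node (.leaf 147) (.leaf 503)) (.node (.leaf 733) (.leaf 76))) (.node (.node (.leaf 555) (.leaf 888)) (.leaf 654))) (.node (.node (.node (.leaf 549) (.leaf 848)) (.node (.leaf 823) (.leaf 515)))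 (.node (.node (.leaf 740) (.leaf 213)) (.leaf 129)))) (.node (.node (.node (.node (.leaf 805) (.leaf 254)) (.node (.leaf 477) (.leaf 771))) (.node (.node (.leaf 315) (.leaf 736)) (.leaf 398))) (.node (.node (.node (.leaf 477) (.leaf 592)) (.node (.leaf 487) (.leaf 878))) (.node (.node (.leaf 142) (.leaf 429)) (.leaf 759)))))) (.node (.node (.node (.node (.node (.node (.leaf 215) (.leaf 567)) (.node (.leaf 797) (.leaf 306))) (.node (.node (.leaf 857) (.leaf 400)) (.leaf 718))) (.node (.node (.node (.leaf 485) (.leaf 62)) (.node (.leaf 696) (.leaf 707))) (.node (.node (.leaf 804) (.leaf 83)) (.leaf 193)))) (.node (.node (.node (.node (.leaf 741) (.leaf 317)) (.node (.leaf 541) (.leaf 50))) (.node (.node (.leaf 308) (.leaf 781)) (.leaf 462))) (.node (.node (.node (.leaf 849) (.leaf 656)) (.node (.leaf 672) (.leaf 451))) (.node (.node (.leaf 206) (.leaf 493)) (.leaf 823))))) (.node (.node (.node (.node (.node (.leaf 255) (.leaf 439)) (.node (.leaf 669) (.leaf 178))) (.node (.node (.leaf 147) (.leaf 595))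 (.leaf 590))) (.node (.node (.node (.leaf 357) (.leaf 784)) (.node (.leaf 799) (.leaf 579))) (.node (.node (.leaf 333) (.leaf 649)) (.leaf 47)))) (.node (.node (.node (.node (.leaf 613) (.leaf 186)) (.node (.leaf 413) (.leaf 835))) (.node (.node (.leaf 530) (.leaf 652)) (.leaf 324))) (.node (.node (.node (.leaf 748) (.leaf 528)) (.leaf 846)) (.node (.node (.leaf 79) (.leaf 8)) (.leaf 695)))))))

/-- Part of `succT`. -/
def succT_p01100 : Tr := .node (.node (.node (.node (.node (.node (.node (.node (.leaf 303) (.leaf 611)) (.node (.leaf 66) (.leaf 526))) (.node (.node (.leaf 202) (.leaf 516)) (.leaf 405))) (.node (.node (.node (.leaf 601) (.leaf 159)) (.node (.leaf 401) (.leaf 823))) (.node (.node (.leaf 562) (.leaf 418)) (.leaf 312)))) (.node (.node (.node (.node (.leaf 243) (.leaf 355)) (.node (.leaf 657) (.leaf 176))) (.node (.node (.leaf 248) (.leaf 754)) (.leaf 466))) (.node (.node (.node (.leaf 345) (.leaf 772)) (.node (.leaf 192) (.leaf 567))) (.node (.node (.leaf 322) (.leaf 93)) (.leaf 55)))))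 (.node (.node (.node (.node (.node (.leaf 201) (.leaf 483)) (.node (.leaf 785) (.leaf 268))) (.node (.node (.leaf 712) (.leaf 388)) (.leaf 594))) (.node (.node (.node (.leaf 473) (.leaf 50)) (.node (.leaf 651) (.leaf 695))) (.node (.node (.leaf 792) (.leaf 501)) (.leaf 184)))) (.node (.node (.node (.node (.leaf 729) (.leaf 306)) (.node (.leaf 529) (.leaf 39))) (.node (.node (.leaf 330) (.leaf 863)) (.leaf 789))) (.node (.node (.node (.leaf 629) (.leaf 644)) (.node (.leaf 719) (.leaf 439))) (.node (.node (.leaf 194) (.leaf 268)) (.leaf 739)))))) (.node (.node (.node (.node (.node (.node (.leaf 295) (.leaf 547)) (.node (.leaf 1) (.leaf 162))) (.node (.node (.leaf 138) (.leaf 452)) (.leaf 658))) (.node (.node (.node (.leaf 665) (.leaf 113)) (.node (.leaf 337) (.leaf 631))) (.node (.node (.leaf 533) (.leaf 291)) (.leaf 245)))) (.node (.node (.node (.node (.leaf 12) (.leaf 881)) (.node (.leaf 593) (.leaf 102))) (.node (.node (.leaf 156) (.leaf 645)) (.leaf 725))) (.node (.node (.node (.leaf 409) (.leaf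 708)) (.node (.leaf 383) (.leaf 375))) (.node (.node (.leaf 259) (.leaf 573)) (.leaf 803))))) (.node (.node (.node (.node (.node (.leaf 137) (.leaf 419)) (.node (.leaf 721) (.leaf 230))) (.node (.node (.leaf 499) (.leaf 863)) (.leaf 530))) (.node (.node (.node (.leaf 537) (.leaf 836)) (.node (.leaf 459) (.leaf 503))) (.node (.node (.leaf 843) (.leaf 846)) (.leaf 123)))) (.node (.node (.node (.node (.leaf 793) (.leaf 241)) (.node (.leaf 465) (.leaf 759))) (.node (.node (.leaf 312) (.leaf 609)) (.leaf 109))) (.node (.node (.node (.leaf 462) (.leaf 580)) (.node (.leaf 341) (.leaf 866))) (.node (.node (.leaf 130) (.leaf 21)) (.leaf 675))))))) (.node (.node (.node (.node (.node (.node (.node (.leaf 297) (.leaf 643)) (.node (.leaf 34) (.leaf 494))) (.node (.node (.leaf 791) (.leaf 484)) (.leaf 362))) (.node (.node (.node (.leaf 697) (.leaf 150)) (.node (.leaf 369) (.leaf 791))) (.node (.node (.leaf 510) (.leaf 324)) (.leaf 279)))) (.node (.node (.node (.node (.leaf 71) (.leaf 387)) (.node (.leaf 625) (.leaf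 140))) (.node (.node (.leaf 225) (.leaf 467)) (.leaf 493))) (.node (.node (.node (.leaf 441) (.leaf 740)) (.node (.leaf 180) (.leaf 535))) (.node (.node (.leaf 290) (.leaf 156)) (.leaf 19))))) (.node (.node (.node (.node (.node (.leaf 175) (.leaf 515)) (.node (.leaf 753) (.leaf 96))) (.node (.node (.leaf 889) (.leaf 356)) (.leaf 621))) (.node (.node (.node (.leaf 569) (.leaf 17)) (.node (.leaf 591) (.leaf 663))) (.node (.node (.leaf 760) (.leaf 761)) (.leaf 191)))) (.node (.node (.node (.node (.leaf 825) (.leaf 274)) (.node (.leaf 497) (.leaf 36))) (.node (.node (.leaf 319) (.leaf 628)) (.leaf 746))) (.node (.node (.node (.leaf 566) (.leaf 612)) (.node (.leaf 543) (.leaf 407))) (.node (.node (.leaf 176) (.leaf 38)) (.leaf 771)))))) (.node (.node (.node (.node (.node (.node (.leaf 236) (.leaf 579)) (.node (.leaf 817) (.leaf 326))) (.node (.node (.leaf 104) (.leaf 420)) (.leaf 685))) (.node (.node (.node (.leaf 505) (.leaf 82)) (.node (.leaf 859) (.leaf 599))) (.node (.node (.leaf 824) (.leaf 282))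 (.leaf 219)))) (.node (.node (.node (.node (.leaf 761) (.leaf 849)) (.node (.leaf 561) (.leaf 44))) (.node (.node (.leaf 328) (.leaf 442)) (.leaf 810))) (.node (.node (.node (.leaf 870) (.leaf 676)) (.node (.leaf 869) (.leaf 343))) (.node (.node (.leaf 225) (.leaf 479)) (.leaf 835))))) (.node (.node (.node (.node (.node (.leaf 108) (.leaf 451)) (.node (.leaf 689) (.leaf 204))) (.node (.node (.leaf 188) (.leaf 753)) (.leaf 557))) (.node (.node (.node (.leaf 377) (.leaf 804)) (.node (.leaf 423) (.leaf 471))) (.node (.node (.leaf 251) (.leaf 516)) (.leaf 88)))) (.node (.node (.node (.node (.leaf 633) (.leaf 209)) (.node (.leaf 433) (.leaf 727))) (.node (.node (.leaf 582) (.leaf 79)) (.leaf 237))) (.node (.node (.node (.leaf 107) (.leaf 548)) (.leaf 426)) (.node (.node (.leaf 97) (.leaf 204)) (.leaf 707)))))))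

/-- Part of `succT`. -/
def succT_p01101 : Tr := .node (.node (.node (.node (.node (.node (.node (.node (.leaf 315) (.leaf 595)) (.node (.leaf 50) (.leaf 7))) (.node (.node (.leaf 423) (.leaf 500)) (.leaf 762))) (.node (.node (.node (.leaf 713) (.leaf 164)) (.node (.leaf 385) (.leaf 807))) (.node (.node (.leaf 292) (.leaf 527)) (.leaf 296)))) (.node (.node (.node (.node (.leaf 60) (.leaf 339)) (.node (.leaf 641) (.leaf 150))) (.node (.node (.leaf 837) (.leaf 286)) (.leaf 509))) (.node (.node (.node (.leaf 457) (.leaf 756)) (.node (.leaf 399) (.leaf 551))) (.node (.node (.leaf 305) (.leaf 621)) (.leaf 40))))) (.node (.node (.node (.node (.node (.leaf 191) (.leaf 467)) (.node (.leaf 769) (.leaf 284))) (.node (.node (.leaf 707) (.leaf 372)) (.leaf 637))) (.node (.node (.node (.leaf 585) (.leaf 34)) (.node (.leaf 850) (.leaf 679))) (.node (.node (.leaf 224) (.leaf 82)) (.leaf 163)))) (.node (.node (.node (.node (.leaf 841) (.leaf 292)) (.node (.leaf 513) (.leaf 22))) (.node (.node (.leaf 709) (.leaf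 369)) (.leaf 378))) (.node (.node (.node (.leaf 614) (.leaf 628)) (.node (.leaf 608) (.leaf 423))) (.node (.node (.leaf 181) (.leaf 521)) (.leaf 723)))))) (.node (.node (.node (.node (.node (.node (.leaf 83) (.leaf 531)) (.node (.leaf 833) (.leaf 101))) (.node (.node (.leaf 219) (.leaf 436)) (.leaf 701))) (.node (.node (.node (.leaf 521) (.leaf 97)) (.node (.leaf 875) (.leaf 615))) (.node (.node (.leaf 261) (.leaf 549)) (.leaf 106)))) (.node (.node (.node (.node (.leaf 777) (.leaf 865)) (.node (.leaf 577) (.leaf 249))) (.node (.node (.leaf 694) (.leaf 391)) (.leaf 442))) (.node (.node (.node (.leaf 885) (.leaf 692)) (.node (.leaf 432) (.leaf 359))) (.node (.node (.leaf 241) (.leaf 196)) (.leaf 787))))) (.node (.node (.node (.node (.node (.leaf 123) (.leaf 403)) (.node (.leaf 705) (.leaf 220))) (.node (.node (.leaf 846) (.leaf 860)) (.leaf 573))) (.node (.node (.node (.leaf 393) (.leaf 820)) (.node (.leaf 440) (.leaf 487))) (.node (.node (.leaf 859) (.leaf 218)) (.leaf 234)))) (.node (.node (.node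 (.node (.leaf 649) (.leaf 225)) (.node (.leaf 449) (.leaf 743))) (.node (.node (.leaf 294) (.leaf 637)) (.leaf 245))) (.node (.node (.node (.leaf 818) (.leaf 564)) (.node (.leaf 826) (.leaf 850))) (.node (.node (.leaf 113) (.leaf 457)) (.leaf 659))))))) (.node (.node (.node (.node (.node (.node (.node (.leaf 284) (.leaf 627)) (.node (.leaf 19) (.leaf 233))) (.node (.node (.leaf 339) (.leaf 468)) (.leaf 733))) (.node (.node (.node (.leaf 681) (.leaf 132)) (.node (.leaf 353) (.leaf 647))) (.node (.node (.leaf 282) (.leaf 783)) (.leaf 243)))) (.node (.node (.node (.node (.leaf 28) (.leaf 371)) (.node (.leaf 609) (.leaf 124))) (.node (.node (.leaf 726) (.leaf 700)) (.leaf 538))) (.node (.node (.node (.leaf 425) (.leaf 724)) (.node (.leaf 455) (.leaf 391))) (.node (.node (.leaf 274) (.leaf 30)) (.leaf 7))))) (.node (.node (.node (.node (.node (.leaf 179) (.leaf 499)) (.node (.leaf 737) (.leaf 80))) (.node (.node (.leaf 575) (.leaf 340)) (.leaf 666))) (.node (.node (.node (.leaf 553) (.leaf 4)) (.node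 (.leaf 480) (.leaf 519))) (.node (.node (.leaf 176) (.leaf 224)) (.leaf 139)))) (.node (.node (.node (.node (.leaf 809) (.leaf 246)) (.node (.leaf 481) (.leaf 775))) (.node (.node (.leaf 642) (.leaf 504)) (.leaf 349))) (.node (.node (.node (.leaf 549) (.leaf 596)) (.node (.leaf 560) (.leaf 857))) (.node (.node (.leaf 145) (.leaf 399)) (.leaf 755)))))) (.node (.node (.node (.node (.node (.node (.leaf 219) (.leaf 563)) (.node (.leaf 801) (.leaf 312))) (.node (.node (.leaf 875) (.leaf 404)) (.leaf 602))) (.node (.node (.node (.leaf 489) (.leaf 68)) (.node (.leaf 679) (.leaf 711))) (.node (.node (.leaf 143) (.leaf 185)) (.leaf 203)))) (.node (.node (.node (.node (.leaf 745) (.leaf 322)) (.node (.leaf 545) (.leaf 60))) (.node (.node (.leaf 686) (.leaf 847)) (.leaf 413))) (.node (.node (.node (.leaf 853) (.leaf 660)) (.node (.leaf 751) (.leaf 455))) (.node (.node (.leaf 209) (.leaf 525)) (.leaf 819))))) (.node (.node (.node (.node (.node (.leaf 246) (.leaf 435)) (.node (.leaf 673) (.leaf 182))) (.node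 (.node (.leaf 834) (.leaf 693)) (.leaf 474))) (.node (.node (.node (.leaf 361) (.leaf 788)) (.node (.leaf 415) (.leaf 583))) (.node (.node (.leaf 0) (.leaf 389)) (.leaf 72)))) (.node (.node (.node (.node (.leaf 617) (.leaf 196)) (.node (.leaf 417) (.leaf 839))) (.node (.node (.leaf 288) (.leaf 62)) (.leaf 307))) (.node (.node (.node (.leaf 218) (.leaf 532)) (.leaf 797)) (.node (.node (.leaf 83) (.leaf 239)) (.leaf 691)))))))

/-- Part of `succT`. -/
def succT_p01110 : Tr := .node (.node (.node (.node (.node (.node (.node (.node (.leaf 324) (.leaf 603)) (.node (.leaf 53) (.leaf 95))) (.node (.node (.leaf 383) (.leaf 508)) (.leaf 773))) (.node (.node (.node (.leaf 593) (.leaf 172)) (.node (.leaf 393) (.leaf 815))) (.node (.node (.leaf 518) (.leaf 505)) (.leaf 303)))) (.node (.node (.node (.node (.leaf 67) (.leaf 347)) (.node (.leaf 649) (.leaf 158))) (.node (.node (.leaf 239) (.leaf 787)) (.leaf 578))) (.node (.node (.node (.leaf 337) (.leaf 764)) (.node (.leaf 875) (.leaf 559))) (.node (.node (.leaf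 315) (.leaf 774)) (.leaf 67))))) (.node (.node (.node (.node (.node (.leaf 195) (.leaf 475)) (.node (.leaf 777) (.leaf 286))) (.node (.node (.leaf 623) (.leaf 380)) (.leaf 706))) (.node (.node (.node (.leaf 465) (.leaf 42)) (.node (.leaf 688) (.leaf 687))) (.node (.node (.leaf 784) (.leaf 266)) (.leaf 171)))) (.node (.node (.node (.node (.leaf 721) (.leaf 300)) (.node (.leaf 521) (.leaf 30))) (.node (.node (.leaf 320) (.leaf 865)) (.leaf 389))) (.node (.node (.node (.leaf 717) (.leaf 636)) (.node (.leaf 704) (.leaf 431))) (.node (.node (.leaf 185) (.leaf 765)) (.leaf 731)))))) (.node (.node (.node (.node (.node (.node (.leaf 78) (.leaf 539)) (.node (.leaf 841) (.leaf 169))) (.node (.node (.leaf 768) (.leaf 444)) (.leaf 642))) (.node (.node (.node (.leaf 657) (.leaf 106)) (.node (.leaf 883) (.leaf 623))) (.node (.node (.leaf 848) (.leaf 821)) (.leaf 111)))) (.node (.node (.node (.node (.leaf 1) (.leaf 866)) (.node (.leaf 585) (.leaf 264))) (.node (.node (.leaf 327) (.leaf 230)) (.leaf 453))) (.node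 (.node (.node (.leaf 401) (.leaf 700)) (.node (.leaf 827) (.leaf 367))) (.node (.node (.leaf 251) (.leaf 290)) (.leaf 795))))) (.node (.node (.node (.node (.node (.leaf 131) (.leaf 411)) (.node (.leaf 713) (.leaf 223))) (.node (.node (.leaf 187) (.leaf 868)) (.leaf 514))) (.node (.node (.node (.leaf 529) (.leaf 828)) (.node (.leaf 431) (.leaf 495))) (.node (.node (.leaf 253) (.leaf 319)) (.leaf 239)))) (.node (.node (.node (.node (.leaf 785) (.leaf 234)) (.node (.leaf 457) (.leaf 751))) (.node (.node (.leaf 574) (.leaf 102)) (.leaf 247))) (.node (.node (.node (.leaf 888) (.leaf 572)) (.node (.leaf 837) (.leaf 881))) (.node (.node (.leaf 122) (.leaf 582)) (.leaf 667))))))) (.node (.node (.node (.node (.node (.node (.node (.leaf 291) (.leaf 635)) (.node (.leaf 26) (.leaf 158))) (.node (.node (.leaf 813) (.leaf 476)) (.leaf 738))) (.node (.node (.node (.leaf 689) (.leaf 138)) (.node (.leaf 361) (.leaf 655))) (.node (.node (.leaf 557) (.leaf 478)) (.leaf 291)))) (.node (.node (.node (.node (.leaf 7)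 (.leaf 379)) (.node (.leaf 617) (.leaf 127))) (.node (.node (.leaf 160) (.leaf 703)) (.leaf 485))) (.node (.node (.node (.leaf 433) (.leaf 732)) (.node (.leaf 189) (.leaf 399))) (.node (.node (.leaf 277) (.leaf 742)) (.leaf 16))))) (.node (.node (.node (.node (.node (.leaf 167) (.leaf 507)) (.node (.leaf 745) (.leaf 81))) (.node (.node (.leaf 519) (.leaf 348)) (.leaf 613))) (.node (.node (.node (.leaf 561) (.leaf 10)) (.node (.leaf 576) (.leaf 527))) (.node (.node (.leaf 819) (.leaf 334)) (.leaf 141)))) (.node (.node (.node (.node (.leaf 817) (.leaf 266)) (.node (.leaf 489) (.leaf 783))) (.node (.node (.leaf 322) (.leaf 772)) (.leaf 354))) (.node (.node (.node (.leaf 485) (.leaf 604)) (.node (.leaf 587) (.leaf 890))) (.node (.node (.leaf 157) (.leaf 497)) (.leaf 763)))))) (.node (.node (.node (.node (.node (.node (.leaf 228) (.leaf 571)) (.node (.leaf 809) (.leaf 318))) (.node (.node (.leaf 783) (.leaf 412)) (.leaf 677))) (.node (.node (.node (.leaf 497) (.leaf 73)) (.node (.leaf 851) (.leaf 719)))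 (.node (.node (.leaf 816) (.leaf 727)) (.leaf 205)))) (.node (.node (.node (.node (.leaf 753) (.leaf 330)) (.node (.leaf 553) (.leaf 62))) (.node (.node (.leaf 331) (.leaf 379)) (.leaf 418))) (.node (.node (.node (.leaf 878) (.leaf 668)) (.node (.leaf 395) (.leaf 463))) (.node (.node (.leaf 218) (.leaf 280)) (.leaf 827))))) (.node (.node (.node (.node (.node (.leaf 100) (.leaf 443)) (.node (.leaf 681) (.leaf 190))) (.node (.node (.leaf 247) (.leaf 775)) (.leaf 549))) (.node (.node (.node (.leaf 369) (.leaf 796)) (.node (.leaf 419) (.leaf 591))) (.node (.node (.leaf 333) (.leaf 139)) (.leaf 77)))) (.node (.node (.node (.node (.leaf 625) (.leaf 202)) (.node (.leaf 425) (.leaf 847))) (.node (.node (.leaf 586) (.leaf 676)) (.leaf 336))) (.node (.node (.node (.leaf 398) (.leaf 540)) (.leaf 802)) (.node (.node (.leaf 91) (.leaf 780)) (.leaf 699)))))))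

/-- Part of `succT`. -/
def succT_p01111 : Tr := .node (.node (.node (.node (.node (.node (.node (.node (.leaf 308) (.leaf 651)) (.node (.leaf 41) (.leaf 357))) (.node (.node (.leaf 342) (.leaf 492)) (.leaf 370))) (.node (.node (.node (.leaf 705) (.leaf 183)) (.node (.leaf 377) (.leaf 799))) (.node (.node (.leaf 291) (.leaf 383)) (.leaf 288)))) (.node (.node (.node (.node (.leaf 52) (.leaf 395)) (.node (.leaf 633) (.leaf 132))) (.node (.node (.leaf 829) (.leaf 763)) (.leaf 501))) (.node (.node (.node (.leaf 449) (.leaf 748)) (.node (.leaf 727) (.leaf 543))) (.node (.node (.leaf 297) (.leaf 304)) (.leaf 11))))) (.node (.node (.node (.node (.node (.leaf 155) (.leaf 523)) (.node (.leaf 761) (.leaf 270))) (.node (.node (.leaf 675) (.leaf 364)) (.leaf 629))) (.node (.node (.node (.leaf 577) (.leaf 26)) (.node (.leaf 567) (.leaf 671))) (.node (.node (.leaf 126) (.leaf 769)) (.leaf 160)))) (.node (.node (.node (.node (.leaf 833) (.leaf 282)) (.node (.leaf 505) (.leaf 16))) (.node (.node (.leaf 701) (.leaf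 811)) (.leaf 754))) (.node (.node (.node (.leaf 597) (.leaf 620)) (.node (.leaf 551) (.leaf 415))) (.node (.node (.leaf 168) (.leaf 84)) (.leaf 779)))))) (.node (.node (.node (.node (.node (.node (.leaf 75) (.leaf 587)) (.node (.leaf 825) (.leaf 335))) (.node (.node (.leaf 356) (.leaf 428)) (.leaf 693))) (.node (.node (.node (.leaf 513) (.leaf 78)) (.node (.leaf 867) (.leaf 607))) (.node (.node (.leaf 264) (.leaf 131)) (.leaf 211)))) (.node (.node (.node (.node (.leaf 769) (.leaf 857)) (.node (.leaf 569) (.leaf 248))) (.node (.node (.leaf 718) (.leaf 651)) (.leaf 818))) (.node (.node (.node (.leaf 862) (.leaf 684)) (.node (.leaf 885) (.leaf 351))) (.node (.node (.leaf 234) (.leaf 813)) (.leaf 843))))) (.node (.node (.node (.node (.node (.leaf 113) (.leaf 459)) (.node (.leaf 697) (.leaf 196))) (.node (.node (.leaf 822) (.leaf 852)) (.leaf 565))) (.node (.node (.node (.leaf 385) (.leaf 812)) (.node (.leaf 853) (.leaf 479))) (.node (.node (.leaf 200) (.leaf 705)) (.leaf 75)))) (.node (.node (.node (.node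 (.leaf 641) (.leaf 217)) (.node (.leaf 441) (.leaf 735))) (.node (.node (.leaf 296) (.leaf 370)) (.leaf 79))) (.node (.node (.node (.leaf 455) (.leaf 556)) (.leaf 434)) (.node (.node (.leaf 106) (.leaf 219)) (.leaf 715))))))) (.node (.node (.node (.node (.node (.node (.node (.leaf 276) (.leaf 555)) (.node (.leaf 9) (.leaf 15))) (.node (.node (.leaf 820) (.leaf 460)) (.leaf 461))) (.node (.node (.node (.leaf 673) (.leaf 121)) (.node (.leaf 345) (.leaf 639))) (.node (.node (.leaf 283) (.leaf 326)) (.leaf 256)))) (.node (.node (.node (.node (.leaf 19) (.leaf 889)) (.node (.leaf 601) (.leaf 112))) (.node (.node (.leaf 750) (.leaf 92)) (.leaf 522))) (.node (.node (.node (.leaf 417) (.leaf 716)) (.node (.leaf 835) (.leaf 383))) (.node (.node (.leaf 265) (.leaf 519)) (.leaf 811))))) (.node (.node (.node (.node (.node (.leaf 151) (.leaf 427)) (.node (.leaf 729) (.leaf 240))) (.node (.node (.leaf 551) (.leaf 884)) (.leaf 650))) (.node (.node (.node (.leaf 545) (.leaf 844)) (.node (.leaf 888) (.leaf 511)))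 (.node (.node (.leaf 173) (.leaf 647)) (.leaf 115)))) (.node (.node (.node (.node (.leaf 801) (.leaf 250)) (.node (.leaf 473) (.leaf 767))) (.node (.node (.leaf 634) (.leaf 826)) (.leaf 845))) (.node (.node (.node (.leaf 529) (.leaf 588)) (.node (.leaf 880) (.leaf 874))) (.node (.node (.leaf 138) (.leaf 223)) (.leaf 683)))))) (.node (.node (.node (.node (.node (.node (.leaf 209) (.leaf 491)) (.node (.leaf 793) (.leaf 332))) (.node (.node (.leaf 769) (.leaf 396)) (.leaf 714))) (.node (.node (.node (.leaf 481) (.leaf 58)) (.node (.leaf 671) (.leaf 703))) (.node (.node (.leaf 207) (.leaf 773)) (.leaf 151)))) (.node (.node (.node (.node (.leaf 737) (.leaf 313)) (.node (.leaf 537) (.leaf 46))) (.node (.node (.leaf 662) (.leaf 580)) (.leaf 781))) (.node (.node (.node (.leaf 856) (.leaf 652)) (.node (.leaf 631) (.leaf 447))) (.node (.node (.leaf 202) (.leaf 186)) (.leaf 747))))) (.node (.node (.node (.node (.node (.leaf 251) (.leaf 363)) (.node (.leaf 665) (.leaf 168))) (.node (.node (.leaf 826) (.leaf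 310)) (.leaf 586))) (.node (.node (.node (.leaf 353) (.leaf 780)) (.node (.leaf 731) (.leaf 575))) (.node (.node (.leaf 330) (.leaf 237)) (.leaf 64)))) (.node (.node (.node (.node (.leaf 609) (.leaf 190)) (.node (.leaf 409) (.leaf 831))) (.node (.node (.leaf 276) (.leaf 624)) (.leaf 315))) (.node (.node (.node (.leaf 844) (.leaf 524)) (.leaf 397)) (.node (.node (.leaf 73) (.leaf 653)) (.leaf 619)))))))

/-- Part of `succT`. -/
def succT_p10000 : Tr := .node (.node (.node (.node (.node (.node (.node (.node (.leaf 334) (.leaf 624)) (.node (.leaf 70) (.leaf 358))) (.node (.node (.leaf 865) (.leaf 517)) (.leaf 249))) (.node (.node (.node (.leaf 606) (.leaf 154)) (.node (.leaf 406) (.leaf 830))) (.node (.node (.leaf 18) (.leaf 867)) (.leaf 320)))) (.node (.node (.node (.node (.leaf 257) (.leaf 368)) (.node (.leaf 662) (.leaf 165))) (.node (.node (.leaf 409) (.leaf 801)) (.leaf 18))) (.node (.node (.node (.leaf 350) (.leaf 773)) (.node (.leaf 347) (.leaf 574))) (.node (.node (.leaf 326) (.leaf 297)) (.leaf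 60))))) (.node (.node (.node (.node (.node (.leaf 208) (.leaf 496)) (.node (.leaf 790) (.leaf 329))) (.node (.node (.leaf 337) (.leaf 389)) (.leaf 313))) (.node (.node (.node (.leaf 478) (.leaf 55)) (.node (.leaf 604) (.leaf 702))) (.node (.node (.leaf 100) (.leaf 625)) (.leaf 148)))) (.node (.node (.node (.node (.leaf 734) (.leaf 311)) (.node (.leaf 534) (.leaf 47))) (.node (.node (.leaf 659) (.leaf 552)) (.leaf 250))) (.node (.node (.node (.leaf 714) (.leaf 645)) (.node (.leaf 628) (.leaf 446))) (.node (.node (.leaf 197) (.leaf 157)) (.leaf 752)))))) (.node (.node (.node (.node (.node (.node (.leaf 272) (.leaf 560)) (.node (.leaf 5) (.leaf 164))) (.node (.node (.leaf 877) (.leaf 453)) (.leaf 81))) (.node (.node (.node (.leaf 670) (.leaf 120)) (.node (.leaf 342) (.leaf 638))) (.node (.node (.leaf 9) (.leaf 135)) (.leaf 251)))) (.node (.node (.node (.node (.leaf 15) (.leaf 886)) (.node (.leaf 598) (.leaf 109))) (.node (.node (.leaf 345) (.leaf 812)) (.leaf 17))) (.node (.node (.node (.leaf 414) (.leaf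 709)) (.node (.leaf 451) (.leaf 382))) (.node (.node (.leaf 262) (.leaf 607)) (.leaf 816))))) (.node (.node (.node (.node (.node (.leaf 144) (.leaf 432)) (.node (.leaf 726) (.leaf 237))) (.node (.node (.leaf 540) (.leaf 881)) (.leaf 314))) (.node (.node (.node (.leaf 542) (.leaf 837)) (.node (.leaf 870) (.leaf 510))) (.node (.node (.leaf 150) (.leaf 644)) (.leaf 120)))) (.node (.node (.node (.node (.leaf 798) (.leaf 259)) (.node (.leaf 470) (.leaf 766))) (.node (.node (.leaf 619) (.leaf 732)) (.leaf 82))) (.node (.node (.node (.leaf 489) (.leaf 581)) (.node (.leaf 336) (.leaf 871))) (.node (.node (.leaf 133) (.leaf 56)) (.leaf 688))))))) (.node (.node (.node (.node (.node (.node (.node (.leaf 332) (.leaf 656)) (.node (.leaf 38) (.leaf 618))) (.node (.node (.leaf 780) (.leaf 485)) (.leaf 229))) (.node (.node (.node (.leaf 702) (.leaf 147)) (.node (.leaf 374) (.leaf 798))) (.node (.node (.leaf 5) (.leaf 492)) (.leaf 284)))) (.node (.node (.node (.node (.leaf 48) (.leaf 400)) (.node (.leaf 630) (.leaf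 129))) (.node (.node (.leaf 377) (.leaf 889)) (.leaf 29))) (.node (.node (.node (.leaf 446) (.leaf 741)) (.node (.leaf 724) (.leaf 542))) (.node (.node (.leaf 294) (.leaf 41)) (.leaf 27))))) (.node (.node (.node (.node (.node (.leaf 172) (.leaf 528)) (.node (.leaf 758) (.leaf 271))) (.node (.node (.leaf 603) (.leaf 357)) (.leaf 325))) (.node (.node (.node (.leaf 574) (.leaf 24)) (.node (.leaf 564) (.leaf 670))) (.node (.node (.leaf 89) (.leaf 593)) (.leaf 155)))) (.node (.node (.node (.node (.leaf 830) (.leaf 279)) (.node (.leaf 502) (.leaf 13))) (.node (.node (.leaf 607) (.leaf 481)) (.leaf 231))) (.node (.node (.node (.leaf 300) (.leaf 613)) (.node (.leaf 572) (.leaf 414))) (.node (.node (.leaf 171) (.leaf 76)) (.leaf 784)))))) (.node (.node (.node (.node (.node (.node (.leaf 239) (.leaf 592)) (.node (.leaf 822) (.leaf 334))) (.node (.node (.leaf 873) (.leaf 421)) (.leaf 326))) (.node (.node (.node (.leaf 510) (.leaf 87)) (.node (.leaf 864) (.leaf 606))) (.node (.node (.leaf 177) (.leaf 316)) (.leaf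 216)))) (.node (.node (.node (.node (.leaf 766) (.leaf 854)) (.node (.leaf 566) (.leaf 245))) (.node (.node (.leaf 636) (.leaf 619)) (.leaf 232))) (.node (.node (.node (.leaf 874) (.leaf 677)) (.node (.leaf 240) (.leaf 350))) (.node (.node (.leaf 229) (.leaf 401)) (.leaf 848))))) (.node (.node (.node (.node (.node (.leaf 111) (.leaf 464)) (.node (.leaf 694) (.leaf 193))) (.node (.node (.leaf 358) (.leaf 849)) (.leaf 30))) (.node (.node (.node (.leaf 382) (.leaf 805)) (.node (.leaf 226) (.leaf 478))) (.node (.node (.leaf 215) (.leaf 674)) (.leaf 90)))) (.node (.node (.node (.node (.leaf 638) (.leaf 216)) (.node (.leaf 438) (.leaf 734))) (.node (.node (.leaf 27) (.leaf 485)) (.leaf 333))) (.node (.node (.node (.leaf 887) (.leaf 549)) (.leaf 230)) (.node (.node (.leaf 101) (.leaf 46)) (.leaf 720)))))))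

/-- Part of `succT`. -/
def succT_p10001 : Tr := .node (.node (.node (.node (.node (.node (.node (.node (.leaf 320) (.leaf 608)) (.node (.leaf 58) (.leaf 87))) (.node (.node (.leaf 838) (.leaf 501)) (.leaf 132))) (.node (.node (.node (.leaf 718) (.leaf 165)) (.node (.leaf 390) (.leaf 814))) (.node (.node (.leaf 515) (.leaf 544)) (.leaf 299)))) (.node (.node (.node (.node (.leaf 63) (.leaf 352)) (.node (.leaf 646) (.leaf 159))) (.node (.node (.leaf 194) (.leaf 503)) (.leaf 265))) (.node (.node (.node (.leaf 462) (.leaf 757)) (.node (.leaf 866) (.leaf 558))) (.node (.node (.leaf 309) (.leaf 598)) (.leaf 43))))) (.node (.node (.node (.node (.node (.leaf 188) (.leaf 480)) (.node (.leaf 774) (.leaf 287))) (.node (.node (.leaf 608) (.leaf 373)) (.leaf 41))) (.node (.node (.node (.leaf 590) (.leaf 37)) (.node (.leaf 619) (.leaf 686))) (.node (.node (.leaf 367) (.leaf 302)) (.leaf 176)))) (.node (.node (.node (.node (.leaf 846) (.leaf 295)) (.node (.leaf 518) (.leaf 31))) (.node (.node (.leaf 61) (.leaf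 175)) (.leaf 129))) (.node (.node (.node (.leaf 594) (.leaf 629)) (.node (.leaf 635) (.leaf 430))) (.node (.node (.leaf 178) (.leaf 498)) (.leaf 736)))))) (.node (.node (.node (.node (.node (.node (.leaf 88) (.leaf 544)) (.node (.leaf 838) (.leaf 321))) (.node (.node (.leaf 853) (.leaf 437)) (.leaf 69))) (.node (.node (.node (.leaf 526) (.leaf 103)) (.node (.leaf 880) (.leaf 622))) (.node (.node (.leaf 443) (.leaf 790)) (.leaf 101)))) (.node (.node (.node (.node (.leaf 782) (.leaf 870)) (.node (.leaf 582) (.leaf 261))) (.node (.node (.leaf 53) (.leaf 824)) (.leaf 131))) (.node (.node (.node (.leaf 890) (.leaf 693)) (.node (.leaf 763) (.leaf 366))) (.node (.node (.leaf 248) (.leaf 119)) (.leaf 800))))) (.node (.node (.node (.node (.node (.leaf 126) (.leaf 416)) (.node (.leaf 710) (.leaf 222))) (.node (.node (.leaf 163) (.leaf 865)) (.leaf 293))) (.node (.node (.node (.leaf 398) (.leaf 821)) (.node (.leaf 428) (.leaf 494))) (.node (.node (.leaf 197) (.leaf 141)) (.leaf 229)))) (.node (.node (.node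 (.node (.leaf 654) (.leaf 231)) (.node (.leaf 454) (.leaf 750))) (.node (.node (.leaf 559) (.leaf 788)) (.leaf 156))) (.node (.node (.node (.leaf 86) (.leaf 565)) (.node (.leaf 130) (.leaf 855))) (.node (.node (.leaf 117) (.leaf 698)) (.leaf 672))))))) (.node (.node (.node (.node (.node (.node (.node (.leaf 287) (.leaf 640)) (.node (.leaf 24) (.leaf 148))) (.node (.node (.leaf 754) (.leaf 469)) (.leaf 209))) (.node (.node (.node (.leaf 686) (.leaf 135)) (.node (.leaf 358) (.leaf 654))) (.node (.node (.leaf 475) (.leaf 366)) (.leaf 267)))) (.node (.node (.node (.node (.leaf 31) (.leaf 384)) (.node (.leaf 614) (.leaf 126))) (.node (.node (.leaf 74) (.leaf 260)) (.leaf 285))) (.node (.node (.node (.leaf 430) (.leaf 725)) (.node (.leaf 149) (.leaf 398))) (.node (.node (.leaf 282) (.leaf 594)) (.leaf 32))))) (.node (.node (.node (.node (.node (.leaf 184) (.leaf 512)) (.node (.leaf 742) (.leaf 84))) (.node (.node (.leaf 508) (.leaf 341)) (.leaf 61))) (.node (.node (.node (.leaf 558) (.leaf 7)) (.node (.leaf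 507) (.leaf 526))) (.node (.node (.leaf 355) (.leaf 97)) (.leaf 136)))) (.node (.node (.node (.node (.leaf 814) (.leaf 264)) (.node (.leaf 486) (.leaf 782))) (.node (.node (.leaf 43) (.leaf 771)) (.leaf 210))) (.node (.node (.node (.leaf 506) (.leaf 597)) (.node (.leaf 531) (.leaf 887))) (.node (.node (.leaf 150) (.leaf 730)) (.leaf 768)))))) (.node (.node (.node (.node (.node (.node (.leaf 222) (.leaf 576)) (.node (.leaf 806) (.leaf 319))) (.node (.node (.leaf 351) (.leaf 405)) (.leaf 62))) (.node (.node (.node (.leaf 494) (.leaf 71)) (.node (.leaf 883) (.leaf 718))) (.node (.node (.leaf 364) (.leaf 724)) (.leaf 200)))) (.node (.node (.node (.node (.leaf 750) (.leaf 327)) (.node (.leaf 550) (.leaf 63))) (.node (.node (.leaf 45) (.leaf 585)) (.leaf 211))) (.node (.node (.node (.leaf 858) (.leaf 661)) (.node (.leaf 723) (.leaf 462))) (.node (.node (.leaf 213) (.leaf 115)) (.leaf 832))))) (.node (.node (.node (.node (.node (.leaf 264) (.leaf 448)) (.node (.leaf 678) (.leaf 191))) (.node (.node (.leaf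 209) (.leaf 860)) (.leaf 286))) (.node (.node (.node (.leaf 366) (.leaf 789)) (.node (.leaf 355) (.leaf 590))) (.node (.node (.leaf 119) (.leaf 308)) (.leaf 96)))) (.node (.node (.node (.node (.leaf 622) (.leaf 199)) (.node (.leaf 422) (.leaf 846))) (.node (.node (.leaf 492) (.leaf 454)) (.leaf 332))) (.node (.node (.node (.leaf 869) (.leaf 533)) (.leaf 212)) (.node (.node (.leaf 88) (.leaf 340)) (.leaf 704)))))))

/-- Part of `succT`. -/
def succT_p10010 : Tr := .node (.node (.node (.node (.node (.node (.node (.node (.leaf 327) (.leaf 616)) (.node (.leaf 61) (.leaf 350))) (.node (.node (.leaf 349) (.leaf 509)) (.leaf 83))) (.node (.node (.node (.leaf 598) (.leaf 173)) (.node (.leaf 398) (.leaf 822))) (.node (.node (.leaf 468) (.leaf 646)) (.leaf 328)))) (.node (.node (.node (.node (.leaf 44) (.leaf 360)) (.node (.leaf 654) (.leaf 173))) (.node (.node (.leaf 115) (.leaf 614)) (.leaf 20))) (.node (.node (.node (.leaf 342) (.leaf 765)) (.node (.leaf 152) (.leaf 566))) (.node (.node (.leaf 320) (.leaf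 85)) (.leaf 51))))) (.node (.node (.node (.node (.node (.leaf 198) (.leaf 488)) (.node (.leaf 782) (.leaf 265))) (.node (.node (.leaf 640) (.leaf 381)) (.leaf 315))) (.node (.node (.node (.leaf 470) (.leaf 45)) (.node (.leaf 595) (.leaf 694))) (.node (.node (.leaf 340) (.leaf 762)) (.leaf 179)))) (.node (.node (.node (.node (.leaf 726) (.leaf 303)) (.node (.leaf 526) (.leaf 38))) (.node (.node (.leaf 46) (.leaf 174)) (.leaf 84))) (.node (.node (.node (.leaf 697) (.leaf 637)) (.node (.leaf 652) (.leaf 438))) (.node (.node (.leaf 190) (.leaf 5)) (.leaf 744)))))) (.node (.node (.node (.node (.node (.node (.leaf 96) (.leaf 552)) (.node (.leaf 846) (.leaf 171))) (.node (.node (.leaf 357) (.leaf 445)) (.leaf 316))) (.node (.node (.node (.leaf 662) (.leaf 112)) (.node (.leaf 888) (.leaf 630))) (.node (.node (.leaf 483) (.leaf 118)) (.leaf 264)))) (.node (.node (.node (.node (.leaf 36) (.leaf 861)) (.node (.leaf 590) (.leaf 103))) (.node (.node (.leaf 75) (.leaf 887)) (.leaf 252))) (.node (.node (.node (.leaf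 406) (.leaf 701)) (.node (.leaf 380) (.leaf 374))) (.node (.node (.leaf 256) (.leaf 542)) (.leaf 808))))) (.node (.node (.node (.node (.node (.leaf 134) (.leaf 424)) (.node (.leaf 718) (.leaf 231))) (.node (.node (.leaf 4) (.leaf 866)) (.leaf 19))) (.node (.node (.node (.leaf 534) (.leaf 829)) (.node (.leaf 787) (.leaf 502))) (.node (.node (.leaf 347) (.leaf 434)) (.leaf 128)))) (.node (.node (.node (.node (.leaf 790) (.leaf 240)) (.node (.leaf 462) (.leaf 758))) (.node (.node (.leaf 41) (.leaf 873)) (.leaf 856))) (.node (.node (.node (.leaf 432) (.leaf 573)) (.node (.leaf 251) (.leaf 863))) (.node (.node (.leaf 126) (.leaf 206)) (.leaf 680))))))) (.node (.node (.node (.node (.node (.node (.node (.leaf 268) (.leaf 648)) (.node (.leaf 30) (.leaf 346))) (.node (.node (.leaf 457) (.leaf 477)) (.leaf 101))) (.node (.node (.node (.leaf 694) (.leaf 141)) (.node (.leaf 366) (.leaf 790))) (.node (.node (.leaf 507) (.leaf 553)) (.leaf 275)))) (.node (.node (.node (.node (.leaf 38) (.leaf 392)) (.node (.leaf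 622) (.leaf 137))) (.node (.node (.leaf 130) (.leaf 757)) (.leaf 9))) (.node (.node (.node (.leaf 438) (.leaf 733)) (.node (.leaf 177) (.leaf 534))) (.node (.node (.leaf 285) (.leaf 147)) (.leaf 24))))) (.node (.node (.node (.node (.node (.leaf 164) (.leaf 520)) (.node (.leaf 750) (.leaf 93))) (.node (.node (.leaf 560) (.leaf 349)) (.leaf 305))) (.node (.node (.node (.leaf 566) (.leaf 15)) (.node (.leaf 524) (.leaf 662))) (.node (.node (.leaf 343) (.leaf 466)) (.leaf 188)))) (.node (.node (.node (.node (.leaf 822) (.leaf 269)) (.node (.leaf 494) (.leaf 33))) (.node (.node (.leaf 49) (.leaf 744)) (.leaf 103))) (.node (.node (.node (.leaf 526) (.leaf 605)) (.node (.leaf 476) (.leaf 406))) (.node (.node (.leaf 154) (.leaf 99)) (.leaf 776)))))) (.node (.node (.node (.node (.node (.node (.leaf 231) (.leaf 584)) (.node (.leaf 814) (.leaf 327))) (.node (.node (.leaf 793) (.leaf 413)) (.leaf 306))) (.node (.node (.node (.leaf 502) (.leaf 91)) (.node (.leaf 856) (.leaf 598))) (.node (.node (.leaf 451) (.leaf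 116)) (.leaf 224)))) (.node (.node (.node (.node (.leaf 758) (.leaf 333)) (.node (.leaf 558) (.leaf 41))) (.node (.node (.leaf 56) (.leaf 351)) (.leaf 104))) (.node (.node (.node (.leaf 866) (.leaf 669)) (.node (.leaf 851) (.leaf 342))) (.node (.node (.leaf 222) (.leaf 476)) (.leaf 840))))) (.node (.node (.node (.node (.node (.leaf 103) (.leaf 456)) (.node (.leaf 686) (.leaf 201))) (.node (.node (.leaf 162) (.leaf 820)) (.leaf 10))) (.node (.node (.node (.leaf 374) (.leaf 797)) (.node (.leaf 420) (.leaf 470))) (.node (.node (.leaf 229) (.leaf 604)) (.leaf 83)))) (.node (.node (.node (.node (.leaf 630) (.leaf 205)) (.node (.leaf 430) (.leaf 726))) (.node (.node (.leaf 535) (.leaf 746)) (.leaf 77))) (.node (.node (.node (.leaf 766) (.leaf 541)) (.leaf 102)) (.node (.node (.leaf 94) (.leaf 12)) (.leaf 712)))))))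

/-- Part of `succT`. -/
def succT_p10011 : Tr := .node (.node (.node (.node (.node (.node (.node (.node (.leaf 311) (.leaf 600)) (.node (.leaf 45) (.leaf 43))) (.node (.node (.leaf 380) (.leaf 493)) (.leaf 114))) (.node (.node (.node (.leaf 710) (.leaf 178)) (.node (.leaf 382) (.leaf 806))) (.node (.node (.leaf 8) (.leaf 885)) (.leaf 272)))) (.node (.node (.node (.node (.leaf 55) (.leaf 344)) (.node (.leaf 638) (.leaf 151))) (.node (.node (.leaf 385) (.leaf 825)) (.leaf 273))) (.node (.node (.node (.leaf 454) (.leaf 749)) (.node (.leaf 396) (.leaf 550))) (.node (.node (.leaf 301) (.leaf 354)) (.leaf 36))))) (.node (.node (.node (.node (.node (.leaf 160) (.leaf 472)) (.node (.leaf 766) (.leaf 281))) (.node (.node (.leaf 692) (.leaf 365)) (.leaf 49))) (.node (.node (.node (.leaf 582) (.leaf 31)) (.node (.leaf 299) (.leaf 678))) (.node (.node (.leaf 90) (.leaf 74)) (.leaf 168)))) (.node (.node (.node (.node (.leaf 838) (.leaf 287)) (.node (.leaf 510) (.leaf 23))) (.node (.node (.leaf 615) (.leaf 341))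 (.leaf 113))) (.node (.node (.node (.leaf 682) (.leaf 621)) (.node (.leaf 643) (.leaf 422))) (.node (.node (.leaf 163) (.leaf 345)) (.leaf 728)))))) (.node (.node (.node (.node (.node (.node (.leaf 89) (.leaf 536)) (.node (.leaf 830) (.leaf 103))) (.node (.node (.leaf 401) (.leaf 429)) (.leaf 50))) (.node (.node (.node (.leaf 518) (.leaf 96)) (.node (.leaf 872) (.leaf 614))) (.node (.node (.leaf 181) (.leaf 665)) (.leaf 100)))) (.node (.node (.node (.node (.leaf 774) (.leaf 862)) (.node (.leaf 574) (.leaf 252))) (.node (.node (.leaf 644) (.leaf 623)) (.leaf 116))) (.node (.node (.node (.leaf 882) (.leaf 685)) (.node (.leaf 752) (.leaf 358))) (.node (.node (.leaf 238) (.leaf 18)) (.leaf 792))))) (.node (.node (.node (.node (.node (.leaf 120) (.leaf 408)) (.node (.leaf 702) (.leaf 217))) (.node (.node (.leaf 350) (.leaf 857)) (.leaf 274))) (.node (.node (.node (.leaf 390) (.leaf 813)) (.node (.leaf 760) (.leaf 486))) (.node (.node (.leaf 135) (.leaf 47)) (.leaf 228)))) (.node (.node (.node (.node (.leaf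 646) (.leaf 224)) (.node (.leaf 446) (.leaf 742))) (.node (.node (.leaf 13) (.leaf 247)) (.leaf 159))) (.node (.node (.node (.leaf 788) (.leaf 557)) (.leaf 115)) (.node (.node (.leaf 110) (.leaf 426)) (.leaf 664))))))) (.node (.node (.node (.node (.node (.node (.node (.leaf 279) (.leaf 632)) (.node (.leaf 13) (.leaf 235))) (.node (.node (.leaf 810) (.leaf 461)) (.leaf 194))) (.node (.node (.node (.leaf 678) (.leaf 128)) (.node (.leaf 350) (.leaf 646))) (.node (.node (.leaf 10) (.leaf 343)) (.leaf 258)))) (.node (.node (.node (.node (.leaf 24) (.leaf 376)) (.node (.leaf 606) (.leaf 121))) (.node (.node (.leaf 353) (.leaf 815)) (.leaf 267))) (.node (.node (.node (.leaf 422) (.leaf 717)) (.node (.leaf 388) (.leaf 390))) (.node (.node (.leaf 269) (.leaf 200)) (.leaf 3))))) (.node (.node (.node (.node (.node (.leaf 148) (.leaf 504)) (.node (.leaf 734) (.leaf 77))) (.node (.node (.leaf 484) (.leaf 889)) (.leaf 43))) (.node (.node (.node (.leaf 550) (.leaf 845)) (.node (.leaf 515) (.leaf 518))) (.node (.node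 (.leaf 149) (.leaf 58)) (.leaf 130)))) (.node (.node (.node (.node (.leaf 806) (.leaf 255)) (.node (.leaf 478) (.leaf 774))) (.node (.node (.leaf 595) (.leaf 798)) (.leaf 195))) (.node (.node (.node (.leaf 570) (.leaf 589)) (.node (.leaf 491) (.leaf 879))) (.node (.node (.leaf 141) (.leaf 396)) (.leaf 760)))))) (.node (.node (.node (.node (.node (.node (.leaf 216) (.leaf 568)) (.node (.leaf 798) (.leaf 309))) (.node (.node (.leaf 84) (.leaf 397)) (.leaf 71))) (.node (.node (.node (.leaf 486) (.leaf 63)) (.node (.leaf 700) (.leaf 710))) (.node (.node (.leaf 110) (.leaf 155)) (.leaf 194)))) (.node (.node (.node (.node (.leaf 742) (.leaf 320)) (.node (.leaf 542) (.leaf 57))) (.node (.node (.leaf 683) (.leaf 517)) (.leaf 193))) (.node (.node (.node (.leaf 850) (.leaf 653)) (.node (.leaf 748) (.leaf 454))) (.node (.node (.leaf 205) (.leaf 377)) (.leaf 824))))) (.node (.node (.node (.node (.node (.leaf 256) (.leaf 440)) (.node (.leaf 670) (.leaf 183))) (.node (.node (.leaf 417) (.leaf 802)) (.leaf 295)))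 (.node (.node (.node (.leaf 358) (.leaf 781)) (.node (.leaf 348) (.leaf 582))) (.node (.node (.leaf 334) (.leaf 622)) (.leaf 48)))) (.node (.node (.node (.node (.leaf 614) (.leaf 187)) (.node (.leaf 414) (.leaf 838))) (.node (.node (.leaf 17) (.leaf 686)) (.leaf 323))) (.node (.node (.node (.leaf 803) (.leaf 525)) (.leaf 196)) (.node (.node (.leaf 80) (.leaf 1)) (.leaf 696)))))))

/-- Part of `succT`. -/
def succT_p10100 : Tr := .node (.node (.node (.node (.node (.node (.node (.node (.leaf 304) (.leaf 612)) (.node (.leaf 65) (.leaf 382))) (.node (.node (.leaf 203) (.leaf 513)) (.leaf 172))) (.node (.node (.node (.leaf 602) (.leaf 158)) (.node (.leaf 402) (.leaf 826))) (.node (.node (.leaf 16) (.leaf 356)) (.leaf 311)))) (.node (.node (.node (.node (.leaf 244) (.leaf 356)) (.node (.leaf 658) (.leaf 161))) (.node (.node (.leaf 394) (.leaf 726)) (.leaf 283))) (.node (.node (.node (.leaf 346) (.leaf 769)) (.node (.leaf 874) (.leaf 570))) (.node (.node (.leaf 321) (.leaf 187)) (.leaf 56))))) (.node (.node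 (.node (.node (.node (.leaf 202) (.leaf 484)) (.node (.leaf 786) (.leaf 298))) (.node (.node (.leaf 684) (.leaf 385)) (.leaf 59))) (.node (.node (.node (.leaf 474) (.leaf 51)) (.node (.leaf 664) (.leaf 698))) (.node (.node (.leaf 178) (.leaf 502)) (.leaf 183)))) (.node (.node (.node (.node (.leaf 730) (.leaf 307)) (.node (.leaf 530) (.leaf 69))) (.node (.node (.leaf 600) (.leaf 881)) (.leaf 170))) (.node (.node (.node (.leaf 702) (.leaf 641)) (.node (.leaf 611) (.leaf 442))) (.node (.node (.leaf 193) (.leaf 227)) (.leaf 740)))))) (.node (.node (.node (.node (.node (.node (.leaf 296) (.leaf 548)) (.node (.leaf 2) (.leaf 287))) (.node (.node (.leaf 139) (.leaf 449)) (.leaf 60))) (.node (.node (.node (.leaf 666) (.leaf 116)) (.node (.leaf 338) (.leaf 634))) (.node (.node (.leaf 6) (.leaf 128)) (.leaf 246)))) (.node (.node (.node (.node (.leaf 11) (.leaf 882)) (.node (.leaf 594) (.leaf 107))) (.node (.node (.leaf 341) (.leaf 711)) (.leaf 176))) (.node (.node (.node (.leaf 410) (.leaf 705)) (.node (.leaf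 384) (.leaf 378))) (.node (.node (.leaf 260) (.leaf 512)) (.leaf 804))))) (.node (.node (.node (.node (.node (.leaf 138) (.leaf 420)) (.node (.leaf 722) (.leaf 235))) (.node (.node (.leaf 523) (.leaf 877)) (.leaf 284))) (.node (.node (.node (.leaf 538) (.leaf 833)) (.node (.leaf 792) (.leaf 506))) (.node (.node (.leaf 92) (.leaf 640)) (.leaf 124)))) (.node (.node (.node (.node (.leaf 794) (.leaf 244)) (.node (.leaf 466) (.leaf 762))) (.node (.node (.leaf 627) (.leaf 675)) (.leaf 225))) (.node (.node (.node (.leaf 438) (.leaf 577)) (.node (.leaf 174) (.leaf 867))) (.node (.node (.leaf 129) (.leaf 32)) (.leaf 676))))))) (.node (.node (.node (.node (.node (.node (.node (.leaf 298) (.leaf 644)) (.node (.leaf 33) (.leaf 378))) (.node (.node (.leaf 815) (.leaf 481)) (.leaf 75))) (.node (.node (.node (.leaf 698) (.leaf 151)) (.node (.leaf 370) (.leaf 794))) (.node (.node (.leaf 30) (.leaf 864)) (.leaf 280)))) (.node (.node (.node (.node (.leaf 72) (.leaf 388)) (.node (.leaf 626) (.leaf 133))) (.node (.node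 (.leaf 373) (.leaf 529)) (.leaf 270))) (.node (.node (.node (.leaf 442) (.leaf 737)) (.node (.leaf 181) (.leaf 538))) (.node (.node (.leaf 289) (.leaf 88)) (.leaf 20))))) (.node (.node (.node (.node (.node (.leaf 176) (.leaf 516)) (.node (.leaf 754) (.leaf 293))) (.node (.node (.leaf 40) (.leaf 353)) (.leaf 48))) (.node (.node (.node (.leaf 570) (.leaf 20)) (.node (.leaf 483) (.leaf 666))) (.node (.node (.leaf 190) (.leaf 734)) (.leaf 192)))) (.node (.node (.node (.node (.leaf 826) (.leaf 275)) (.node (.leaf 498) (.leaf 11))) (.node (.node (.leaf 647) (.leaf 690)) (.leaf 76))) (.node (.node (.node (.leaf 538) (.leaf 609)) (.node (.leaf 499) (.leaf 410))) (.node (.node (.leaf 175) (.leaf 6)) (.leaf 772)))))) (.node (.node (.node (.node (.node (.node (.leaf 235) (.leaf 580)) (.node (.leaf 818) (.leaf 301))) (.node (.node (.leaf 855) (.leaf 417)) (.leaf 46))) (.node (.node (.node (.leaf 506) (.leaf 83)) (.node (.leaf 860) (.leaf 602))) (.node (.node (.leaf 226) (.leaf 121)) (.leaf 220)))) (.node (.node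 (.node (.node (.leaf 762) (.leaf 850)) (.node (.leaf 562) (.leaf 241))) (.node (.node (.leaf 703) (.leaf 380)) (.leaf 243))) (.node (.node (.node (.leaf 869) (.leaf 673)) (.node (.leaf 372) (.leaf 346))) (.node (.node (.leaf 226) (.leaf 570)) (.leaf 836))))) (.node (.node (.node (.node (.node (.leaf 107) (.leaf 452)) (.node (.leaf 690) (.leaf 197))) (.node (.node (.leaf 437) (.leaf 725)) (.leaf 272))) (.node (.node (.node (.leaf 378) (.leaf 801)) (.node (.leaf 744) (.leaf 474))) (.node (.node (.leaf 199) (.leaf 406)) (.leaf 87)))) (.node (.node (.node (.node (.leaf 634) (.leaf 212)) (.node (.leaf 434) (.leaf 730))) (.node (.node (.leaf 21) (.leaf 80)) (.leaf 145))) (.node (.node (.node (.leaf 861) (.leaf 545)) (.leaf 244)) (.node (.node (.leaf 98) (.leaf 207)) (.leaf 708)))))))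

/-- Part of `succT`. -/
def succT_p10101 : Tr := .node (.node (.node (.node (.node (.node (.node (.node (.leaf 316) (.leaf 596)) (.node (.leaf 49) (.leaf 2))) (.node (.node (.leaf 388) (.leaf 497)) (.leaf 120))) (.node (.node (.node (.leaf 714) (.leaf 161)) (.node (.leaf 386) (.leaf 810))) (.node (.node (.leaf 503) (.leaf 589)) (.leaf 295)))) (.node (.node (.node (.node (.leaf 59) (.leaf 340)) (.node (.leaf 642) (.leaf 155))) (.node (.node (.leaf 93) (.leaf 857)) (.leaf 6))) (.node (.node (.node (.leaf 458) (.leaf 753)) (.node (.leaf 844) (.leaf 554))) (.node (.node (.leaf 306) (.leaf 650)) (.leaf 39))))) (.node (.node (.node (.node (.node (.leaf 192) (.leaf 468)) (.node (.leaf 770) (.leaf 277))) (.node (.node (.leaf 699) (.leaf 369)) (.leaf 302))) (.node (.node (.node (.leaf 586) (.leaf 35)) (.node (.leaf 636) (.leaf 682))) (.node (.node (.leaf 399) (.leaf 160)) (.leaf 164)))) (.node (.node (.node (.node (.leaf 842) (.leaf 289)) (.node (.leaf 514) (.leaf 25))) (.node (.node (.leaf 42) (.leaf 486))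 (.leaf 123))) (.node (.node (.node (.leaf 626) (.leaf 625)) (.node (.leaf 684) (.leaf 426))) (.node (.node (.leaf 182) (.leaf 349)) (.leaf 724)))))) (.node (.node (.node (.node (.node (.node (.leaf 84) (.leaf 532)) (.node (.leaf 834) (.leaf 78))) (.node (.node (.leaf 123) (.leaf 433)) (.leaf 330))) (.node (.node (.node (.leaf 522) (.leaf 100)) (.node (.leaf 863) (.leaf 618))) (.node (.node (.leaf 392) (.leaf 371)) (.leaf 105)))) (.node (.node (.node (.node (.leaf 778) (.leaf 873)) (.node (.leaf 578) (.leaf 257))) (.node (.node (.leaf 66) (.leaf 655)) (.leaf 124))) (.node (.node (.node (.leaf 886) (.leaf 689)) (.node (.leaf 110) (.leaf 362))) (.node (.node (.leaf 242) (.leaf 203)) (.leaf 788))))) (.node (.node (.node (.node (.node (.leaf 124) (.leaf 404)) (.node (.leaf 706) (.leaf 213))) (.node (.node (.leaf 223) (.leaf 861)) (.leaf 34))) (.node (.node (.node (.leaf 394) (.leaf 817)) (.node (.leaf 238) (.leaf 490))) (.node (.node (.leaf 87) (.leaf 54)) (.leaf 233)))) (.node (.node (.node (.node (.leaf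 650) (.leaf 228)) (.node (.leaf 450) (.leaf 746))) (.node (.node (.leaf 520) (.leaf 782)) (.leaf 334))) (.node (.node (.node (.leaf 798) (.leaf 561)) (.node (.leaf 119) (.leaf 888))) (.node (.node (.leaf 114) (.leaf 368)) (.leaf 660))))))) (.node (.node (.node (.node (.node (.node (.node (.leaf 283) (.leaf 628)) (.node (.leaf 20) (.leaf 258))) (.node (.node (.leaf 420) (.leaf 465)) (.leaf 198))) (.node (.node (.node (.leaf 682) (.leaf 129)) (.node (.leaf 354) (.leaf 650))) (.node (.node (.leaf 495) (.leaf 701)) (.leaf 244)))) (.node (.node (.node (.node (.leaf 27) (.leaf 372)) (.node (.leaf 610) (.leaf 117))) (.node (.node (.leaf 132) (.leaf 408)) (.leaf 27))) (.node (.node (.node (.leaf 426) (.leaf 721)) (.node (.leaf 392) (.leaf 394))) (.node (.node (.leaf 273) (.leaf 24)) (.leaf 8))))) (.node (.node (.node (.node (.node (.leaf 180) (.leaf 500)) (.node (.leaf 738) (.leaf 88))) (.node (.node (.leaf 504) (.leaf 337)) (.leaf 323))) (.node (.node (.node (.leaf 554) (.leaf 1)) (.node (.leaf 492) (.leaf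 522))) (.node (.node (.leaf 387) (.leaf 68)) (.leaf 140)))) (.node (.node (.node (.node (.leaf 810) (.leaf 247)) (.node (.leaf 482) (.leaf 778))) (.node (.node (.leaf 62) (.leaf 768)) (.leaf 202))) (.node (.node (.node (.leaf 541) (.leaf 593)) (.node (.leaf 516) (.leaf 883))) (.node (.node (.leaf 146) (.leaf 462)) (.leaf 756)))))) (.node (.node (.node (.node (.node (.node (.leaf 220) (.leaf 564)) (.node (.leaf 802) (.leaf 315))) (.node (.node (.leaf 88) (.leaf 401)) (.leaf 324))) (.node (.node (.node (.leaf 490) (.leaf 65)) (.node (.leaf 335) (.leaf 714))) (.node (.node (.leaf 407) (.leaf 94)) (.leaf 204)))) (.node (.node (.node (.node (.leaf 746) (.leaf 323)) (.node (.leaf 546) (.leaf 53))) (.node (.node (.leaf 54) (.leaf 583)) (.leaf 204))) (.node (.node (.node (.leaf 854) (.leaf 657)) (.node (.leaf 89) (.leaf 458))) (.node (.node (.leaf 210) (.leaf 381)) (.leaf 820))))) (.node (.node (.node (.node (.node (.leaf 245) (.leaf 436)) (.node (.leaf 674) (.leaf 187))) (.node (.node (.leaf 168) (.leaf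 776)) (.leaf 28))) (.node (.node (.node (.leaf 362) (.leaf 785)) (.node (.leaf 416) (.leaf 586))) (.node (.node (.leaf 39) (.leaf 390)) (.leaf 71)))) (.node (.node (.node (.node (.leaf 618) (.leaf 193)) (.node (.leaf 418) (.leaf 842))) (.node (.node (.leaf 579) (.leaf 886)) (.leaf 308))) (.node (.node (.node (.leaf 122) (.leaf 529)) (.leaf 200)) (.node (.node (.leaf 84) (.leaf 44)) (.leaf 692)))))))

/-- Part of `succT`. -/
def succT_p10110 : Tr := .node (.node (.node (.node (.node (.node (.node (.node (.leaf 323) (.leaf 604)) (.node (.leaf 54) (.leaf 188))) (.node (.node (.leaf 464) (.leaf 505)) (.leaf 134))) (.node (.node (.node (.leaf 594) (.leaf 169)) (.node (.leaf 394) (.leaf 818))) (.node (.node (.leaf 29) (.leaf 477)) (.leaf 304)))) (.node (.node (.node (.node (.leaf 68) (.leaf 348)) (.node (.leaf 650) (.leaf 169))) (.node (.node (.leaf 397) (.leaf 823)) (.leaf 15))) (.node (.node (.node (.leaf 338) (.leaf 761)) (.node (.leaf 864) (.leaf 562))) (.node (.node (.leaf 316) (.leaf 630)) (.leaf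 68))))) (.node (.node (.node (.node (.node (.leaf 196) (.leaf 476)) (.node (.leaf 778) (.leaf 291))) (.node (.node (.leaf 716) (.leaf 377)) (.leaf 311))) (.node (.node (.node (.leaf 466) (.leaf 43)) (.node (.leaf 644) (.leaf 690))) (.node (.node (.leaf 189) (.leaf 225)) (.leaf 172)))) (.node (.node (.node (.node (.leaf 722) (.leaf 297)) (.node (.leaf 522) (.leaf 5))) (.node (.node (.leaf 639) (.leaf 871)) (.leaf 138))) (.node (.node (.node (.leaf 646) (.leaf 633)) (.node (.leaf 596) (.leaf 434))) (.node (.node (.leaf 186) (.leaf 766)) (.leaf 732)))))) (.node (.node (.node (.node (.node (.node (.leaf 77) (.leaf 540)) (.node (.leaf 842) (.leaf 13))) (.node (.node (.leaf 823) (.leaf 441)) (.leaf 312))) (.node (.node (.node (.leaf 658) (.leaf 107)) (.node (.leaf 884) (.leaf 626))) (.node (.node (.leaf 240) (.leaf 760)) (.leaf 112)))) (.node (.node (.node (.node (.leaf 2) (.leaf 874)) (.node (.leaf 586) (.leaf 97))) (.node (.node (.leaf 711) (.leaf 859)) (.leaf 140))) (.node (.node (.node (.leaf 402)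 (.leaf 697)) (.node (.leaf 828) (.leaf 370))) (.node (.node (.leaf 252) (.leaf 127)) (.leaf 796))))) (.node (.node (.node (.node (.node (.leaf 132) (.leaf 412)) (.node (.leaf 714) (.leaf 225))) (.node (.node (.leaf 461) (.leaf 869)) (.leaf 16))) (.node (.node (.node (.leaf 530) (.leaf 825)) (.node (.leaf 92) (.leaf 498))) (.node (.node (.leaf 37) (.leaf 328)) (.leaf 240)))) (.node (.node (.node (.node (.leaf 786) (.leaf 235)) (.node (.leaf 458) (.leaf 754))) (.node (.node (.leaf 22) (.leaf 855)) (.leaf 186))) (.node (.node (.node (.leaf 256) (.leaf 569)) (.node (.leaf 136) (.leaf 880))) (.node (.node (.leaf 121) (.leaf 376)) (.leaf 668))))))) (.node (.node (.node (.node (.node (.node (.node (.leaf 292) (.leaf 636)) (.node (.leaf 25) (.leaf 86))) (.node (.node (.leaf 778) (.leaf 473)) (.leaf 215))) (.node (.node (.node (.leaf 690) (.leaf 139)) (.node (.leaf 362) (.leaf 786))) (.node (.node (.leaf 7) (.leaf 506)) (.leaf 292)))) (.node (.node (.node (.node (.leaf 8) (.leaf 380)) (.node (.leaf 618) (.leaf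 141))) (.node (.node (.leaf 365) (.leaf 848)) (.leaf 8))) (.node (.node (.node (.leaf 434) (.leaf 729)) (.node (.leaf 855) (.leaf 530))) (.node (.node (.leaf 278) (.leaf 626)) (.leaf 15))))) (.node (.node (.node (.node (.node (.leaf 168) (.leaf 508)) (.node (.leaf 746) (.leaf 89))) (.node (.node (.leaf 592) (.leaf 345)) (.leaf 304))) (.node (.node (.node (.leaf 562) (.leaf 11)) (.node (.leaf 468) (.leaf 658))) (.node (.node (.leaf 91) (.leaf 301)) (.leaf 142)))) (.node (.node (.node (.node (.leaf 818) (.leaf 267)) (.node (.leaf 490) (.leaf 2))) (.node (.node (.leaf 651) (.leaf 627)) (.leaf 220))) (.node (.node (.node (.leaf 578) (.leaf 601)) (.node (.leaf 472) (.leaf 402))) (.node (.node (.leaf 158) (.leaf 470)) (.leaf 764)))))) (.node (.node (.node (.node (.node (.node (.leaf 227) (.leaf 572)) (.node (.leaf 810) (.leaf 321))) (.node (.node (.leaf 759) (.leaf 409)) (.leaf 332))) (.node (.node (.node (.leaf 498) (.leaf 76)) (.node (.leaf 852) (.leaf 594))) (.node (.node (.leaf 182) (.leaf 818)) (.leaf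 206)))) (.node (.node (.node (.node (.leaf 754) (.leaf 331)) (.node (.leaf 554) (.leaf 67))) (.node (.node (.leaf 624) (.leaf 524)) (.leaf 219))) (.node (.node (.node (.leaf 877) (.leaf 665)) (.node (.leaf 728) (.leaf 338))) (.node (.node (.leaf 217) (.leaf 124)) (.leaf 828))))) (.node (.node (.node (.node (.node (.leaf 99) (.leaf 444)) (.node (.leaf 682) (.leaf 205))) (.node (.node (.leaf 370) (.leaf 837)) (.leaf 36))) (.node (.node (.node (.leaf 370) (.leaf 793)) (.node (.leaf 740) (.leaf 466))) (.node (.node (.leaf 81) (.leaf 144)) (.leaf 78)))) (.node (.node (.node (.node (.leaf 626) (.leaf 203)) (.node (.leaf 426) (.leaf 722))) (.node (.node (.leaf 26) (.leaf 712)) (.leaf 335))) (.node (.node (.node (.leaf 453) (.leaf 537)) (.leaf 216)) (.node (.node (.leaf 92) (.leaf 670)) (.leaf 700)))))))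

/-- Part of `succT`. -/
def succT_p10111 : Tr := .node (.node (.node (.node (.node (.node (.node (.node (.leaf 307) (.leaf 652)) (.node (.leaf 42) (.leaf 386))) (.node (.node (.leaf 366) (.leaf 489)) (.leaf 96))) (.node (.node (.node (.leaf 706) (.leaf 182)) (.node (.leaf 378) (.leaf 802))) (.node (.node (.leaf 527) (.leaf 590)) (.leaf 287)))) (.node (.node (.node (.node (.leaf 51) (.leaf 396)) (.node (.leaf 634) (.leaf 147))) (.node (.node (.leaf 96) (.leaf 797)) (.leaf 292))) (.node (.node (.node (.leaf 450) (.leaf 745)) (.node (.leaf 404) (.leaf 546))) (.node (.node (.leaf 298) (.leaf 298)) (.leaf 12))))) (.node (.node (.node (.node (.node (.leaf 156) (.leaf 524)) (.node (.leaf 762) (.leaf 275))) (.node (.node (.leaf 620) (.leaf 361)) (.leaf 66))) (.node (.node (.node (.leaf 578) (.leaf 27)) (.node (.leaf 579) (.leaf 674))) (.node (.node (.leaf 375) (.leaf 597)) (.leaf 159)))) (.node (.node (.node (.node (.leaf 834) (.leaf 283)) (.node (.leaf 506) (.leaf 19))) (.node (.node (.leaf 44) (.leaf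 547)) (.leaf 95))) (.node (.node (.node (.leaf 621) (.leaf 617)) (.node (.leaf 39) (.leaf 418))) (.node (.node (.leaf 167) (.leaf 154)) (.leaf 780)))))) (.node (.node (.node (.node (.node (.node (.leaf 76) (.leaf 588)) (.node (.leaf 826) (.leaf 0))) (.node (.node (.leaf 746) (.leaf 425)) (.leaf 68))) (.node (.node (.node (.leaf 514) (.leaf 79)) (.node (.leaf 871) (.leaf 610))) (.node (.node (.leaf 384) (.leaf 140)) (.leaf 212)))) (.node (.node (.node (.node (.leaf 770) (.leaf 858)) (.node (.leaf 570) (.leaf 256))) (.node (.node (.leaf 65) (.leaf 713)) (.leaf 264))) (.node (.node (.node (.leaf 861) (.leaf 681)) (.node (.leaf 747) (.leaf 354))) (.node (.node (.leaf 233) (.leaf 635)) (.leaf 844))))) (.node (.node (.node (.node (.node (.leaf 114) (.leaf 460)) (.node (.leaf 698) (.leaf 210))) (.node (.node (.leaf 125) (.leaf 853)) (.leaf 290))) (.node (.node (.node (.leaf 386) (.leaf 809)) (.node (.leaf 755) (.leaf 482))) (.node (.node (.leaf 105) (.leaf 616)) (.leaf 76)))) (.node (.node (.node (.node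 (.leaf 642) (.leaf 220)) (.node (.leaf 442) (.leaf 738))) (.node (.node (.leaf 512) (.leaf 606)) (.leaf 155))) (.node (.node (.node (.leaf 845) (.leaf 553)) (.leaf 263)) (.node (.node (.leaf 105) (.leaf 60)) (.leaf 716))))))) (.node (.node (.node (.node (.node (.node (.node (.leaf 275) (.leaf 556)) (.node (.leaf 10) (.leaf 107))) (.node (.node (.leaf 406) (.leaf 457)) (.leaf 162))) (.node (.node (.node (.leaf 674) (.leaf 124)) (.node (.leaf 346) (.leaf 642))) (.node (.node (.leaf 471) (.leaf 318)) (.leaf 255)))) (.node (.node (.node (.node (.leaf 20) (.leaf 890)) (.node (.leaf 602) (.leaf 114))) (.node (.node (.leaf 196) (.leaf 248)) (.leaf 279))) (.node (.node (.node (.leaf 418) (.leaf 713)) (.node (.leaf 772) (.leaf 386))) (.node (.node (.leaf 266) (.leaf 437)) (.leaf 812))))) (.node (.node (.node (.node (.node (.leaf 152) (.leaf 428)) (.node (.leaf 730) (.leaf 73))) (.node (.node (.leaf 563) (.leaf 885)) (.leaf 55))) (.node (.node (.node (.leaf 546) (.leaf 841)) (.node (.leaf 820) (.leaf 514)))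 (.node (.node (.leaf 379) (.leaf 710)) (.leaf 116)))) (.node (.node (.node (.node (.leaf 802) (.leaf 251)) (.node (.leaf 474) (.leaf 770))) (.node (.node (.leaf 50) (.leaf 764)) (.leaf 164))) (.node (.node (.node (.leaf 474) (.leaf 585)) (.node (.leaf 508) (.leaf 864))) (.node (.node (.leaf 137) (.leaf 65)) (.leaf 684)))))) (.node (.node (.node (.node (.node (.node (.leaf 210) (.leaf 492)) (.node (.leaf 794) (.leaf 307))) (.node (.node (.leaf 749) (.leaf 393)) (.leaf 56))) (.node (.node (.node (.leaf 482) (.leaf 59)) (.node (.leaf 627) (.leaf 706))) (.node (.node (.leaf 431) (.leaf 629)) (.leaf 152)))) (.node (.node (.node (.node (.leaf 738) (.leaf 316)) (.node (.leaf 538) (.leaf 51))) (.node (.node (.leaf 55) (.leaf 407)) (.leaf 166))) (.node (.node (.node (.leaf 2) (.leaf 649)) (.node (.leaf 707) (.leaf 450))) (.node (.node (.leaf 201) (.leaf 96)) (.leaf 748))))) (.node (.node (.node (.node (.node (.leaf 252) (.leaf 364)) (.node (.leaf 666) (.leaf 179))) (.node (.node (.leaf 165) (.leaf 890)) (.leaf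 280))) (.node (.node (.node (.leaf 354) (.leaf 777)) (.node (.leaf 732) (.leaf 578))) (.node (.node (.leaf 329) (.leaf 42)) (.leaf 63)))) (.node (.node (.node (.node (.leaf 610) (.leaf 191)) (.node (.leaf 410) (.leaf 834))) (.node (.node (.leaf 571) (.leaf 714)) (.leaf 316))) (.node (.node (.node (.leaf 430) (.leaf 521)) (.leaf 168)) (.node (.node (.leaf 74) (.leaf 654)) (.leaf 620)))))))

/-- Part of `succT`. -/
def succT_p11000 : Tr := .node (.node (.node (.node (.node (.node (.node (.node (.leaf 336) (.leaf 622)) (.node (.leaf 67) (.leaf 31))) (.node (.node (.leaf 885) (.leaf 519)) (.leaf 402))) (.node (.node (.node (.leaf 608) (.leaf 156)) (.node (.leaf 404) (.leaf 828))) (.node (.node (.leaf 269) (.leaf 682)) (.leaf 318)))) (.node (.node (.node (.node (.leaf 259) (.leaf 366)) (.node (.leaf 660) (.leaf 163))) (.node (.node (.leaf 730) (.leaf 641)) (.leaf 469))) (.node (.node (.node (.leaf 352) (.leaf 775)) (.node (.leaf 882) (.leaf 572))) (.node (.node (.leaf 323) (.leaf 702)) (.leaf 58)))))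 (.node (.node (.node (.node (.node (.leaf 206) (.leaf 494)) (.node (.leaf 788) (.leaf 300))) (.node (.node (.leaf 739) (.leaf 391)) (.leaf 597))) (.node (.node (.node (.leaf 480) (.leaf 53)) (.node (.leaf 656) (.leaf 700))) (.node (.node (.leaf 113) (.leaf 126)) (.leaf 146)))) (.node (.node (.node (.node (.leaf 736) (.leaf 309)) (.node (.leaf 532) (.leaf 71))) (.node (.node (.leaf 602) (.leaf 874)) (.leaf 786))) (.node (.node (.node (.leaf 670) (.leaf 647)) (.node (.leaf 616) (.leaf 444))) (.node (.node (.leaf 195) (.leaf 574)) (.leaf 750)))))) (.node (.node (.node (.node (.node (.node (.leaf 270) (.leaf 558)) (.node (.leaf 4) (.leaf 172))) (.node (.node (.leaf 867) (.leaf 455)) (.leaf 661))) (.node (.node (.node (.leaf 672) (.leaf 118)) (.node (.leaf 340) (.leaf 636))) (.node (.node (.leaf 267) (.leaf 568)) (.leaf 249)))) (.node (.node (.node (.node (.leaf 13) (.leaf 855)) (.node (.leaf 596) (.leaf 105))) (.node (.node (.leaf 721) (.leaf 463)) (.leaf 722))) (.node (.node (.node (.leaf 416) (.leaf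 711)) (.node (.leaf 832) (.leaf 380))) (.node (.node (.leaf 258) (.leaf 228)) (.leaf 814))))) (.node (.node (.node (.node (.node (.leaf 142) (.leaf 430)) (.node (.leaf 724) (.leaf 233))) (.node (.node (.leaf 491) (.leaf 879)) (.leaf 533))) (.node (.node (.node (.leaf 544) (.leaf 839)) (.node (.leaf 848) (.leaf 508))) (.node (.node (.leaf 76) (.leaf 191)) (.leaf 118)))) (.node (.node (.node (.node (.leaf 800) (.leaf 257)) (.node (.leaf 468) (.leaf 764))) (.node (.node (.leaf 617) (.leaf 427)) (.leaf 37))) (.node (.node (.node (.leaf 465) (.leaf 583)) (.node (.leaf 338) (.leaf 869))) (.node (.node (.leaf 131) (.leaf 448)) (.leaf 686))))))) (.node (.node (.node (.node (.node (.node (.node (.leaf 330) (.leaf 654)) (.node (.leaf 35) (.leaf 208))) (.node (.node (.leaf 378) (.leaf 487)) (.leaf 365))) (.node (.node (.node (.leaf 704) (.leaf 145)) (.node (.leaf 372) (.leaf 796))) (.node (.node (.leaf 273) (.leaf 879)) (.leaf 282)))) (.node (.node (.node (.node (.leaf 46) (.leaf 398)) (.node (.leaf 628) (.leaf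 135))) (.node (.node (.leaf 733) (.leaf 731)) (.leaf 490))) (.node (.node (.node (.leaf 448) (.leaf 743)) (.node (.leaf 178) (.leaf 540))) (.node (.node (.leaf 291) (.leaf 344)) (.leaf 25))))) (.node (.node (.node (.node (.node (.leaf 170) (.leaf 526)) (.node (.leaf 756) (.leaf 295))) (.node (.node (.leaf 611) (.leaf 359)) (.leaf 618))) (.node (.node (.node (.leaf 576) (.leaf 22)) (.node (.leaf 488) (.leaf 668))) (.node (.node (.leaf 193) (.leaf 122)) (.leaf 153)))) (.node (.node (.node (.node (.leaf 832) (.leaf 277)) (.node (.leaf 500) (.leaf 9))) (.node (.node (.leaf 625) (.leaf 600)) (.leaf 749))) (.node (.node (.node (.leaf 298) (.leaf 615)) (.node (.leaf 504) (.leaf 412))) (.node (.node (.leaf 173) (.leaf 508)) (.leaf 782)))))) (.node (.node (.node (.node (.node (.node (.leaf 237) (.leaf 590)) (.node (.leaf 820) (.leaf 303))) (.node (.node (.leaf 232) (.leaf 423)) (.leaf 682))) (.node (.node (.node (.leaf 512) (.leaf 85)) (.node (.leaf 862) (.leaf 604))) (.node (.node (.leaf 161) (.leaf 800))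 (.leaf 214)))) (.node (.node (.node (.node (.leaf 768) (.leaf 887)) (.node (.leaf 564) (.leaf 243))) (.node (.node (.leaf 669) (.leaf 414)) (.leaf 813))) (.node (.node (.node (.leaf 872) (.leaf 679)) (.node (.leaf 759) (.leaf 348))) (.node (.node (.leaf 228) (.leaf 33)) (.leaf 846))))) (.node (.node (.node (.node (.node (.leaf 109) (.leaf 462)) (.node (.leaf 692) (.leaf 199))) (.node (.node (.leaf 841) (.leaf 791)) (.leaf 554))) (.node (.node (.node (.leaf 384) (.leaf 807)) (.node (.leaf 424) (.leaf 476))) (.node (.node (.leaf 133) (.leaf 254)) (.leaf 92)))) (.node (.node (.node (.node (.leaf 640) (.leaf 214)) (.node (.leaf 436) (.leaf 732))) (.node (.node (.leaf 279) (.leaf 856)) (.leaf 146))) (.node (.node (.node (.leaf 235) (.leaf 551)) (.leaf 429)) (.node (.node (.leaf 100) (.leaf 444)) (.leaf 718)))))))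

/-- Part of `succT`. -/
def succT_p11001 : Tr := .node (.node (.node (.node (.node (.node (.node (.node (.leaf 318) (.leaf 606)) (.node (.leaf 51) (.leaf 430))) (.node (.node (.leaf 781) (.leaf 503)) (.leaf 765))) (.node (.node (.node (.leaf 720) (.leaf 167)) (.node (.leaf 388) (.leaf 812))) (.node (.node (.leaf 493) (.leaf 446)) (.leaf 297)))) (.node (.node (.node (.node (.leaf 61) (.leaf 350)) (.node (.leaf 644) (.leaf 153))) (.node (.node (.leaf 77) (.leaf 872)) (.leaf 506))) (.node (.node (.node (.leaf 464) (.leaf 759)) (.node (.leaf 460) (.leaf 556))) (.node (.node (.leaf 308) (.leaf 57)) (.leaf 41))))) (.node (.node (.node (.node (.node (.leaf 186) (.leaf 478)) (.node (.leaf 772) (.leaf 279))) (.node (.node (.leaf 652) (.leaf 375)) (.leaf 634))) (.node (.node (.node (.leaf 592) (.leaf 39)) (.node (.leaf 612) (.leaf 684))) (.node (.node (.leaf 779) (.leaf 433)) (.leaf 174)))) (.node (.node (.node (.node (.leaf 848) (.leaf 293)) (.node (.leaf 516) (.leaf 27))) (.node (.node (.leaf 303) (.leaf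 605)) (.leaf 381))) (.node (.node (.node (.leaf 673) (.leaf 631)) (.node (.leaf 620) (.leaf 428))) (.node (.node (.leaf 184) (.leaf 202)) (.leaf 734)))))) (.node (.node (.node (.node (.node (.node (.leaf 86) (.leaf 542)) (.node (.leaf 836) (.leaf 163))) (.node (.node (.leaf 863) (.leaf 439)) (.leaf 698))) (.node (.node (.node (.leaf 528) (.leaf 101)) (.node (.leaf 861) (.leaf 620))) (.node (.node (.leaf 728) (.leaf 180)) (.leaf 103)))) (.node (.node (.node (.node (.leaf 784) (.leaf 868)) (.node (.leaf 580) (.leaf 259))) (.node (.node (.leaf 321) (.leaf 717)) (.leaf 445))) (.node (.node (.node (.leaf 851) (.leaf 695)) (.node (.leaf 112) (.leaf 364))) (.node (.node (.leaf 244) (.leaf 415)) (.leaf 798))))) (.node (.node (.node (.node (.node (.leaf 128) (.leaf 414)) (.node (.leaf 708) (.leaf 215))) (.node (.node (.leaf 157) (.leaf 876)) (.leaf 570))) (.node (.node (.node (.leaf 400) (.leaf 823)) (.node (.leaf 98) (.leaf 492))) (.node (.node (.leaf 3) (.leaf 716)) (.leaf 231)))) (.node (.node (.node (.node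 (.leaf 656) (.leaf 229)) (.node (.leaf 452) (.leaf 748))) (.node (.node (.leaf 522) (.leaf 518)) (.leaf 160))) (.node (.node (.node (.leaf 250) (.leaf 567)) (.node (.leaf 829) (.leaf 853))) (.node (.node (.leaf 116) (.leaf 4)) (.leaf 670))))))) (.node (.node (.node (.node (.node (.node (.node (.leaf 285) (.leaf 638)) (.node (.leaf 18) (.leaf 309))) (.node (.node (.leaf 825) (.leaf 471)) (.leaf 730))) (.node (.node (.node (.leaf 688) (.leaf 133)) (.node (.leaf 356) (.leaf 652))) (.node (.node (.leaf 473) (.leaf 262)) (.leaf 265)))) (.node (.node (.node (.node (.leaf 29) (.leaf 382)) (.node (.leaf 612) (.leaf 119))) (.node (.node (.leaf 145) (.leaf 672)) (.leaf 541))) (.node (.node (.node (.leaf 432) (.leaf 727)) (.node (.leaf 456) (.leaf 396))) (.node (.node (.leaf 275) (.leaf 447)) (.leaf 30))))) (.node (.node (.node (.node (.node (.leaf 182) (.leaf 510)) (.node (.leaf 740) (.leaf 86))) (.node (.node (.leaf 587) (.leaf 343)) (.leaf 669))) (.node (.node (.node (.leaf 560) (.leaf 5)) (.node (.leaf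 556) (.leaf 524))) (.node (.node (.leaf 747) (.leaf 456)) (.leaf 134)))) (.node (.node (.node (.node (.leaf 816) (.leaf 262)) (.node (.leaf 484) (.leaf 780))) (.node (.node (.leaf 305) (.leaf 830)) (.leaf 346))) (.node (.node (.node (.leaf 494) (.leaf 599)) (.node (.leaf 519) (.leaf 885))) (.node (.node (.leaf 148) (.leaf 72)) (.leaf 766)))))) (.node (.node (.node (.node (.node (.node (.leaf 224) (.leaf 574)) (.node (.leaf 804) (.leaf 313))) (.node (.node (.leaf 395) (.leaf 407)) (.leaf 605))) (.node (.node (.node (.leaf 496) (.leaf 69)) (.node (.leaf 859) (.leaf 716))) (.node (.node (.leaf 811) (.leaf 639)) (.leaf 198)))) (.node (.node (.node (.node (.leaf 752) (.leaf 325)) (.node (.leaf 548) (.leaf 55))) (.node (.node (.leaf 314) (.leaf 440)) (.leaf 410))) (.node (.node (.node (.leaf 883) (.leaf 663)) (.node (.leaf 91) (.leaf 460))) (.node (.node (.leaf 212) (.leaf 22)) (.leaf 830))))) (.node (.node (.node (.node (.node (.leaf 262) (.leaf 446)) (.node (.leaf 676) (.leaf 185))) (.node (.node (.leaf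 111) (.leaf 838)) (.leaf 477))) (.node (.node (.node (.leaf 368) (.leaf 791)) (.node (.leaf 352) (.leaf 588))) (.node (.node (.leaf 83) (.leaf 67)) (.leaf 94)))) (.node (.node (.node (.node (.leaf 624) (.leaf 197)) (.node (.leaf 420) (.leaf 844))) (.node (.node (.leaf 545) (.leaf 850)) (.leaf 330))) (.node (.node (.node (.leaf 860) (.leaf 535)) (.leaf 794)) (.node (.node (.leaf 82) (.leaf 400)) (.leaf 702)))))))

/-- Part of `succT`. -/
def succT_p11010 : Tr := .node (.node (.node (.node (.node (.node (.node (.node (.leaf 325) (.leaf 614)) (.node (.leaf 56) (.leaf 438))) (.node (.node (.leaf 393) (.leaf 511)) (.leaf 770))) (.node (.node (.node (.leaf 600) (.leaf 175)) (.node (.leaf 396) (.leaf 820))) (.node (.node (.leaf 537) (.leaf 543)) (.leaf 326)))) (.node (.node (.node (.node (.leaf 42) (.leaf 358)) (.node (.leaf 652) (.leaf 171))) (.node (.node (.leaf 97) (.leaf 575)) (.leaf 581))) (.node (.node (.node (.leaf 344) (.leaf 767)) (.node (.leaf 867) (.leaf 564))) (.node (.node (.leaf 314) (.leaf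 327)) (.leaf 49))))) (.node (.node (.node (.node (.node (.leaf 200) (.leaf 486)) (.node (.leaf 780) (.leaf 289))) (.node (.node (.leaf 719) (.leaf 383)) (.leaf 709))) (.node (.node (.node (.leaf 472) (.leaf 47)) (.node (.leaf 647) (.leaf 692))) (.node (.node (.leaf 787) (.leaf 822)) (.leaf 177)))) (.node (.node (.node (.node (.leaf 728) (.leaf 301)) (.node (.leaf 524) (.leaf 7))) (.node (.node (.leaf 313) (.leaf 876)) (.leaf 386))) (.node (.node (.node (.leaf 650) (.leaf 639)) (.node (.leaf 599) (.leaf 436))) (.node (.node (.leaf 188) (.leaf 125)) (.leaf 742)))))) (.node (.node (.node (.node (.node (.node (.leaf 94) (.leaf 550)) (.node (.leaf 844) (.leaf 231))) (.node (.node (.leaf 369) (.leaf 447)) (.leaf 645))) (.node (.node (.node (.leaf 664) (.leaf 110)) (.node (.leaf 886) (.leaf 628))) (.node (.node (.leaf 481) (.leaf 226)) (.leaf 262)))) (.node (.node (.node (.node (.leaf 34) (.leaf 876)) (.node (.leaf 588) (.leaf 99))) (.node (.node (.leaf 146) (.leaf 866)) (.leaf 450))) (.node (.node (.node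 (.leaf 408) (.leaf 703)) (.node (.leaf 767) (.leaf 372))) (.node (.node (.leaf 250) (.leaf 832)) (.leaf 806))))) (.node (.node (.node (.node (.node (.leaf 136) (.leaf 422)) (.node (.leaf 716) (.leaf 227))) (.node (.node (.leaf 336) (.leaf 871)) (.leaf 517))) (.node (.node (.node (.leaf 536) (.leaf 831)) (.node (.leaf 259) (.leaf 500))) (.node (.node (.leaf 723) (.leaf 696)) (.leaf 126)))) (.node (.node (.node (.node (.leaf 792) (.leaf 238)) (.node (.leaf 460) (.leaf 756))) (.node (.node (.leaf 306) (.leaf 852)) (.leaf 239))) (.node (.node (.node (.leaf 444) (.leaf 575)) (.node (.leaf 834) (.leaf 861))) (.node (.node (.leaf 123) (.leaf 192)) (.leaf 678))))))) (.node (.node (.node (.node (.node (.node (.node (.leaf 266) (.leaf 646)) (.node (.leaf 27) (.leaf 608))) (.node (.node (.leaf 827) (.leaf 479)) (.leaf 741))) (.node (.node (.node (.leaf 696) (.leaf 143)) (.node (.leaf 364) (.leaf 788))) (.node (.node (.leaf 469) (.leaf 365)) (.leaf 273)))) (.node (.node (.node (.node (.leaf 40) (.leaf 390))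 (.node (.leaf 620) (.leaf 143))) (.node (.node (.leaf 78) (.leaf 584)) (.leaf 482))) (.node (.node (.node (.leaf 440) (.leaf 735)) (.node (.leaf 860) (.leaf 532))) (.node (.node (.leaf 280) (.leaf 143)) (.leaf 22))))) (.node (.node (.node (.node (.node (.leaf 162) (.leaf 518)) (.node (.leaf 748) (.leaf 91))) (.node (.node (.leaf 572) (.leaf 351)) (.leaf 610))) (.node (.node (.node (.leaf 568) (.leaf 13)) (.node (.leaf 471) (.leaf 660))) (.node (.node (.leaf 755) (.leaf 756)) (.leaf 186)))) (.node (.node (.node (.node (.leaf 824) (.leaf 271)) (.node (.leaf 492) (.leaf 4))) (.node (.node (.leaf 302) (.leaf 834)) (.leaf 357))) (.node (.node (.node (.leaf 573) (.leaf 607)) (.node (.leaf 592) (.leaf 404))) (.node (.node (.leaf 160) (.leaf 123)) (.leaf 774)))))) (.node (.node (.node (.node (.node (.node (.leaf 229) (.leaf 582)) (.node (.leaf 812) (.leaf 323))) (.node (.node (.leaf 722) (.leaf 415)) (.leaf 674))) (.node (.node (.node (.leaf 504) (.leaf 89)) (.node (.leaf 854) (.leaf 596))) (.node (.node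 (.leaf 752) (.leaf 330)) (.leaf 222)))) (.node (.node (.node (.node (.leaf 760) (.leaf 335)) (.node (.leaf 556) (.leaf 65))) (.node (.node (.leaf 311) (.leaf 441)) (.leaf 421))) (.node (.node (.node (.leaf 864) (.leaf 671)) (.node (.leaf 784) (.leaf 340))) (.node (.node (.leaf 219) (.leaf 536)) (.leaf 838))))) (.node (.node (.node (.node (.node (.leaf 101) (.leaf 454)) (.node (.leaf 684) (.leaf 207))) (.node (.node (.leaf 153) (.leaf 694)) (.leaf 546))) (.node (.node (.node (.leaf 376) (.leaf 799)) (.node (.leaf 807) (.leaf 468))) (.node (.node (.leaf 0) (.leaf 692)) (.leaf 81)))) (.node (.node (.node (.node (.leaf 632) (.leaf 207)) (.node (.leaf 428) (.leaf 724))) (.node (.node (.leaf 498) (.leaf 464)) (.leaf 38))) (.node (.node (.node (.leaf 821) (.leaf 543)) (.leaf 805)) (.node (.node (.leaf 90) (.leaf 256)) (.leaf 710)))))))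

/-- Part of `succT`. -/
def succT_p11011 : Tr := .node (.node (.node (.node (.node (.node (.node (.node (.leaf 309) (.leaf 598)) (.node (.leaf 44) (.leaf 55))) (.node (.node (.leaf 435) (.leaf 495)) (.leaf 373))) (.node (.node (.node (.leaf 712) (.leaf 180)) (.node (.leaf 380) (.leaf 804))) (.node (.node (.leaf 285) (.leaf 528)) (.leaf 270)))) (.node (.node (.node (.node (.leaf 53) (.leaf 342)) (.node (.leaf 636) (.leaf 145))) (.node (.node (.leaf 741) (.leaf 561)) (.leaf 498))) (.node (.node (.node (.leaf 456) (.leaf 751)) (.node (.leaf 788) (.leaf 548))) (.node (.node (.leaf 300) (.leaf 678)) (.leaf 34))))) (.node (.node (.node (.node (.node (.leaf 158) (.leaf 470)) (.node (.leaf 764) (.leaf 273))) (.node (.node (.leaf 635) (.leaf 367)) (.leaf 626))) (.node (.node (.node (.leaf 584) (.leaf 29)) (.node (.leaf 539) (.leaf 676))) (.node (.node (.leaf 129) (.leaf 137)) (.leaf 166)))) (.node (.node (.node (.node (.leaf 840) (.leaf 285)) (.node (.leaf 508) (.leaf 17))) (.node (.node (.leaf 649) (.leaf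 404)) (.leaf 757))) (.node (.node (.node (.leaf 601) (.leaf 623)) (.node (.leaf 889) (.leaf 420))) (.node (.node (.leaf 165) (.leaf 697)) (.leaf 726)))))) (.node (.node (.node (.node (.node (.node (.leaf 91) (.leaf 534)) (.node (.leaf 828) (.leaf 63))) (.node (.node (.leaf 795) (.leaf 431)) (.leaf 690))) (.node (.node (.node (.leaf 520) (.leaf 94)) (.node (.leaf 870) (.leaf 612))) (.node (.node (.leaf 164) (.leaf 663)) (.leaf 98)))) (.node (.node (.node (.node (.leaf 776) (.leaf 860)) (.node (.leaf 572) (.leaf 254))) (.node (.node (.leaf 677) (.leaf 387)) (.leaf 821))) (.node (.node (.node (.leaf 880) (.leaf 687)) (.node (.leaf 363) (.leaf 356))) (.node (.node (.leaf 235) (.leaf 182)) (.leaf 790))))) (.node (.node (.node (.node (.node (.leaf 118) (.leaf 406)) (.node (.leaf 700) (.leaf 212))) (.node (.node (.leaf 817) (.leaf 855)) (.leaf 562))) (.node (.node (.node (.leaf 392) (.leaf 815)) (.node (.leaf 371) (.leaf 484))) (.node (.node (.leaf 85) (.leaf 300)) (.leaf 226)))) (.node (.node (.node (.node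 (.leaf 648) (.leaf 222)) (.node (.leaf 444) (.leaf 740))) (.node (.node (.leaf 278) (.leaf 342)) (.leaf 148))) (.node (.node (.node (.leaf 418) (.leaf 559)) (.leaf 437)) (.node (.node (.leaf 107) (.leaf 452)) (.leaf 662))))))) (.node (.node (.node (.node (.node (.node (.node (.leaf 277) (.leaf 630)) (.node (.leaf 12) (.leaf 51))) (.node (.node (.leaf 737) (.leaf 463)) (.leaf 458))) (.node (.node (.node (.leaf 680) (.leaf 126)) (.node (.leaf 348) (.leaf 644))) (.node (.node (.leaf 265) (.leaf 695)) (.leaf 260)))) (.node (.node (.node (.node (.leaf 22) (.leaf 374)) (.node (.leaf 604) (.leaf 116))) (.node (.node (.leaf 745) (.leaf 877)) (.leaf 525))) (.node (.node (.node (.leaf 424) (.leaf 719)) (.node (.leaf 836) (.leaf 388))) (.node (.node (.leaf 268) (.leaf 264)) (.leaf 1))))) (.node (.node (.node (.node (.node (.leaf 146) (.leaf 502)) (.node (.leaf 732) (.leaf 75))) (.node (.node (.leaf 531) (.leaf 887)) (.leaf 653))) (.node (.node (.node (.leaf 552) (.leaf 847)) (.node (.leaf 439) (.leaf 516)))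 (.node (.node (.leaf 73) (.leaf 70)) (.leaf 132)))) (.node (.node (.node (.node (.leaf 808) (.leaf 253)) (.node (.leaf 476) (.leaf 772))) (.node (.node (.leaf 593) (.leaf 562)) (.leaf 842))) (.node (.node (.node (.leaf 497) (.leaf 591)) (.node (.leaf 484) (.leaf 877))) (.node (.node (.leaf 139) (.leaf 720)) (.leaf 758)))))) (.node (.node (.node (.node (.node (.node (.leaf 214) (.leaf 566)) (.node (.leaf 796) (.leaf 305))) (.node (.node (.leaf 82) (.leaf 399)) (.leaf 717))) (.node (.node (.node (.leaf 488) (.leaf 61)) (.node (.leaf 632) (.leaf 708))) (.node (.node (.leaf 211) (.leaf 320)) (.leaf 196)))) (.node (.node (.node (.node (.leaf 744) (.leaf 318)) (.node (.leaf 540) (.leaf 49))) (.node (.node (.leaf 610) (.leaf 816)) (.leaf 778))) (.node (.node (.node (.leaf 880) (.leaf 655)) (.node (.leaf 667) (.leaf 452))) (.node (.node (.leaf 203) (.leaf 375)) (.leaf 822))))) (.node (.node (.node (.node (.node (.leaf 254) (.leaf 438)) (.node (.leaf 668) (.leaf 177))) (.node (.node (.leaf 738) (.leaf 854))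 (.leaf 589))) (.node (.node (.node (.leaf 360) (.leaf 783)) (.node (.leaf 796) (.leaf 580))) (.node (.node (.leaf 331) (.leaf 648)) (.leaf 46)))) (.node (.node (.node (.node (.leaf 616) (.leaf 185)) (.node (.leaf 412) (.leaf 836))) (.node (.node (.leaf 270) (.leaf 422)) (.leaf 321))) (.node (.node (.node (.leaf 425) (.leaf 527)) (.leaf 394)) (.node (.node (.leaf 76) (.leaf 66)) (.leaf 694)))))))

/-- Part of `succT`. -/
def succT_p11100 : Tr := .node (.node (.node (.node (.node (.node (.node (.node (.leaf 302) (.leaf 610)) (.node (.leaf 63) (.leaf 205))) (.node (.node (.leaf 201) (.leaf 515)) (.leaf 721))) (.node (.node (.node (.leaf 604) (.leaf 160)) (.node (.leaf 400) (.leaf 824))) (.node (.node (.leaf 280) (.leaf 398)) (.leaf 309)))) (.node (.node (.node (.node (.leaf 242) (.leaf 354)) (.node (.leaf 656) (.leaf 175))) (.node (.node (.leaf 805) (.leaf 680)) (.leaf 465))) (.node (.node (.node (.leaf 348) (.leaf 771)) (.node (.leaf 191) (.leaf 568))) (.node (.node (.leaf 318) (.leaf 372)) (.leaf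 54))))) (.node (.node (.node (.node (.node (.leaf 204) (.leaf 482)) (.node (.leaf 784) (.leaf 267))) (.node (.node (.leaf 660) (.leaf 387)) (.leaf 593))) (.node (.node (.node (.leaf 476) (.leaf 49)) (.node (.leaf 715) (.leaf 696))) (.node (.node (.leaf 166) (.leaf 117)) (.leaf 181)))) (.node (.node (.node (.node (.leaf 732) (.leaf 305)) (.node (.leaf 528) (.leaf 40))) (.node (.node (.leaf 689) (.leaf 176)) (.leaf 337))) (.node (.node (.node (.leaf 653) (.leaf 643)) (.node (.leaf 655) (.leaf 440))) (.node (.node (.leaf 192) (.leaf 480)) (.leaf 738)))))) (.node (.node (.node (.node (.node (.node (.leaf 294) (.leaf 546)) (.node (.leaf 848) (.leaf 245))) (.node (.node (.leaf 204) (.leaf 451)) (.leaf 657))) (.node (.node (.node (.leaf 668) (.leaf 114)) (.node (.leaf 890) (.leaf 632))) (.node (.node (.leaf 274) (.leaf 828)) (.leaf 248)))) (.node (.node (.node (.node (.leaf 9) (.leaf 859)) (.node (.leaf 592) (.leaf 101))) (.node (.node (.leaf 753) (.leaf 884)) (.leaf 401))) (.node (.node (.node (.leaf 412)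 (.leaf 707)) (.node (.leaf 447) (.leaf 376))) (.node (.node (.leaf 254) (.leaf 34)) (.leaf 802))))) (.node (.node (.node (.node (.node (.leaf 140) (.leaf 418)) (.node (.leaf 720) (.leaf 229))) (.node (.node (.leaf 479) (.leaf 864)) (.leaf 529))) (.node (.node (.node (.leaf 540) (.leaf 835)) (.node (.leaf 843) (.leaf 504))) (.node (.node (.leaf 131) (.leaf 255)) (.leaf 122)))) (.node (.node (.node (.node (.leaf 796) (.leaf 242)) (.node (.leaf 464) (.leaf 760))) (.node (.node (.leaf 605) (.leaf 880)) (.leaf 99))) (.node (.node (.node (.leaf 840) (.leaf 579)) (.node (.leaf 785) (.leaf 865))) (.node (.node (.leaf 128) (.leaf 416)) (.leaf 674))))))) (.node (.node (.node (.node (.node (.node (.node (.leaf 300) (.leaf 642)) (.node (.leaf 32) (.leaf 11))) (.node (.node (.leaf 413) (.leaf 483)) (.leaf 809))) (.node (.node (.node (.leaf 700) (.leaf 149)) (.node (.leaf 368) (.leaf 792))) (.node (.node (.leaf 266) (.leaf 410)) (.leaf 278)))) (.node (.node (.node (.node (.leaf 70) (.leaf 386)) (.node (.leaf 624)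 (.leaf 139))) (.node (.node (.leaf 765) (.leaf 509)) (.leaf 489))) (.node (.node (.node (.leaf 444) (.leaf 739)) (.node (.leaf 179) (.leaf 536))) (.node (.node (.leaf 287) (.leaf 666)) (.leaf 18))))) (.node (.node (.node (.node (.node (.leaf 174) (.leaf 514)) (.node (.leaf 752) (.leaf 95))) (.node (.node (.leaf 38) (.leaf 355)) (.leaf 617))) (.node (.node (.node (.leaf 572) (.leaf 18)) (.node (.leaf 527) (.leaf 664))) (.node (.node (.leaf 95) (.leaf 114)) (.leaf 190)))) (.node (.node (.node (.node (.leaf 828) (.leaf 273)) (.node (.leaf 496) (.leaf 35))) (.node (.node (.leaf 645) (.leaf 661)) (.leaf 425))) (.node (.node (.node (.leaf 546) (.leaf 611)) (.node (.leaf 479) (.leaf 408))) (.node (.node (.leaf 156) (.leaf 538)) (.leaf 770)))))) (.node (.node (.node (.node (.node (.node (.leaf 233) (.leaf 578)) (.node (.leaf 816) (.leaf 325))) (.node (.node (.leaf 103) (.leaf 419)) (.leaf 681))) (.node (.node (.node (.leaf 508) (.leaf 81)) (.node (.leaf 881) (.leaf 600))) (.node (.node (.leaf 127) (.leaf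 532)) (.leaf 218)))) (.node (.node (.node (.node (.leaf 764) (.leaf 0)) (.node (.leaf 560) (.leaf 43))) (.node (.node (.leaf 630) (.leaf 558)) (.leaf 361))) (.node (.node (.node (.leaf 868) (.leaf 675)) (.node (.leaf 862) (.leaf 344))) (.node (.node (.leaf 224) (.leaf 100)) (.leaf 834))))) (.node (.node (.node (.node (.node (.leaf 105) (.leaf 450)) (.node (.leaf 688) (.leaf 203))) (.node (.node (.leaf 758) (.leaf 679)) (.leaf 553))) (.node (.node (.node (.leaf 380) (.leaf 803)) (.node (.leaf 359) (.leaf 472))) (.node (.node (.leaf 117) (.leaf 151)) (.leaf 85)))) (.node (.node (.node (.node (.leaf 636) (.leaf 210)) (.node (.leaf 432) (.leaf 728))) (.node (.node (.leaf 290) (.leaf 482)) (.leaf 227))) (.node (.node (.node (.leaf 231) (.leaf 547)) (.leaf 745)) (.node (.node (.leaf 96) (.leaf 412)) (.leaf 706)))))))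

/-- Part of `succT`. -/
def succT_p11101 : Tr := .node (.node (.node (.node (.node (.node (.node (.node (.leaf 314) (.leaf 594)) (.node (.leaf 47) (.leaf 364))) (.node (.node (.leaf 459) (.leaf 499)) (.leaf 377))) (.node (.node (.node (.leaf 716) (.leaf 163)) (.node (.leaf 384) (.leaf 808))) (.node (.node (.leaf 501) (.leaf 849)) (.leaf 293)))) (.node (.node (.node (.node (.leaf 57) (.leaf 338)) (.node (.leaf 640) (.leaf 149))) (.node (.node (.leaf 185) (.leaf 533)) (.leaf 569))) (.node (.node (.node (.leaf 460) (.leaf 755)) (.node (.leaf 780) (.leaf 552))) (.node (.node (.leaf 303) (.leaf 48)) (.leaf 37))))) (.node (.node (.node (.node (.node (.leaf 190) (.leaf 466)) (.node (.leaf 768) (.leaf 283))) (.node (.node (.leaf 687) (.leaf 371)) (.leaf 697))) (.node (.node (.node (.leaf 588) (.leaf 33)) (.node (.leaf 890) (.leaf 680))) (.node (.node (.leaf 775) (.leaf 603)) (.leaf 162)))) (.node (.node (.node (.node (.leaf 844) (.leaf 291)) (.node (.leaf 512) (.leaf 21))) (.node (.node (.leaf 326) (.leaf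 750)) (.leaf 761))) (.node (.node (.node (.leaf 705) (.leaf 627)) (.node (.leaf 603) (.leaf 424))) (.node (.node (.leaf 161) (.leaf 20)) (.leaf 722)))))) (.node (.node (.node (.node (.node (.node (.leaf 82) (.leaf 530)) (.node (.leaf 832) (.leaf 311))) (.node (.node (.leaf 121) (.leaf 435)) (.leaf 633))) (.node (.node (.node (.leaf 524) (.leaf 98)) (.node (.leaf 865) (.leaf 616))) (.node (.node (.leaf 839) (.leaf 242)) (.leaf 107)))) (.node (.node (.node (.node (.leaf 780) (.leaf 864)) (.node (.leaf 576) (.leaf 250))) (.node (.node (.leaf 317) (.leaf 421)) (.leaf 825))) (.node (.node (.node (.leaf 884) (.leaf 691)) (.node (.leaf 368) (.leaf 360))) (.node (.node (.leaf 240) (.leaf 411)) (.leaf 786))))) (.node (.node (.node (.node (.node (.leaf 122) (.leaf 402)) (.node (.leaf 704) (.leaf 219))) (.node (.node (.leaf 237) (.leaf 859)) (.leaf 505))) (.node (.node (.node (.leaf 396) (.leaf 819)) (.node (.leaf 376) (.leaf 488))) (.node (.node (.leaf 120) (.leaf 420)) (.leaf 235)))) (.node (.node (.node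 (.node (.leaf 652) (.leaf 226)) (.node (.leaf 448) (.leaf 744))) (.node (.node (.leaf 589) (.leaf 869)) (.leaf 80))) (.node (.node (.node (.leaf 842) (.leaf 563)) (.node (.leaf 441) (.leaf 849))) (.node (.node (.leaf 112) (.leaf 71)) (.leaf 658))))))) (.node (.node (.node (.node (.node (.node (.node (.leaf 281) (.leaf 626)) (.node (.leaf 15) (.leaf 61))) (.node (.node (.leaf 363) (.leaf 467)) (.leaf 345))) (.node (.node (.node (.leaf 684) (.leaf 131)) (.node (.leaf 352) (.leaf 648))) (.node (.node (.leaf 513) (.leaf 183)) (.leaf 242)))) (.node (.node (.node (.node (.leaf 25) (.leaf 370)) (.node (.leaf 608) (.leaf 123))) (.node (.node (.leaf 80) (.leaf 551)) (.leaf 473))) (.node (.node (.node (.leaf 428) (.leaf 723)) (.node (.leaf 452) (.leaf 392))) (.node (.node (.leaf 271) (.leaf 443)) (.leaf 6))))) (.node (.node (.node (.node (.node (.leaf 178) (.leaf 498)) (.node (.leaf 736) (.leaf 79))) (.node (.node (.leaf 583) (.leaf 339)) (.leaf 601))) (.node (.node (.node (.leaf 556) (.leaf 3)) (.node (.leaf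 475) (.leaf 520))) (.node (.node (.leaf 743) (.leaf 688)) (.leaf 138)))) (.node (.node (.node (.node (.leaf 812) (.leaf 245)) (.node (.leaf 480) (.leaf 776))) (.node (.node (.leaf 304) (.leaf 472)) (.leaf 729))) (.node (.node (.node (.leaf 585) (.leaf 595)) (.node (.leaf 496) (.leaf 858))) (.node (.node (.leaf 143) (.leaf 3)) (.leaf 754)))))) (.node (.node (.node (.node (.node (.node (.leaf 218) (.leaf 562)) (.node (.leaf 800) (.leaf 311))) (.node (.node (.leaf 252) (.leaf 403)) (.leaf 665))) (.node (.node (.node (.leaf 492) (.leaf 67)) (.node (.leaf 676) (.leaf 712))) (.node (.node (.leaf 764) (.leaf 405)) (.leaf 202)))) (.node (.node (.node (.node (.leaf 748) (.leaf 321)) (.node (.leaf 544) (.leaf 59))) (.node (.node (.leaf 310) (.leaf 374)) (.leaf 793))) (.node (.node (.node (.leaf 852) (.leaf 659)) (.node (.leaf 367) (.leaf 456))) (.node (.node (.leaf 207) (.leaf 197)) (.leaf 818))))) (.node (.node (.node (.node (.node (.leaf 247) (.leaf 434)) (.node (.leaf 672) (.leaf 181))) (.node (.node (.leaf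 158) (.leaf 740)) (.leaf 537))) (.node (.node (.node (.leaf 364) (.leaf 787)) (.node (.leaf 412) (.leaf 584))) (.node (.node (.leaf 336) (.leaf 53)) (.leaf 69)))) (.node (.node (.node (.node (.leaf 620) (.leaf 195)) (.node (.leaf 416) (.leaf 840))) (.node (.node (.leaf 486) (.leaf 450)) (.leaf 306))) (.node (.node (.node (.leaf 217) (.leaf 531)) (.leaf 409)) (.node (.node (.leaf 78) (.leaf 458)) (.leaf 690)))))))

/-- Part of `succT`. -/
def succT_p11110 : Tr := .node (.node (.node (.node (.node (.node (.node (.node (.leaf 321) (.leaf 602)) (.node (.leaf 60) (.leaf 636))) (.node (.node (.leaf 391) (.leaf 507)) (.leaf 385))) (.node (.node (.node (.leaf 596) (.leaf 171)) (.node (.leaf 392) (.leaf 816))) (.node (.node (.leaf 268) (.leaf 459)) (.leaf 302)))) (.node (.node (.node (.node (.leaf 66) (.leaf 346)) (.node (.leaf 648) (.leaf 157))) (.node (.node (.leaf 773) (.leaf 829)) (.leaf 513))) (.node (.node (.node (.leaf 340) (.leaf 763)) (.node (.leaf 863) (.leaf 560))) (.node (.node (.leaf 311) (.leaf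 142)) (.leaf 66))))) (.node (.node (.node (.node (.node (.leaf 194) (.leaf 474)) (.node (.leaf 776) (.leaf 285))) (.node (.node (.leaf 643) (.leaf 379)) (.leaf 641))) (.node (.node (.node (.leaf 468) (.leaf 41)) (.node (.leaf 624) (.leaf 688))) (.node (.node (.leaf 94) (.leaf 728)) (.leaf 170)))) (.node (.node (.node (.node (.leaf 724) (.leaf 299)) (.node (.leaf 520) (.leaf 29))) (.node (.node (.leaf 637) (.leaf 168)) (.leaf 769))) (.node (.node (.node (.leaf 693) (.leaf 635)) (.node (.leaf 640) (.leaf 432))) (.node (.node (.leaf 180) (.leaf 120)) (.leaf 730)))))) (.node (.node (.node (.node (.node (.node (.leaf 79) (.leaf 538)) (.node (.leaf 840) (.leaf 89))) (.node (.node (.leaf 445) (.leaf 443)) (.leaf 705))) (.node (.node (.node (.leaf 660) (.leaf 105)) (.node (.leaf 882) (.leaf 624))) (.node (.node (.leaf 221) (.leaf 329)) (.leaf 110)))) (.node (.node (.node (.node (.leaf 4) (.leaf 872)) (.node (.leaf 584) (.leaf 263))) (.node (.node (.leaf 654) (.leaf 576)) (.leaf 833))) (.node (.node (.node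 (.leaf 404) (.leaf 699)) (.node (.leaf 443) (.leaf 368))) (.node (.node (.leaf 246) (.leaf 564)) (.leaf 794))))) (.node (.node (.node (.node (.node (.leaf 130) (.leaf 410)) (.node (.leaf 712) (.leaf 224))) (.node (.node (.leaf 782) (.leaf 872)) (.leaf 577))) (.node (.node (.node (.leaf 532) (.leaf 827)) (.node (.leaf 815) (.leaf 496))) (.node (.node (.leaf 233) (.leaf 664)) (.leaf 238)))) (.node (.node (.node (.node (.leaf 788) (.leaf 233)) (.node (.leaf 456) (.leaf 752))) (.node (.node (.leaf 289) (.leaf 540)) (.leaf 246))) (.node (.node (.node (.leaf 254) (.leaf 571)) (.node (.leaf 449) (.leaf 882))) (.node (.node (.leaf 119) (.leaf 253)) (.leaf 666))))))) (.node (.node (.node (.node (.node (.node (.node (.leaf 290) (.leaf 634)) (.node (.leaf 22) (.leaf 402))) (.node (.node (.leaf 833) (.leaf 475)) (.leaf 353))) (.node (.node (.node (.leaf 692) (.leaf 137)) (.node (.leaf 360) (.leaf 656))) (.node (.node (.leaf 286) (.leaf 432)) (.leaf 290)))) (.node (.node (.node (.node (.leaf 6) (.leaf 378)) (.node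 (.leaf 616) (.leaf 128))) (.node (.node (.leaf 777) (.leaf 888)) (.leaf 545))) (.node (.node (.node (.leaf 436) (.leaf 731)) (.node (.leaf 151) (.leaf 400))) (.node (.node (.leaf 284) (.leaf 307)) (.leaf 13))))) (.node (.node (.node (.node (.node (.leaf 166) (.leaf 506)) (.node (.leaf 744) (.leaf 82))) (.node (.node (.leaf 511) (.leaf 347)) (.leaf 673))) (.node (.node (.node (.leaf 564) (.leaf 9)) (.node (.leaf 512) (.leaf 528))) (.node (.node (.leaf 195) (.leaf 786)) (.leaf 144)))) (.node (.node (.node (.node (.leaf 820) (.leaf 265)) (.node (.leaf 488) (.leaf 784))) (.node (.node (.leaf 613) (.leaf 805)) (.leaf 737))) (.node (.node (.node (.leaf 521) (.leaf 603)) (.node (.leaf 523) (.leaf 889))) (.node (.node (.leaf 152) (.leaf 113)) (.leaf 762)))))) (.node (.node (.node (.node (.node (.node (.leaf 225) (.leaf 570)) (.node (.leaf 808) (.leaf 317))) (.node (.node (.leaf 389) (.leaf 411)) (.leaf 609))) (.node (.node (.node (.leaf 500) (.leaf 74)) (.node (.leaf 850) (.leaf 720))) (.node (.node (.leaf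 167) (.leaf 98)) (.leaf 208)))) (.node (.node (.node (.node (.leaf 756) (.leaf 329)) (.node (.leaf 552) (.leaf 61))) (.node (.node (.leaf 713) (.leaf 495)) (.leaf 801))) (.node (.node (.node (.leaf 860) (.leaf 667)) (.node (.leaf 779) (.leaf 464))) (.node (.node (.leaf 215) (.leaf 796)) (.leaf 826))))) (.node (.node (.node (.node (.node (.leaf 97) (.leaf 442)) (.node (.leaf 680) (.leaf 189))) (.node (.node (.leaf 797) (.leaf 875)) (.leaf 481))) (.node (.node (.node (.leaf 372) (.leaf 795)) (.node (.leaf 803) (.leaf 592))) (.node (.node (.leaf 101) (.leaf 660)) (.leaf 80)))) (.node (.node (.node (.node (.leaf 628) (.leaf 201)) (.node (.leaf 424) (.leaf 848))) (.node (.node (.leaf 277) (.leaf 656)) (.leaf 333))) (.node (.node (.node (.leaf 847) (.leaf 539)) (.leaf 417)) (.node (.node (.leaf 86) (.leaf 152)) (.leaf 698)))))))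

/-- Part of `succT`. -/
def succT_p11111 : Tr := .node (.node (.node (.node (.node (.node (.node (.node (.leaf 305) (.leaf 650)) (.node (.leaf 40) (.leaf 45))) (.node (.node (.leaf 736) (.leaf 491)) (.leaf 817))) (.node (.node (.node (.leaf 708) (.leaf 184)) (.node (.leaf 376) (.leaf 800))) (.node (.node (.leaf 525) (.leaf 554)) (.leaf 285)))) (.node (.node (.node (.node (.leaf 49) (.leaf 394)) (.node (.leaf 632) (.leaf 131))) (.node (.node (.leaf 186) (.leaf 853)) (.leaf 497))) (.node (.node (.node (.leaf 452) (.leaf 747)) (.node (.leaf 340) (.leaf 544))) (.node (.node (.leaf 296) (.leaf 612)) (.leaf 10))))) (.node (.node (.node (.node (.node (.leaf 154) (.leaf 522)) (.node (.leaf 760) (.leaf 269))) (.node (.node (.leaf 667) (.leaf 363)) (.leaf 625))) (.node (.node (.node (.leaf 580) (.leaf 25)) (.node (.leaf 500) (.leaf 672))) (.node (.node (.leaf 767) (.leaf 314)) (.leaf 157)))) (.node (.node (.node (.node (.leaf 836) (.leaf 281)) (.node (.leaf 504) (.leaf 15))) (.node (.node (.leaf 325) (.leaf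 338)) (.leaf 433))) (.node (.node (.node (.leaf 633) (.leaf 619)) (.node (.leaf 548) (.leaf 416))) (.node (.node (.leaf 169) (.leaf 339)) (.leaf 778)))))) (.node (.node (.node (.node (.node (.node (.leaf 74) (.leaf 586)) (.node (.leaf 824) (.leaf 336))) (.node (.node (.leaf 801) (.leaf 427)) (.leaf 689))) (.node (.node (.node (.leaf 516) (.leaf 77)) (.node (.leaf 866) (.leaf 608))) (.node (.node (.leaf 831) (.leaf 659)) (.leaf 210)))) (.node (.node (.node (.node (.leaf 772) (.leaf 856)) (.node (.leaf 568) (.leaf 247))) (.node (.node (.leaf 318) (.leaf 681)) (.leaf 369))) (.node (.node (.node (.leaf 876) (.leaf 683)) (.node (.leaf 100) (.leaf 352))) (.node (.node (.leaf 231) (.leaf 244)) (.leaf 842))))) (.node (.node (.node (.node (.node (.leaf 116) (.leaf 458)) (.node (.leaf 696) (.leaf 195))) (.node (.node (.leaf 227) (.leaf 851)) (.leaf 561))) (.node (.node (.node (.leaf 388) (.leaf 811)) (.node (.leaf 228) (.leaf 480))) (.node (.node (.leaf 335) (.leaf 69)) (.leaf 74)))) (.node (.node (.node (.node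 (.leaf 644) (.leaf 218)) (.node (.leaf 440) (.leaf 736))) (.node (.node (.leaf 565) (.leaf 749)) (.leaf 78))) (.node (.node (.node (.leaf 774) (.leaf 555)) (.leaf 753)) (.node (.node (.leaf 103) (.leaf 684)) (.leaf 714))))))) (.node (.node (.node (.node (.node (.node (.node (.leaf 273) (.leaf 554)) (.node (.leaf 7) (.leaf 861))) (.node (.node (.leaf 450) (.leaf 459)) (.leaf 777))) (.node (.node (.node (.leaf 676) (.leaf 122)) (.node (.leaf 344) (.leaf 640))) (.node (.node (.leaf 505) (.leaf 691)) (.leaf 253)))) (.node (.node (.node (.node (.leaf 18) (.leaf 888)) (.node (.leaf 600) (.leaf 111))) (.node (.node (.leaf 79) (.leaf 548)) (.leaf 521))) (.node (.node (.node (.leaf 420) (.leaf 715)) (.node (.leaf 387) (.leaf 384))) (.node (.node (.leaf 264) (.leaf 177)) (.leaf 810))))) (.node (.node (.node (.node (.node (.leaf 150) (.leaf 426)) (.node (.leaf 728) (.leaf 239))) (.node (.node (.leaf 516) (.leaf 856)) (.leaf 649))) (.node (.node (.node (.leaf 548) (.leaf 843)) (.node (.leaf 878) (.leaf 512)))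 (.node (.node (.leaf 735) (.leaf 299)) (.leaf 114)))) (.node (.node (.node (.node (.leaf 804) (.leaf 249)) (.node (.leaf 472) (.leaf 768))) (.node (.node (.leaf 301) (.leaf 794)) (.leaf 393))) (.node (.node (.node (.leaf 553) (.leaf 587)) (.node (.leaf 868) (.leaf 873))) (.node (.node (.leaf 135) (.leaf 424)) (.leaf 682)))))) (.node (.node (.node (.node (.node (.node (.leaf 212) (.leaf 490)) (.node (.leaf 792) (.leaf 331))) (.node (.node (.leaf 761) (.leaf 395)) (.leaf 713))) (.node (.node (.node (.leaf 484) (.leaf 57)) (.node (.leaf 607) (.leaf 704))) (.node (.node (.leaf 772) (.leaf 134)) (.leaf 150)))) (.node (.node (.node (.node (.leaf 740) (.leaf 314)) (.node (.leaf 536) (.leaf 45))) (.node (.node (.leaf 324) (.leaf 671)) (.leaf 457))) (.node (.node (.node (.leaf 334) (.leaf 651)) (.node (.leaf 692) (.leaf 448))) (.node (.node (.leaf 199) (.leaf 669)) (.leaf 746))))) (.node (.node (.node (.node (.node (.leaf 250) (.leaf 362)) (.node (.leaf 664) (.leaf 167))) (.node (.node (.leaf 154) (.leaf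 658)) (.leaf 585))) (.node (.node (.node (.leaf 356) (.leaf 779)) (.node (.leaf 411) (.leaf 576))) (.node (.node (.leaf 328) (.leaf 706)) (.leaf 61)))) (.node (.node (.node (.node (.leaf 612) (.leaf 189)) (.node (.leaf 408) (.leaf 832))) (.node (.node (.leaf 478) (.leaf 882)) (.leaf 314))) (.node (.node (.node (.leaf 442) (.leaf 523)) (.leaf 841)) (.node (.node (.leaf 72) (.leaf 59)) (.leaf 618)))))))

/-- The images, generator-major. -/
def succT : Tr := .node (.node (.node (.node (.node (succT_p00000) (succT_p00001)) (.node (succT_p00010) (succT_p00011))) (.node (.node (succT_p00100) (succT_p00101)) (.node (succT_p00110) (succT_p00111)))) (.node (.node (.node (succT_p01000) (succT_p01001)) (.node (succT_p01010) (succT_p01011))) (.node (.node (succT_p01100) (succT_p01101)) (.node (succT_p01110) (succT_p01111))))) (.node (.node (.node (.node (succT_p10000) (succT_p10001)) (.node (succT_p10010) (succT_p10011))) (.node (.node (succT_p10100) (succT_p10101)) (.node (succT_p10110) (succT_p10111)))) (.node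 (.node (.node (succT_p11000) (succT_p11001)) (.node (succT_p11010) (succT_p11011))) (.node (.node (succT_p11100) (succT_p11101)) (.node (succT_p11110) (succT_p11111)))))

/-- Part of `ordT`. -/
def ordT_p00 : Tr := .node (.node (.node (.node (.node (.node (.node (.node (.leaf 1280) (.leaf 444)) (.leaf 285)) (.node (.node (.leaf 1397) (.leaf 1055)) (.leaf 1917))) (.node (.node (.node (.leaf 313) (.leaf 1290)) (.leaf 1570)) (.node (.leaf 1399) (.leaf 1252)))) (.node (.node (.node (.node (.leaf 1910) (.leaf 102)) (.leaf 1046)) (.node (.node (.leaf 1666) (.leaf 1225)) (.leaf 1454))) (.node (.node (.node (.leaf 1841) (.leaf 1711)) (.leaf 310)) (.node (.leaf 1088) (.leaf 294))))) (.node (.node (.node (.node (.node (.leaf 1781) (.leaf 1662)) (.leaf 1709)) (.node (.node (.leaf 1369) (.leaf 1792)) (.leaf 1534))) (.node (.node (.node (.leaf 1081) (.leaf 1056)) (.leaf 123)) (.node (.leaf 492) (.leaf 2045)))) (.node (.node (.node (.node (.leaf 1661) (.leaf 1729)) (.leaf 434)) (.node (.node (.leaf 1108) (.leaf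 403)) (.leaf 1639))) (.node (.node (.node (.leaf 1158) (.leaf 395)) (.leaf 93)) (.node (.leaf 369) (.leaf 1852)))))) (.node (.node (.node (.node (.node (.node (.leaf 260) (.leaf 1801)) (.leaf 1470)) (.node (.node (.leaf 435) (.leaf 288)) (.leaf 1751))) (.node (.node (.node (.leaf 393) (.leaf 1502)) (.leaf 1996)) (.node (.leaf 404) (.leaf 1244)))) (.node (.node (.node (.node (.leaf 1626) (.leaf 1026)) (.leaf 2023)) (.node (.node (.leaf 1446) (.leaf 1304)) (.leaf 1204))) (.node (.node (.node (.leaf 355) (.leaf 504)) (.leaf 1569)) (.node (.leaf 1827) (.leaf 1391))))) (.node (.node (.node (.node (.node (.leaf 1844) (.leaf 1622)) (.leaf 1226)) (.node (.node (.leaf 293) (.leaf 66)) (.leaf 2042))) (.node (.node (.node (.leaf 1897) (.leaf 1646)) (.leaf 17)) (.node (.leaf 112) (.leaf 1510)))) (.node (.node (.node (.node (.leaf 1382) (.leaf 1550)) (.leaf 1643)) (.node (.leaf 1668) (.leaf 1383))) (.node (.node (.node (.leaf 1797) (.leaf 2000)) (.leaf 2007)) (.node (.leaf 2026) (.leaf 1229))))))) (.node (.node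 (.node (.node (.node (.node (.node (.leaf 497) (.leaf 1531)) (.leaf 1410)) (.node (.node (.leaf 118) (.leaf 1878)) (.leaf 1732))) (.node (.node (.node (.leaf 1356) (.leaf 372)) (.leaf 1771)) (.node (.leaf 1286) (.leaf 508)))) (.node (.node (.node (.node (.leaf 2027) (.leaf 1083)) (.leaf 1987)) (.node (.node (.leaf 1694) (.leaf 1848)) (.leaf 314))) (.node (.node (.node (.leaf 1293) (.leaf 1790)) (.leaf 1803)) (.node (.leaf 1571) (.leaf 1731))))) (.node (.node (.node (.node (.node (.leaf 1754) (.leaf 467)) (.leaf 1809)) (.node (.node (.leaf 65) (.leaf 1451)) (.leaf 1389))) (.node (.node (.node (.leaf 390) (.leaf 28)) (.leaf 1407)) (.node (.leaf 1657) (.leaf 462)))) (.node (.node (.node (.node (.leaf 1159) (.leaf 1958)) (.leaf 1585)) (.node (.node (.leaf 1888) (.leaf 1171)) (.leaf 1893))) (.node (.node (.node (.leaf 1726) (.leaf 1420)) (.leaf 1932)) (.node (.leaf 420) (.leaf 1879)))))) (.node (.node (.node (.node (.node (.node (.leaf 1028) (.leaf 1886)) (.leaf 1381)) (.node (.node (.leaf 1843) (.leaf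 1564)) (.leaf 1782))) (.node (.node (.node (.leaf 317) (.leaf 2025)) (.leaf 1494)) (.node (.leaf 1647) (.leaf 448)))) (.node (.node (.node (.node (.leaf 1148) (.leaf 117)) (.leaf 320)) (.node (.node (.leaf 1203) (.leaf 1580)) (.leaf 1832))) (.node (.node (.node (.leaf 1465) (.leaf 419)) (.leaf 1702)) (.node (.leaf 1974) (.leaf 106))))) (.node (.node (.node (.node (.node (.leaf 2037) (.leaf 268)) (.leaf 1690)) (.node (.node (.leaf 1050) (.leaf 1455)) (.leaf 2046))) (.node (.node (.node (.leaf 1526) (.leaf 1551)) (.leaf 91)) (.node (.leaf 282) (.leaf 1791)))) (.node (.node (.node (.node (.leaf 5) (.leaf 1760)) (.leaf 2006)) (.node (.leaf 72) (.leaf 1063))) (.node (.node (.node (.leaf 1289) (.leaf 1985)) (.leaf 1629)) (.node (.leaf 1152) (.leaf 1881)))))))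

/-- Part of `ordT`. -/
def ordT_p01 : Tr := .node (.node (.node (.node (.node (.node (.node (.node (.leaf 304) (.leaf 1480)) (.leaf 1535)) (.node (.node (.leaf 1527) (.leaf 1186)) (.leaf 1623))) (.node (.node (.node (.leaf 1406) (.leaf 397)) (.leaf 337)) (.node (.leaf 1437) (.leaf 1065)))) (.node (.node (.node (.node (.leaf 1476) (.leaf 1439)) (.leaf 1260)) (.node (.node (.leaf 356) (.leaf 465)) (.leaf 1434))) (.node (.node (.node (.leaf 1637) (.leaf 1329)) (.leaf 428)) (.node (.leaf 1095) (.leaf 1051))))) (.node (.node (.node (.node (.node (.leaf 24) (.leaf 1192)) (.leaf 1067)) (.node (.node (.leaf 1398) (.leaf 1695)) (.leaf 19))) (.node (.node (.node (.leaf 1498) (.leaf 1828)) (.leaf 1504)) (.node (.leaf 277) (.leaf 1515)))) (.node (.node (.node (.node (.leaf 1786) (.leaf 1062)) (.leaf 488)) (.node (.node (.leaf 1071) (.leaf 1757)) (.leaf 286))) (.node (.node (.node (.leaf 440) (.leaf 1320)) (.leaf 295)) (.node (.leaf 1411) (.leaf 1412)))))) (.node (.node (.node (.node (.node (.node (.leaf 90)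 (.leaf 339)) (.leaf 105)) (.node (.node (.leaf 1887) (.leaf 1812)) (.leaf 309))) (.node (.node (.node (.leaf 1101) (.leaf 461)) (.leaf 412)) (.node (.leaf 1188) (.leaf 1952)))) (.node (.node (.node (.node (.leaf 1621) (.leaf 1986)) (.leaf 1376)) (.node (.node (.leaf 1555) (.leaf 272)) (.leaf 1689))) (.node (.node (.node (.leaf 1336) (.leaf 1658)) (.leaf 1736)) (.node (.leaf 95) (.leaf 1054))))) (.node (.node (.node (.node (.node (.leaf 18) (.leaf 1959)) (.leaf 1942)) (.node (.node (.leaf 1717) (.leaf 2041)) (.leaf 259))) (.node (.node (.node (.leaf 1461) (.leaf 1703)) (.leaf 1433)) (.node (.leaf 1429) (.leaf 111)))) (.node (.node (.node (.node (.leaf 333) (.leaf 1919)) (.leaf 1298)) (.node (.leaf 1859) (.leaf 7))) (.node (.node (.node (.leaf 402) (.leaf 1923)) (.leaf 1587)) (.node (.leaf 483) (.leaf 1799))))))) (.node (.node (.node (.node (.node (.node (.node (.leaf 1265) (.leaf 1988)) (.leaf 1330)) (.node (.node (.leaf 1842) (.leaf 2005)) (.leaf 301))) (.node (.node (.node (.leaf 1836) (.leaf 1687))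 (.leaf 278)) (.node (.leaf 398) (.leaf 499)))) (.node (.node (.node (.node (.leaf 1447) (.leaf 1450)) (.leaf 335)) (.node (.node (.leaf 76) (.leaf 1914)) (.leaf 1324))) (.node (.node (.node (.leaf 1977) (.leaf 1983)) (.leaf 1612)) (.node (.leaf 1913) (.leaf 2013))))) (.node (.node (.node (.node (.node (.leaf 1975) (.leaf 80)) (.leaf 364)) (.node (.node (.leaf 1313) (.leaf 1106)) (.leaf 1503))) (.node (.node (.node (.leaf 1208) (.leaf 1530)) (.leaf 127)) (.node (.leaf 1331) (.leaf 484)))) (.node (.node (.node (.node (.leaf 1402) (.leaf 1547)) (.leaf 1686)) (.node (.leaf 353) (.leaf 1759))) (.node (.node (.node (.leaf 1162) (.leaf 302)) (.leaf 1086)) (.node (.leaf 1941) (.leaf 1102)))))) (.node (.node (.node (.node (.node (.node (.leaf 257) (.leaf 1789)) (.leaf 1295)) (.node (.node (.leaf 1744) (.leaf 1513)) (.leaf 1517))) (.node (.node (.node (.leaf 1373) (.leaf 1710)) (.leaf 1750)) (.node (.leaf 417) (.leaf 1625)))) (.node (.node (.node (.node (.leaf 1520) (.leaf 482)) (.leaf 2030)) (.node (.node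 (.leaf 1701) (.leaf 1667)) (.leaf 1659))) (.node (.node (.node (.leaf 103) (.leaf 1140)) (.leaf 1648)) (.node (.leaf 1766) (.leaf 376))))) (.node (.node (.node (.node (.node (.leaf 1493) (.leaf 1718)) (.leaf 1375)) (.node (.node (.leaf 1680) (.leaf 1032)) (.leaf 1475))) (.node (.node (.node (.leaf 125) (.leaf 1572)) (.leaf 463)) (.node (.leaf 384) (.leaf 1776)))) (.node (.node (.node (.node (.leaf 1085) (.leaf 1122)) (.leaf 299)) (.node (.leaf 67) (.leaf 1705))) (.node (.node (.node (.leaf 1123) (.leaf 1947)) (.leaf 348)) (.node (.leaf 1665) (.leaf 1978)))))))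

/-- Part of `ordT`. -/
def ordT_p10 : Tr := .node (.node (.node (.node (.node (.node (.node (.node (.leaf 1072) (.leaf 1918)) (.leaf 1285)) (.node (.node (.leaf 1467) (.leaf 1685)) (.leaf 1740))) (.node (.node (.node (.leaf 1533) (.leaf 399)) (.leaf 1222)) (.node (.leaf 1314) (.leaf 1543)))) (.node (.node (.node (.node (.leaf 380) (.leaf 1501)) (.leaf 459)) (.node (.node (.leaf 1868) (.leaf 1370)) (.leaf 1201))) (.node (.node (.node (.leaf 1546) (.leaf 1602)) (.leaf 1883)) (.node (.leaf 1904) (.leaf 1027))))) (.node (.node (.node (.node (.node (.leaf 1560) (.leaf 1627)) (.leaf 468)) (.node (.node (.leaf 1462) (.leaf 1943)) (.leaf 331))) (.node (.node (.node (.leaf 1471) (.leaf 1093)) (.leaf 1297)) (.node (.leaf 1251) (.leaf 1430)))) (.node (.node (.node (.node (.leaf 1509) (.leaf 1235)) (.leaf 1811)) (.node (.node (.leaf 1968) (.leaf 94)) (.leaf 1885))) (.node (.node (.node (.leaf 1094) (.leaf 107)) (.leaf 1234)) (.node (.leaf 1172) (.leaf 1911)))))) (.node (.node (.node (.node (.node (.node (.leaf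 1025) (.leaf 1806)) (.leaf 1495)) (.node (.node (.leaf 1915) (.leaf 1820)) (.leaf 2011))) (.node (.node (.node (.leaf 371) (.leaf 1308)) (.leaf 1256)) (.node (.leaf 1825) (.leaf 1066)))) (.node (.node (.node (.node (.leaf 1719) (.leaf 2038)) (.leaf 327)) (.node (.node (.leaf 1079) (.leaf 1769)) (.leaf 1805))) (.node (.node (.node (.leaf 1525) (.leaf 1630)) (.leaf 1601)) (.node (.leaf 1053) (.leaf 1371))))) (.node (.node (.node (.node (.node (.leaf 500) (.leaf 1961)) (.leaf 1924)) (.node (.node (.leaf 1712) (.leaf 1497)) (.leaf 1966))) (.node (.node (.node (.leaf 1541) (.leaf 424)) (.leaf 1518)) (.node (.leaf 1424) (.leaf 1474)))) (.node (.node (.node (.node (.leaf 1139) (.leaf 287)) (.leaf 458)) (.node (.leaf 408) (.leaf 1390))) (.node (.node (.node (.leaf 1946) (.leaf 325)) (.leaf 1945)) (.node (.leaf 1604) (.leaf 297))))))) (.node (.node (.node (.node (.node (.node (.node (.leaf 453) (.leaf 1950)) (.leaf 1466)) (.node (.node (.leaf 1416) (.leaf 354)) (.leaf 318))) (.node (.node (.node (.leaf 1957)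 (.leaf 1894)) (.leaf 1921)) (.node (.leaf 1949) (.leaf 1963)))) (.node (.node (.node (.node (.leaf 1529) (.leaf 1608)) (.leaf 1730)) (.node (.node (.leaf 1864) (.leaf 1098)) (.leaf 1144))) (.node (.node (.node (.leaf 1170) (.leaf 1785)) (.leaf 1069)) (.node (.leaf 1169) (.leaf 1267))))) (.node (.node (.node (.node (.node (.leaf 1366) (.leaf 1951)) (.leaf 454)) (.node (.node (.leaf 101) (.leaf 1040)) (.leaf 2032))) (.node (.node (.node (.leaf 326) (.leaf 1374)) (.leaf 1514)) (.node (.leaf 119) (.leaf 1291)))) (.node (.node (.node (.node (.leaf 1161) (.leaf 1922)) (.leaf 1223)) (.node (.leaf 1903) (.leaf 2016))) (.node (.node (.node (.leaf 1807) (.leaf 498)) (.leaf 1645)) (.node (.leaf 319) (.leaf 1097)))))) (.node (.node (.node (.node (.node (.node (.leaf 1473) (.leaf 476)) (.leaf 85)) (.node (.node (.leaf 340) (.leaf 1592)) (.leaf 1484))) (.node (.node (.node (.leaf 1401) (.leaf 1696)) (.leaf 6)) (.node (.leaf 1315) (.leaf 1965)))) (.node (.node (.node (.node (.leaf 2031) (.leaf 1962)) (.leaf 96))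 (.node (.node (.leaf 1693) (.leaf 338)) (.leaf 389))) (.node (.node (.node (.leaf 110) (.leaf 1901)) (.leaf 433)) (.node (.leaf 311) (.leaf 1082))))) (.node (.node (.node (.node (.node (.leaf 1902) (.leaf 1749)) (.leaf 1360)) (.node (.node (.leaf 2015) (.leaf 1707)) (.leaf 1499))) (.node (.node (.node (.leaf 1347) (.leaf 1536)) (.leaf 1909)) (.node (.leaf 1770) (.leaf 1250)))) (.node (.node (.node (.node (.leaf 1365) (.leaf 1765)) (.leaf 1236)) (.node (.leaf 1453) (.leaf 1767))) (.node (.node (.node (.leaf 1176) (.leaf 1882)) (.leaf 2022)) (.node (.leaf 1810) (.leaf 1167)))))))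

/-- Part of `ordT`. -/
def ordT_p11 : Tr := .node (.node (.node (.node (.node (.node (.node (.node (.leaf 1221) (.leaf 126)) (.leaf 1981)) (.node (.node (.leaf 109) (.leaf 481)) (.leaf 1157))) (.node (.node (.node (.leaf 1431) (.leaf 1556)) (.leaf 472)) (.node (.leaf 1387) (.leaf 2043)))) (.node (.node (.node (.node (.leaf 1653) (.leaf 1230)) (.leaf 281)) (.node (.node (.leaf 401) (.leaf 1163)) (.leaf 1231))) (.node (.node (.node (.leaf 1469) (.leaf 1511)) (.leaf 436)) (.node (.leaf 1132) (.leaf 1787))))) (.node (.node (.node (.node (.node (.leaf 1268) (.leaf 1802)) (.leaf 1721)) (.node (.node (.leaf 68) (.leaf 264)) (.leaf 1299))) (.node (.node (.node (.leaf 1300) (.leaf 1272)) (.leaf 1392)) (.node (.leaf 1103) (.leaf 20)))) (.node (.node (.node (.node (.leaf 1588) (.leaf 1773)) (.leaf 360)) (.node (.node (.leaf 1061) (.leaf 457)) (.leaf 1545))) (.node (.node (.node (.leaf 370) (.leaf 1386)) (.leaf 1542)) (.node (.leaf 1586) (.leaf 1596)))))) (.node (.node (.node (.node (.node (.node (.leaf 1654)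 (.leaf 1872)) (.leaf 1345)) (.node (.node (.leaf 1346) (.leaf 1723)) (.leaf 1216))) (.node (.node (.node (.leaf 1706) (.leaf 1212)) (.leaf 1077)) (.node (.leaf 1087) (.leaf 1898)))) (.node (.node (.node (.node (.leaf 1691) (.leaf 1266)) (.leaf 1385)) (.node (.node (.leaf 1899) (.leaf 1642)) (.leaf 1116))) (.node (.node (.node (.leaf 1463) (.leaf 1603)) (.leaf 2014)) (.node (.leaf 1440) (.leaf 1722))))) (.node (.node (.node (.node (.node (.leaf 1973) (.leaf 1107)) (.leaf 2010)) (.node (.node (.leaf 1121) (.leaf 2021)) (.leaf 283))) (.node (.node (.node (.leaf 1340) (.leaf 1187)) (.leaf 1409)) (.node (.leaf 1655) (.leaf 1616)))) (.node (.node (.node (.node (.leaf 1877) (.leaf 1249)) (.leaf 1755)) (.node (.leaf 1676) (.leaf 1294))) (.node (.node (.node (.leaf 1758) (.leaf 2009)) (.leaf 1099)) (.node (.leaf 303) (.leaf 1936))))))) (.node (.node (.node (.node (.node (.node (.node (.leaf 2029) (.leaf 1047)) (.leaf 1456)) (.node (.node (.leaf 1725) (.leaf 330)) (.leaf 1992))) (.node (.node (.node (.leaf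 391) (.leaf 334)) (.leaf 1227)) (.node (.leaf 1137) (.leaf 1928)))) (.node (.node (.node (.node (.leaf 1316) (.leaf 344)) (.leaf 1826)) (.node (.node (.leaf 1438) (.leaf 1435)) (.leaf 1196))) (.node (.node (.node (.leaf 1124) (.leaf 1798)) (.leaf 1982)) (.node (.leaf 1128) (.leaf 298))))) (.node (.node (.node (.node (.node (.leaf 1967) (.leaf 2039)) (.leaf 1105)) (.node (.node (.leaf 1367) (.leaf 1816)) (.leaf 1488))) (.node (.node (.node (.leaf 1138) (.leaf 1632)) (.leaf 1783)) (.node (.leaf 1403) (.leaf 258)))) (.node (.node (.node (.node (.leaf 1519) (.leaf 1638)) (.leaf 1549)) (.node (.leaf 1775) (.leaf 329))) (.node (.node (.node (.leaf 1554) (.leaf 1233)) (.leaf 1049)) (.node (.leaf 1185) (.leaf 1727)))))) (.node (.node (.node (.node (.node (.node (.leaf 1753) (.leaf 1036)) (.leaf 1078)) (.node (.node (.leaf 1045) (.leaf 86)) (.leaf 87))) (.node (.node (.node (.leaf 1672) (.leaf 1070)) (.leaf 1202)) (.node (.leaf 1663) (.leaf 1276)))) (.node (.node (.node (.node (.leaf 1445) (.leaf 279)) (.leaf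 1240)) (.node (.node (.leaf 1553) (.leaf 1576)) (.leaf 1774))) (.node (.node (.node (.leaf 1287) (.leaf 1112)) (.leaf 121)) (.node (.leaf 1166) (.leaf 1165))))) (.node (.node (.node (.node (.node (.leaf 2047) (.leaf 1348)) (.leaf 466)) (.node (.node (.leaf 1449) (.leaf 1979)) (.leaf 89))) (.node (.node (.node (.leaf 394) (.leaf 418)) (.leaf 1352)) (.node (.leaf 1857) (.leaf 1631)))) (.node (.node (.node (.node (.leaf 1860) (.leaf 122)) (.leaf 1895)) (.node (.leaf 1405) (.leaf 1641))) (.node (.node (.node (.leaf 1332) (.leaf 1858)) (.leaf 455)) (.node (.leaf 1180) (.leaf 315)))))))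

/-- Isotropic lines in the order reached. -/
def ordT : Tr := .node (.node (ordT_p00) (ordT_p01)) (.node (ordT_p10) (ordT_p11))

/-- Part of `parT`. -/
def parT_p00 : Tr := .node (.node (.node (.node (.node (.node (.node (.node (.leaf 0) (.leaf 5289)) (.leaf 5038)) (.node (.node (.leaf 4239) (.leaf 4029)) (.leaf 3772))) (.node (.node (.node (.leaf 2808) (.leaf 2568)) (.leaf 3705)) (.node (.leaf 4981) (.leaf 3148)))) (.node (.node (.node (.node (.leaf 4867) (.leaf 4623)) (.leaf 5057)) (.node (.node (.leaf 794) (.leaf 5468)) (.leaf 5197))) (.node (.node (.node (.leaf 4215) (.leaf 4689)) (.leaf 271)) (.node (.leaf 1542) (.leaf 3873))))) (.node (.node (.node (.node (.node (.leaf 3472) (.leaf 3918)) (.leaf 890)) (.node (.node (.leaf 3555) (.leaf 4747)) (.leaf 3105))) (.node (.node (.node (.leaf 2820) (.leaf 4665)) (.leaf 2339)) (.node (.leaf 834) (.leaf 4554)))) (.node (.node (.node (.node (.leaf 2106) (.leaf 4635)) (.leaf 2998)) (.node (.node (.leaf 3581) (.leaf 5495)) (.leaf 1748))) (.node (.node (.node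 (.leaf 4920) (.leaf 4700)) (.leaf 2365)) (.node (.leaf 4328) (.leaf 4579)))))) (.node (.node (.node (.node (.node (.node (.leaf 3468) (.leaf 2525)) (.leaf 4350)) (.node (.node (.leaf 1471) (.leaf 4036)) (.leaf 3783))) (.node (.node (.node (.leaf 4199) (.leaf 1884)) (.leaf 249)) (.node (.leaf 3600) (.leaf 1078)))) (.node (.node (.node (.node (.leaf 3487) (.leaf 471)) (.leaf 212)) (.node (.node (.leaf 3575) (.leaf 2706)) (.leaf 3818))) (.node (.node (.node (.leaf 2835) (.leaf 3309)) (.leaf 969)) (.node (.leaf 3628) (.leaf 5264))))) (.node (.node (.node (.node (.node (.leaf 4862) (.leaf 4619)) (.leaf 5052)) (.node (.node (.leaf 1481) (.leaf 4768)) (.leaf 1034))) (.node (.node (.node (.leaf 4210) (.leaf 4677)) (.leaf 3037)) (.node (.leaf 1535) (.leaf 3174)))) (.node (.node (.node (.node (.leaf 4881) (.leaf 1869)) (.leaf 4391)) (.node (.leaf 2894) (.leaf 2446))) (.node (.node (.node (.leaf 3539) (.leaf 4020)) (.leaf 2370)) (.node (.leaf 5026) (.leaf 5279))))))) (.node (.node (.node (.node (.node (.node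 (.node (.leaf 3466) (.leaf 3214)) (.leaf 5040)) (.node (.node (.leaf 2162) (.leaf 4724)) (.leaf 3088))) (.node (.node (.node (.leaf 4197) (.leaf 2574)) (.leaf 5095)) (.node (.leaf 3598) (.leaf 5230)))) (.node (.node (.node (.node (.leaf 2099) (.leaf 3240)) (.leaf 5059)) (.node (.node (.leaf 3568) (.leaf 4780)) (.leaf 1736))) (.node (.node (.node (.leaf 2140) (.leaf 2614)) (.leaf 4430)) (.node (.leaf 2240) (.leaf 3875))))) (.node (.node (.node (.node (.node (.leaf 4860) (.leaf 2536)) (.leaf 3664)) (.node (.node (.leaf 4943) (.leaf 5447)) (.leaf 4494))) (.node (.node (.node (.leaf 4901) (.leaf 4672)) (.leaf 4419)) (.node (.leaf 837) (.leaf 1092)))) (.node (.node (.node (.node (.leaf 2108) (.leaf 2560)) (.leaf 3694)) (.node (.node (.leaf 2890) (.leaf 5520)) (.leaf 5216))) (.node (.node (.node (.leaf 4229) (.leaf 5401)) (.leaf 2367)) (.node (.leaf 3638) (.leaf 1811)))))) (.node (.node (.node (.node (.node (.node (.leaf 3470) (.leaf 4607)) (.leaf 3659)) (.node (.node (.leaf 4245) (.leaf 4738)) (.leaf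 5182))) (.node (.node (.node (.leaf 2124) (.leaf 5353)) (.leaf 5108)) (.node (.leaf 831) (.leaf 1780)))) (.node (.node (.node (.node (.leaf 4182) (.leaf 5324)) (.leaf 909)) (.node (.node (.leaf 1499) (.leaf 5487)) (.leaf 4513))) (.node (.node (.node (.leaf 4224) (.leaf 4697)) (.leaf 5132)) (.node (.leaf 861) (.leaf 4576))))) (.node (.node (.node (.node (.node (.leaf 3480) (.leaf 4621)) (.leaf 1590)) (.node (.node (.leaf 790) (.leaf 1307)) (.leaf 4501))) (.node (.node (.node (.leaf 3520) (.leaf 3295)) (.leaf 5118)) (.node (.leaf 845) (.leaf 3177)))) (.node (.node (.node (.node (.leaf 3499) (.leaf 3950)) (.leaf 931)) (.node (.leaf 4285) (.leaf 1755))) (.node (.node (.node (.leaf 2850) (.leaf 4025)) (.leaf 5146)) (.node (.leaf 1564) (.leaf 2514)))))))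

/-- Part of `parT`. -/
def parT_p01 : Tr := .node (.node (.node (.node (.node (.node (.node (.node (.leaf 1) (.leaf 1826)) (.leaf 5039)) (.node (.node (.leaf 3547) (.leaf 1258)) (.leaf 5160))) (.node (.node (.node (.leaf 4888) (.leaf 5344)) (.leaf 3708)) (.node (.leaf 4289) (.leaf 2456)))) (.node (.node (.node (.node (.leaf 4176) (.leaf 5318)) (.leaf 208)) (.node (.node (.leaf 103) (.leaf 4777)) (.leaf 5198))) (.node (.node (.node (.leaf 752) (.leaf 3999)) (.leaf 3044)) (.node (.leaf 2237) (.leaf 3874))))) (.node (.node (.node (.node (.node (.leaf 701) (.leaf 1148)) (.leaf 4355)) (.node (.node (.leaf 2170) (.leaf 4751)) (.leaf 1722))) (.node (.node (.node (.leaf 4207) (.leaf 4670)) (.leaf 1647)) (.node (.leaf 143) (.leaf 3169)))) (.node (.node (.node (.node (.leaf 4186) (.leaf 3944)) (.leaf 5079)) (.node (.node (.leaf 810) (.leaf 4131)) (.leaf 2442))) (.node (.node (.node (.leaf 4228) (.leaf 4701)) (.leaf 1673)) (.node (.leaf 865) (.leaf 1117)))))) (.node (.node (.node (.node (.node (.node (.leaf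 698) (.leaf 5299)) (.leaf 2965)) (.node (.node (.leaf 3551) (.leaf 2653)) (.leaf 331))) (.node (.node (.node (.leaf 4201) (.leaf 5350)) (.leaf 2333)) (.node (.leaf 3602) (.leaf 2465)))) (.node (.node (.node (.node (.leaf 4181) (.leaf 3936)) (.leaf 2292)) (.node (.node (.leaf 2191) (.leaf 4096)) (.leaf 3819))) (.node (.node (.node (.leaf 4916) (.leaf 4003)) (.leaf 281)) (.node (.leaf 3632) (.leaf 1803))))) (.node (.node (.node (.node (.node (.leaf 4171) (.leaf 4620)) (.leaf 5053)) (.node (.node (.leaf 4253) (.leaf 4770)) (.leaf 3115))) (.node (.node (.node (.leaf 4212) (.leaf 4679)) (.leaf 4424)) (.node (.leaf 4307) (.leaf 5255)))) (.node (.node (.node (.node (.leaf 4190) (.leaf 5334)) (.leaf 5085)) (.node (.leaf 2897) (.leaf 1754))) (.node (.node (.node (.leaf 1462) (.leaf 4716)) (.leaf 2373)) (.node (.leaf 5027) (.leaf 5283))))))) (.node (.node (.node (.node (.node (.node (.node (.leaf 3467) (.leaf 3217)) (.leaf 4348)) (.node (.node (.leaf 2163) (.leaf 4727)) (.leaf 2396))) (.node (.node (.node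 (.leaf 4891) (.leaf 3961)) (.leaf 5098)) (.node (.leaf 2906) (.leaf 5232)))) (.node (.node (.node (.node (.leaf 2793) (.leaf 2548)) (.leaf 1596)) (.node (.node (.leaf 4264) (.leaf 5475)) (.leaf 4509))) (.node (.node (.node (.leaf 2834) (.leaf 4001)) (.leaf 4431)) (.node (.leaf 3627) (.leaf 4569))))) (.node (.node (.node (.node (.node (.leaf 2783) (.leaf 1153)) (.leaf 893)) (.node (.node (.leaf 4251) (.leaf 4765)) (.leaf 3110))) (.node (.node (.node (.leaf 4209) (.leaf 2595)) (.leaf 3729)) (.node (.leaf 2224) (.leaf 1787)))) (.node (.node (.node (.node (.leaf 1416) (.leaf 1175)) (.leaf 3696)) (.node (.leaf 3584) (.leaf 1752))) (.node (.node (.node (.leaf 2152) (.leaf 4018)) (.leaf 3061)) (.node (.leaf 867) (.leaf 4584)))))) (.node (.node (.node (.node (.node (.node (.leaf 4164) (.leaf 4609)) (.leaf 5046)) (.node (.node (.leaf 4939) (.leaf 4742)) (.leaf 4490))) (.node (.node (.node (.leaf 2126) (.leaf 2585)) (.leaf 259)) (.node (.leaf 3605) (.leaf 5246)))) (.node (.node (.node (.node (.leaf 3491) (.leaf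 3940)) (.leaf 219)) (.node (.node (.leaf 3579) (.leaf 5489)) (.leaf 1746))) (.node (.node (.node (.leaf 4225) (.leaf 3314)) (.leaf 978)) (.node (.leaf 1556) (.leaf 5270))))) (.node (.node (.node (.node (.node (.leaf 709) (.leaf 1158)) (.leaf 5056)) (.node (.node (.leaf 1484) (.leaf 4774)) (.leaf 4502))) (.node (.node (.node (.leaf 4214) (.leaf 3989)) (.leaf 962)) (.node (.leaf 4311) (.leaf 4563)))) (.node (.node (.node (.node (.leaf 2114) (.leaf 5337)) (.leaf 4396)) (.node (.leaf 4979) (.leaf 5221))) (.node (.node (.node (.leaf 2851) (.leaf 4720)) (.leaf 5156)) (.node (.leaf 2957) (.leaf 1823)))))))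

/-- Part of `parT`. -/
def parT_p10 : Tr := .node (.node (.node (.node (.node (.node (.node (.node (.leaf 693) (.leaf 4597)) (.leaf 3653)) (.node (.node (.leaf 4932) (.leaf 5415)) (.leaf 3774))) (.node (.node (.node (.leaf 2809) (.leaf 4649)) (.leaf 5091)) (.node (.leaf 2210) (.leaf 5227)))) (.node (.node (.node (.node (.leaf 4175) (.leaf 4624)) (.leaf 2286)) (.node (.node (.leaf 2873) (.leaf 1311)) (.leaf 1040))) (.node (.node (.node (.leaf 3523) (.leaf 4690)) (.leaf 272)) (.node (.leaf 1543) (.leaf 3181))))) (.node (.node (.node (.node (.node (.leaf 4858) (.leaf 2533)) (.leaf 2969)) (.node (.node (.leaf 4941) (.leaf 4749)) (.leaf 2414))) (.node (.node (.node (.leaf 1435) (.leaf 2591)) (.leaf 4418)) (.node (.leaf 4992) (.leaf 1783)))) (.node (.node (.node (.node (.leaf 721) (.leaf 3943)) (.leaf 2306)) (.node (.node (.leaf 4967) (.leaf 5505)) (.leaf 5213))) (.node (.node (.node (.leaf 2149) (.leaf 2622)) (.leaf 287)) (.node (.leaf 3636) (.leaf 3888)))))) (.node (.node (.node (.node (.node (.node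 (.leaf 4162) (.leaf 5298)) (.leaf 1579)) (.node (.node (.leaf 4243) (.leaf 5422)) (.leaf 5174))) (.node (.node (.node (.leaf 4893) (.leaf 4656)) (.leaf 5104)) (.node (.leaf 4294) (.leaf 5236)))) (.node (.node (.node (.node (.leaf 4873) (.leaf 3243)) (.leaf 5063)) (.node (.node (.leaf 804) (.leaf 4788)) (.leaf 2433))) (.node (.node (.node (.leaf 2144) (.leaf 4695)) (.leaf 972)) (.node (.leaf 5016) (.leaf 5265))))) (.node (.node (.node (.node (.node (.leaf 4170) (.leaf 2541)) (.leaf 895)) (.node (.node (.leaf 2867) (.leaf 4769)) (.leaf 343))) (.node (.node (.node (.leaf 3518) (.leaf 3292)) (.leaf 4423)) (.node (.leaf 2921) (.leaf 4560)))) (.node (.node (.node (.node (.leaf 4882) (.leaf 3948)) (.leaf 927)) (.node (.leaf 125) (.leaf 4525))) (.node (.node (.node (.leaf 768) (.leaf 5406)) (.leaf 5142)) (.node (.leaf 869) (.leaf 2510))))))) (.node (.node (.node (.node (.node (.node (.node (.leaf 1388) (.leaf 2523)) (.leaf 2269)) (.node (.node (.leaf 4241) (.leaf 5418)) (.leaf 3781))) (.node (.node (.node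 (.leaf 4198) (.leaf 4653)) (.leaf 940)) (.node (.leaf 1520) (.leaf 4538)))) (.node (.node (.node (.node (.leaf 1407) (.leaf 3933)) (.leaf 4367)) (.node (.node (.leaf 2183) (.leaf 4089)) (.leaf 5201))) (.node (.node (.node (.leaf 1448) (.leaf 4693)) (.leaf 2352)) (.node (.leaf 2934) (.leaf 4568))))) (.node (.node (.node (.node (.node (.leaf 2089) (.leaf 4615)) (.leaf 5050)) (.node (.node (.leaf 2172) (.leaf 4757)) (.leaf 1031))) (.node (.node (.node (.leaf 2130) (.leaf 5366)) (.leaf 1649)) (.node (.leaf 4995) (.leaf 3171)))) (.node (.node (.node (.node (.leaf 4187) (.leaf 3946)) (.leaf 1617)) (.node (.leaf 4276) (.leaf 366))) (.node (.node (.node (.leaf 3537) (.leaf 4710)) (.leaf 4446)) (.node (.leaf 5024) (.leaf 3890)))))) (.node (.node (.node (.node (.node (.node (.leaf 699) (.leaf 3222)) (.leaf 3660)) (.node (.node (.leaf 3553) (.leaf 4046)) (.leaf 2411))) (.node (.node (.node (.leaf 4897) (.leaf 5356)) (.leaf 2337)) (.node (.leaf 4297) (.leaf 5245)))) (.node (.node (.node (.node (.leaf 4876) (.leaf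 3247)) (.leaf 4375)) (.node (.node (.leaf 4271) (.leaf 2716)) (.leaf 3821))) (.node (.node (.node (.leaf 2146) (.leaf 542)) (.leaf 2363)) (.node (.leaf 169) (.leaf 1805))))) (.node (.node (.node (.node (.node (.leaf 4866) (.leaf 3929)) (.leaf 3670)) (.node (.node (.leaf 98) (.leaf 4773)) (.leaf 2423))) (.node (.node (.node (.leaf 4906) (.leaf 4681)) (.leaf 961)) (.node (.leaf 2924) (.leaf 3870)))) (.node (.node (.node (.node (.leaf 4885) (.leaf 3951)) (.leaf 3010)) (.node (.leaf 3593) (.leaf 2449))) (.node (.node (.node (.leaf 772) (.leaf 5411)) (.leaf 1691)) (.node (.leaf 2263) (.leaf 4594)))))))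

/-- Part of `parT`. -/
def parT_p11 : Tr := .node (.node (.node (.node (.node (.node (.node (.node (.leaf 1387) (.leaf 4598)) (.leaf 882)) (.node (.node (.leaf 4933) (.leaf 4723)) (.leaf 5161))) (.node (.node (.node (.leaf 4889) (.leaf 4652)) (.leaf 937)) (.node (.leaf 4290) (.leaf 5229)))) (.node (.node (.node (.node (.leaf 4870) (.leaf 468)) (.leaf 1594)) (.node (.node (.leaf 2875) (.leaf 4779)) (.leaf 350))) (.node (.node (.node (.leaf 4911) (.leaf 5385)) (.leaf 3737)) (.node (.leaf 2932) (.leaf 2489))))) (.node (.node (.node (.node (.node (.leaf 4166) (.leaf 5307)) (.leaf 4356)) (.node (.node (.leaf 4249) (.leaf 4753)) (.leaf 3108))) (.node (.node (.node (.leaf 4900) (.leaf 1207)) (.leaf 3033)) (.node (.leaf 1529) (.leaf 4555)))) (.node (.node (.node (.node (.leaf 4879) (.leaf 4638)) (.leaf 2308)) (.node (.node (.leaf 1504) (.leaf 5517)) (.leaf 5214))) (.node (.node (.node (.leaf 1457) (.leaf 5395)) (.leaf 5138)) (.node (.leaf 4330) (.leaf 4582)))))) (.node (.node (.node (.node (.node (.node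 (.leaf 2084) (.leaf 2528)) (.leaf 4351)) (.node (.node (.leaf 780) (.leaf 4736)) (.leaf 1717))) (.node (.node (.node (.leaf 3509) (.leaf 3965)) (.leaf 950)) (.node (.leaf 4988) (.leaf 4545)))) (.node (.node (.node (.node (.leaf 4874) (.leaf 4629)) (.leaf 4371)) (.node (.node (.leaf 4270) (.leaf 5482)) (.leaf 4512))) (.node (.node (.node (.leaf 2145) (.leaf 1232)) (.leaf 1667)) (.node (.leaf 5018) (.leaf 5268))))) (.node (.node (.node (.node (.node (.leaf 4865) (.leaf 1849)) (.leaf 204)) (.node (.node (.leaf 3561) (.leaf 4078)) (.leaf 3808))) (.node (.node (.node (.leaf 4905) (.leaf 4680)) (.leaf 3732)) (.node (.leaf 844) (.leaf 405)))) (.node (.node (.node (.node (.leaf 3498) (.leaf 4642)) (.leaf 236)) (.node (.leaf 2205) (.leaf 3140))) (.node (.node (.node (.leaf 2848) (.leaf 4717)) (.leaf 3067)) (.node (.leaf 178) (.leaf 5285))))))) (.node (.node (.node (.node (.node (.node (.node (.leaf 2082) (.leaf 5296)) (.leaf 2271)) (.node (.node (.leaf 4242) (.leaf 4728)) (.leaf 4475))) (.node (.node (.node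 (.leaf 2120) (.leaf 4655)) (.leaf 2327)) (.node (.leaf 4292) (.leaf 3848)))) (.node (.node (.node (.node (.leaf 4872) (.leaf 1163)) (.leaf 2290)) (.node (.node (.leaf 4267) (.leaf 4783)) (.leaf 3125))) (.node (.node (.node (.leaf 756) (.leaf 1923)) (.leaf 3739)) (.node (.leaf 2242) (.leaf 3877))))) (.node (.node (.node (.node (.node (.leaf 3476) (.leaf 5311)) (.leaf 3666)) (.node (.node (.leaf 3559) (.leaf 4073)) (.leaf 4496))) (.node (.node (.node (.leaf 1438) (.leaf 2598)) (.leaf 958)) (.node (.leaf 4303) (.leaf 1095)))) (.node (.node (.node (.node (.leaf 4188) (.leaf 4640)) (.leaf 5082)) (.node (.leaf 121) (.leaf 5217))) (.node (.node (.node (.leaf 4231) (.leaf 4712)) (.leaf 1676)) (.node (.leaf 3640) (.leaf 3893)))))) (.node (.node (.node (.node (.node (.node (.leaf 2779) (.leaf 4610)) (.leaf 889)) (.node (.node (.leaf 782) (.leaf 5436)) (.leaf 1719))) (.node (.node (.node (.leaf 1434) (.leaf 2586)) (.leaf 5110)) (.node (.leaf 4991) (.leaf 2475)))) (.node (.node (.node (.node (.leaf 4877) (.leaf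 3941)) (.leaf 2300)) (.node (.node (.leaf 4273) (.leaf 4109)) (.leaf 1747))) (.node (.node (.node (.leaf 3533) (.leaf 4007)) (.leaf 5136)) (.node (.leaf 2942) (.leaf 5271))))) (.node (.node (.node (.node (.node (.leaf 4174) (.leaf 3237)) (.leaf 899)) (.node (.node (.leaf 2872) (.leaf 4082)) (.leaf 5196))) (.node (.node (.node (.leaf 2136) (.leaf 2610)) (.leaf 5120)) (.node (.leaf 848) (.leaf 408)))) (.node (.node (.node (.node (.leaf 1422) (.leaf 4646)) (.leaf 4397)) (.node (.leaf 4287) (.leaf 2454))) (.node (.node (.node (.leaf 2160) (.leaf 5414)) (.leaf 1693)) (.node (.leaf 2265) (.leaf 2517)))))))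

/-- Where each line comes from. -/
def parT : Tr := .node (.node (parT_p00) (parT_p01)) (.node (parT_p10) (parT_p11))

/-- Part of `posT`. -/
def posT_p0000 : Tr := .node (.node (.node (.node (.node (.node (.node (.node (.leaf 0) (.leaf 0)) (.node (.leaf 0) (.leaf 0))) (.node (.node (.leaf 0) (.leaf 0)) (.node (.leaf 605) (.leaf 656)))) (.node (.node (.node (.leaf 0) (.leaf 656)) (.node (.leaf 0) (.leaf 605))) (.node (.node (.leaf 0) (.leaf 605)) (.node (.leaf 656) (.leaf 0))))) (.node (.node (.node (.node (.leaf 0) (.leaf 224)) (.node (.leaf 252) (.leaf 395))) (.node (.node (.leaf 300) (.leaf 0)) (.node (.leaf 0) (.leaf 0)))) (.node (.node (.node (.leaf 222) (.leaf 0)) (.node (.leaf 0) (.leaf 0))) (.node (.node (.leaf 460) (.leaf 0)) (.node (.leaf 0) (.leaf 0)))))) (.node (.node (.node (.node (.node (.leaf 0) (.leaf 395)) (.node (.leaf 224) (.leaf 252))) (.node (.node (.leaf 460) (.leaf 0)) (.node (.leaf 0) (.leaf 0)))) (.node (.node (.node (.leaf 300) (.leaf 0)) (.node (.leaf 0) (.leaf 0))) (.node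 (.node (.leaf 222) (.leaf 0)) (.node (.leaf 0) (.leaf 0))))) (.node (.node (.node (.node (.leaf 0) (.leaf 252)) (.node (.leaf 395) (.leaf 224))) (.node (.node (.leaf 222) (.leaf 0)) (.node (.leaf 0) (.leaf 0)))) (.node (.node (.node (.leaf 460) (.leaf 0)) (.node (.leaf 0) (.leaf 0))) (.node (.node (.leaf 300) (.leaf 0)) (.node (.leaf 0) (.leaf 0))))))) (.node (.node (.node (.node (.node (.node (.leaf 0) (.leaf 661)) (.node (.leaf 592) (.leaf 1))) (.node (.node (.leaf 682) (.leaf 0)) (.node (.leaf 0) (.leaf 0)))) (.node (.node (.node (.leaf 648) (.leaf 0)) (.node (.leaf 0) (.leaf 0))) (.node (.node (.leaf 2) (.leaf 0)) (.node (.leaf 0) (.leaf 0))))) (.node (.node (.node (.node (.leaf 534) (.leaf 0)) (.node (.leaf 0) (.leaf 0))) (.node (.node (.leaf 0) (.leaf 285)) (.node (.leaf 589) (.leaf 405)))) (.node (.node (.node (.leaf 0) (.leaf 523)) (.node (.leaf 235) (.leaf 478))) (.node (.node (.leaf 0) (.leaf 475)) (.node (.leaf 458) (.leaf 46)))))) (.node (.node (.node (.node (.node (.leaf 301) (.leaf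 0)) (.node (.leaf 0) (.leaf 0))) (.node (.node (.leaf 0) (.leaf 407)) (.node (.leaf 599) (.leaf 177)))) (.node (.node (.node (.leaf 0) (.leaf 632)) (.node (.leaf 298) (.leaf 153))) (.node (.node (.leaf 0) (.leaf 142)) (.node (.leaf 180) (.leaf 263))))) (.node (.node (.node (.node (.leaf 216) (.leaf 0)) (.node (.leaf 0) (.leaf 0))) (.node (.node (.leaf 0) (.leaf 217)) (.node (.leaf 572) (.leaf 225)))) (.node (.node (.node (.leaf 0) (.leaf 507)) (.node (.leaf 338) (.leaf 366))) (.node (.node (.leaf 0) (.leaf 158)) (.node (.leaf 437) (.leaf 339)))))))) (.node (.node (.node (.node (.node (.node (.node (.leaf 0) (.leaf 1)) (.node (.leaf 661) (.leaf 592))) (.node (.node (.leaf 2) (.leaf 0)) (.node (.leaf 0) (.leaf 0)))) (.node (.node (.node (.leaf 682) (.leaf 0)) (.node (.leaf 0) (.leaf 0))) (.node (.node (.leaf 648) (.leaf 0)) (.node (.leaf 0) (.leaf 0))))) (.node (.node (.node (.node (.leaf 216) (.leaf 0)) (.node (.leaf 0) (.leaf 0))) (.node (.node (.leaf 0) (.leaf 339)) (.node (.leaf 158) (.leaf 437))))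 (.node (.node (.node (.leaf 0) (.leaf 225)) (.node (.leaf 217) (.leaf 572))) (.node (.node (.leaf 0) (.leaf 366)) (.node (.leaf 507) (.leaf 338)))))) (.node (.node (.node (.node (.node (.leaf 534) (.leaf 0)) (.node (.leaf 0) (.leaf 0))) (.node (.node (.leaf 0) (.leaf 46)) (.node (.leaf 475) (.leaf 458)))) (.node (.node (.node (.leaf 0) (.leaf 405)) (.node (.leaf 285) (.leaf 589))) (.node (.node (.leaf 0) (.leaf 478)) (.node (.leaf 523) (.leaf 235))))) (.node (.node (.node (.node (.leaf 301) (.leaf 0)) (.node (.leaf 0) (.leaf 0))) (.node (.node (.leaf 0) (.leaf 263)) (.node (.leaf 142) (.leaf 180)))) (.node (.node (.node (.leaf 0) (.leaf 177)) (.node (.leaf 407) (.leaf 599))) (.node (.node (.leaf 0) (.leaf 153)) (.node (.leaf 632) (.leaf 298))))))) (.node (.node (.node (.node (.node (.node (.leaf 0) (.leaf 592)) (.node (.leaf 1) (.leaf 661))) (.node (.node (.leaf 648) (.leaf 0)) (.node (.leaf 0) (.leaf 0)))) (.node (.node (.node (.leaf 2) (.leaf 0)) (.node (.leaf 0) (.leaf 0))) (.node (.node (.leaf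 682) (.leaf 0)) (.node (.leaf 0) (.leaf 0))))) (.node (.node (.node (.node (.leaf 301) (.leaf 0)) (.node (.leaf 0) (.leaf 0))) (.node (.node (.leaf 0) (.leaf 298)) (.node (.leaf 153) (.leaf 632)))) (.node (.node (.node (.leaf 0) (.leaf 180)) (.node (.leaf 263) (.leaf 142))) (.node (.node (.leaf 0) (.leaf 599)) (.node (.leaf 177) (.leaf 407)))))) (.node (.node (.node (.node (.node (.leaf 216) (.leaf 0)) (.node (.leaf 0) (.leaf 0))) (.node (.node (.leaf 0) (.leaf 338)) (.node (.leaf 366) (.leaf 507)))) (.node (.node (.node (.leaf 0) (.leaf 437)) (.node (.leaf 339) (.leaf 158))) (.node (.node (.leaf 0) (.leaf 572)) (.node (.leaf 225) (.leaf 217))))) (.node (.node (.node (.node (.leaf 534) (.leaf 0)) (.node (.leaf 0) (.leaf 0))) (.node (.node (.leaf 0) (.leaf 235)) (.node (.leaf 478) (.leaf 523)))) (.node (.node (.node (.leaf 0) (.leaf 458)) (.node (.leaf 46) (.leaf 475))) (.node (.node (.leaf 0) (.leaf 589)) (.node (.leaf 405) (.leaf 285))))))))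

/-- Part of `posT`. -/
def posT_p0001 : Tr := .node (.node (.node (.node (.node (.node (.node (.node (.leaf 0) (.leaf 12)) (.node (.leaf 670) (.leaf 527))) (.node (.node (.leaf 8) (.leaf 0)) (.node (.leaf 0) (.leaf 0)))) (.node (.node (.node (.leaf 659) (.leaf 0)) (.node (.leaf 0) (.leaf 0))) (.node (.node (.leaf 540) (.leaf 0)) (.node (.leaf 0) (.leaf 0))))) (.node (.node (.node (.node (.leaf 147) (.leaf 0)) (.node (.leaf 0) (.leaf 0))) (.node (.node (.leaf 0) (.leaf 543)) (.node (.leaf 79) (.leaf 328)))) (.node (.node (.node (.leaf 0) (.leaf 63)) (.node (.leaf 133) (.leaf 385))) (.node (.node (.leaf 0) (.leaf 249)) (.node (.leaf 455) (.leaf 397)))))) (.node (.node (.node (.node (.node (.leaf 188) (.leaf 0)) (.node (.leaf 0) (.leaf 0))) (.node (.node (.leaf 0) (.leaf 34)) (.node (.leaf 549) (.leaf 372)))) (.node (.node (.node (.leaf 0) (.leaf 518)) (.node (.leaf 351) (.leaf 187))) (.node (.node (.leaf 0) (.leaf 388)) (.node (.leaf 165) (.leaf 628))))) (.node (.node (.node (.node (.leaf 166) (.leaf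 0)) (.node (.leaf 0) (.leaf 0))) (.node (.node (.leaf 0) (.leaf 498)) (.node (.leaf 362) (.leaf 161)))) (.node (.node (.node (.leaf 0) (.leaf 281)) (.node (.leaf 514) (.leaf 358))) (.node (.node (.leaf 0) (.leaf 184)) (.node (.leaf 391) (.leaf 68))))))) (.node (.node (.node (.node (.node (.node (.leaf 467) (.leaf 0)) (.node (.leaf 0) (.leaf 0))) (.node (.node (.leaf 0) (.leaf 83)) (.node (.leaf 687) (.leaf 496)))) (.node (.node (.node (.leaf 0) (.leaf 650)) (.node (.leaf 626) (.leaf 499))) (.node (.node (.leaf 0) (.leaf 579)) (.node (.leaf 428) (.leaf 91))))) (.node (.node (.node (.node (.leaf 0) (.leaf 176)) (.node (.leaf 530) (.leaf 463))) (.node (.node (.leaf 141) (.leaf 0)) (.node (.leaf 0) (.leaf 0)))) (.node (.node (.node (.leaf 601) (.leaf 0)) (.node (.leaf 0) (.leaf 0))) (.node (.node (.leaf 452) (.leaf 0)) (.node (.leaf 0) (.leaf 0)))))) (.node (.node (.node (.node (.node (.leaf 0) (.leaf 317)) (.node (.leaf 231) (.leaf 587))) (.node (.node (.leaf 273) (.leaf 0)) (.node (.leaf 0) (.leaf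 0)))) (.node (.node (.node (.leaf 307) (.leaf 0)) (.node (.leaf 0) (.leaf 0))) (.node (.node (.leaf 512) (.leaf 0)) (.node (.leaf 0) (.leaf 0))))) (.node (.node (.node (.node (.leaf 0) (.leaf 241)) (.node (.leaf 329) (.leaf 44))) (.node (.node (.leaf 200) (.leaf 0)) (.node (.leaf 0) (.leaf 0)))) (.node (.node (.node (.leaf 306) (.leaf 0)) (.node (.leaf 0) (.leaf 0))) (.node (.node (.leaf 33) (.leaf 0)) (.node (.leaf 0) (.leaf 0)))))))) (.node (.node (.node (.node (.node (.node (.node (.leaf 18) (.leaf 0)) (.node (.leaf 0) (.leaf 0))) (.node (.node (.leaf 0) (.leaf 127)) (.node (.leaf 17) (.leaf 70)))) (.node (.node (.node (.leaf 0) (.leaf 24)) (.node (.leaf 680) (.leaf 684))) (.node (.node (.leaf 0) (.leaf 51)) (.node (.leaf 663) (.leaf 422))))) (.node (.node (.node (.node (.leaf 0) (.leaf 622)) (.node (.leaf 125) (.leaf 290))) (.node (.node (.leaf 580) (.leaf 0)) (.node (.leaf 0) (.leaf 0)))) (.node (.node (.node (.leaf 185) (.leaf 0)) (.node (.leaf 0) (.leaf 0))) (.node (.node (.leaf 208) (.leaf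 0)) (.node (.leaf 0) (.leaf 0)))))) (.node (.node (.node (.node (.node (.leaf 0) (.leaf 19)) (.node (.leaf 623) (.leaf 423))) (.node (.node (.leaf 25) (.leaf 0)) (.node (.leaf 0) (.leaf 0)))) (.node (.node (.node (.leaf 551) (.leaf 0)) (.node (.leaf 0) (.leaf 0))) (.node (.node (.leaf 354) (.leaf 0)) (.node (.leaf 0) (.leaf 0))))) (.node (.node (.node (.node (.leaf 0) (.leaf 424)) (.node (.leaf 303) (.leaf 227))) (.node (.node (.leaf 355) (.leaf 0)) (.node (.leaf 0) (.leaf 0)))) (.node (.node (.node (.leaf 323) (.leaf 0)) (.node (.leaf 0) (.leaf 0))) (.node (.node (.leaf 278) (.leaf 0)) (.node (.leaf 0) (.leaf 0))))))) (.node (.node (.node (.node (.node (.node (.leaf 596) (.leaf 0)) (.node (.leaf 0) (.leaf 0))) (.node (.node (.leaf 0) (.leaf 39)) (.node (.leaf 653) (.leaf 649)))) (.node (.node (.node (.leaf 0) (.leaf 594)) (.node (.leaf 106) (.leaf 652))) (.node (.node (.leaf 0) (.leaf 606)) (.node (.leaf 676) (.leaf 585))))) (.node (.node (.node (.node (.leaf 0) (.leaf 103)) (.node (.leaf 86) (.leaf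 456))) (.node (.node (.leaf 162) (.leaf 0)) (.node (.leaf 0) (.leaf 0)))) (.node (.node (.node (.leaf 114) (.leaf 0)) (.node (.leaf 0) (.leaf 0))) (.node (.node (.leaf 525) (.leaf 0)) (.node (.leaf 0) (.leaf 0)))))) (.node (.node (.node (.node (.node (.leaf 0) (.leaf 448)) (.node (.leaf 421) (.leaf 255))) (.node (.node (.leaf 470) (.leaf 0)) (.node (.leaf 0) (.leaf 0)))) (.node (.node (.node (.leaf 494) (.leaf 0)) (.node (.leaf 0) (.leaf 0))) (.node (.node (.leaf 330) (.leaf 0)) (.node (.leaf 0) (.leaf 0))))) (.node (.node (.node (.node (.leaf 0) (.leaf 202)) (.node (.leaf 595) (.leaf 427))) (.node (.node (.leaf 244) (.leaf 0)) (.node (.leaf 0) (.leaf 0)))) (.node (.node (.node (.leaf 616) (.leaf 0)) (.node (.leaf 0) (.leaf 0))) (.node (.node (.leaf 382) (.leaf 0)) (.node (.leaf 0) (.leaf 0))))))))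

/-- Part of `posT`. -/
def posT_p0010 : Tr := .node (.node (.node (.node (.node (.node (.node (.node (.leaf 0) (.leaf 527)) (.node (.leaf 12) (.leaf 670))) (.node (.node (.leaf 540) (.leaf 0)) (.node (.leaf 0) (.leaf 0)))) (.node (.node (.node (.leaf 8) (.leaf 0)) (.node (.leaf 0) (.leaf 0))) (.node (.node (.leaf 659) (.leaf 0)) (.node (.leaf 0) (.leaf 0))))) (.node (.node (.node (.node (.leaf 166) (.leaf 0)) (.node (.leaf 0) (.leaf 0))) (.node (.node (.leaf 0) (.leaf 68)) (.node (.leaf 184) (.leaf 391)))) (.node (.node (.node (.leaf 0) (.leaf 161)) (.node (.leaf 498) (.leaf 362))) (.node (.node (.leaf 0) (.leaf 358)) (.node (.leaf 281) (.leaf 514)))))) (.node (.node (.node (.node (.node (.leaf 147) (.leaf 0)) (.node (.leaf 0) (.leaf 0))) (.node (.node (.leaf 0) (.leaf 397)) (.node (.leaf 249) (.leaf 455)))) (.node (.node (.node (.leaf 0) (.leaf 328)) (.node (.leaf 543) (.leaf 79))) (.node (.node (.leaf 0) (.leaf 385)) (.node (.leaf 63) (.leaf 133))))) (.node (.node (.node (.node (.leaf 188) (.leaf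 0)) (.node (.leaf 0) (.leaf 0))) (.node (.node (.leaf 0) (.leaf 628)) (.node (.leaf 388) (.leaf 165)))) (.node (.node (.node (.leaf 0) (.leaf 372)) (.node (.leaf 34) (.leaf 549))) (.node (.node (.leaf 0) (.leaf 187)) (.node (.leaf 518) (.leaf 351))))))) (.node (.node (.node (.node (.node (.node (.leaf 596) (.leaf 0)) (.node (.leaf 0) (.leaf 0))) (.node (.node (.leaf 0) (.leaf 585)) (.node (.leaf 606) (.leaf 676)))) (.node (.node (.node (.leaf 0) (.leaf 649)) (.node (.leaf 39) (.leaf 653))) (.node (.node (.leaf 0) (.leaf 652)) (.node (.leaf 594) (.leaf 106))))) (.node (.node (.node (.node (.leaf 0) (.leaf 427)) (.node (.leaf 202) (.leaf 595))) (.node (.node (.leaf 382) (.leaf 0)) (.node (.leaf 0) (.leaf 0)))) (.node (.node (.node (.leaf 244) (.leaf 0)) (.node (.leaf 0) (.leaf 0))) (.node (.node (.leaf 616) (.leaf 0)) (.node (.leaf 0) (.leaf 0)))))) (.node (.node (.node (.node (.node (.leaf 0) (.leaf 456)) (.node (.leaf 103) (.leaf 86))) (.node (.node (.leaf 525) (.leaf 0)) (.node (.leaf 0) (.leaf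 0)))) (.node (.node (.node (.leaf 162) (.leaf 0)) (.node (.leaf 0) (.leaf 0))) (.node (.node (.leaf 114) (.leaf 0)) (.node (.leaf 0) (.leaf 0))))) (.node (.node (.node (.node (.leaf 0) (.leaf 255)) (.node (.leaf 448) (.leaf 421))) (.node (.node (.leaf 330) (.leaf 0)) (.node (.leaf 0) (.leaf 0)))) (.node (.node (.node (.leaf 470) (.leaf 0)) (.node (.leaf 0) (.leaf 0))) (.node (.node (.leaf 494) (.leaf 0)) (.node (.leaf 0) (.leaf 0)))))))) (.node (.node (.node (.node (.node (.node (.node (.leaf 467) (.leaf 0)) (.node (.leaf 0) (.leaf 0))) (.node (.node (.leaf 0) (.leaf 91)) (.node (.leaf 579) (.leaf 428)))) (.node (.node (.node (.leaf 0) (.leaf 496)) (.node (.leaf 83) (.leaf 687))) (.node (.node (.leaf 0) (.leaf 499)) (.node (.leaf 650) (.leaf 626))))) (.node (.node (.node (.node (.leaf 0) (.leaf 44)) (.node (.leaf 241) (.leaf 329))) (.node (.node (.leaf 33) (.leaf 0)) (.node (.leaf 0) (.leaf 0)))) (.node (.node (.node (.leaf 200) (.leaf 0)) (.node (.leaf 0) (.leaf 0))) (.node (.node (.leaf 306) (.leaf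 0)) (.node (.leaf 0) (.leaf 0)))))) (.node (.node (.node (.node (.node (.leaf 0) (.leaf 463)) (.node (.leaf 176) (.leaf 530))) (.node (.node (.leaf 452) (.leaf 0)) (.node (.leaf 0) (.leaf 0)))) (.node (.node (.node (.leaf 141) (.leaf 0)) (.node (.leaf 0) (.leaf 0))) (.node (.node (.leaf 601) (.leaf 0)) (.node (.leaf 0) (.leaf 0))))) (.node (.node (.node (.node (.leaf 0) (.leaf 587)) (.node (.leaf 317) (.leaf 231))) (.node (.node (.leaf 512) (.leaf 0)) (.node (.leaf 0) (.leaf 0)))) (.node (.node (.node (.leaf 273) (.leaf 0)) (.node (.leaf 0) (.leaf 0))) (.node (.node (.leaf 307) (.leaf 0)) (.node (.leaf 0) (.leaf 0))))))) (.node (.node (.node (.node (.node (.node (.leaf 18) (.leaf 0)) (.node (.leaf 0) (.leaf 0))) (.node (.node (.leaf 0) (.leaf 422)) (.node (.leaf 51) (.leaf 663)))) (.node (.node (.node (.leaf 0) (.leaf 70)) (.node (.leaf 127) (.leaf 17))) (.node (.node (.leaf 0) (.leaf 684)) (.node (.leaf 24) (.leaf 680))))) (.node (.node (.node (.node (.leaf 0) (.leaf 227)) (.node (.leaf 424) (.leaf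 303))) (.node (.node (.leaf 278) (.leaf 0)) (.node (.leaf 0) (.leaf 0)))) (.node (.node (.node (.leaf 355) (.leaf 0)) (.node (.leaf 0) (.leaf 0))) (.node (.node (.leaf 323) (.leaf 0)) (.node (.leaf 0) (.leaf 0)))))) (.node (.node (.node (.node (.node (.leaf 0) (.leaf 290)) (.node (.leaf 622) (.leaf 125))) (.node (.node (.leaf 208) (.leaf 0)) (.node (.leaf 0) (.leaf 0)))) (.node (.node (.node (.leaf 580) (.leaf 0)) (.node (.leaf 0) (.leaf 0))) (.node (.node (.leaf 185) (.leaf 0)) (.node (.leaf 0) (.leaf 0))))) (.node (.node (.node (.node (.leaf 0) (.leaf 423)) (.node (.leaf 19) (.leaf 623))) (.node (.node (.leaf 354) (.leaf 0)) (.node (.leaf 0) (.leaf 0)))) (.node (.node (.node (.leaf 25) (.leaf 0)) (.node (.leaf 0) (.leaf 0))) (.node (.node (.leaf 551) (.leaf 0)) (.node (.leaf 0) (.leaf 0))))))))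

/-- Part of `posT`. -/
def posT_p0011 : Tr := .node (.node (.node (.node (.node (.node (.node (.node (.leaf 0) (.leaf 670)) (.node (.leaf 527) (.leaf 12))) (.node (.node (.leaf 659) (.leaf 0)) (.node (.leaf 0) (.leaf 0)))) (.node (.node (.node (.leaf 540) (.leaf 0)) (.node (.leaf 0) (.leaf 0))) (.node (.node (.leaf 8) (.leaf 0)) (.node (.leaf 0) (.leaf 0))))) (.node (.node (.node (.node (.leaf 188) (.leaf 0)) (.node (.leaf 0) (.leaf 0))) (.node (.node (.leaf 0) (.leaf 351)) (.node (.leaf 187) (.leaf 518)))) (.node (.node (.node (.leaf 0) (.leaf 165)) (.node (.leaf 628) (.leaf 388))) (.node (.node (.leaf 0) (.leaf 549)) (.node (.leaf 372) (.leaf 34)))))) (.node (.node (.node (.node (.node (.leaf 166) (.leaf 0)) (.node (.leaf 0) (.leaf 0))) (.node (.node (.leaf 0) (.leaf 514)) (.node (.leaf 358) (.leaf 281)))) (.node (.node (.node (.leaf 0) (.leaf 391)) (.node (.leaf 68) (.leaf 184))) (.node (.node (.leaf 0) (.leaf 362)) (.node (.leaf 161) (.leaf 498))))) (.node (.node (.node (.node (.leaf 147) (.leaf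 0)) (.node (.leaf 0) (.leaf 0))) (.node (.node (.leaf 0) (.leaf 133)) (.node (.leaf 385) (.leaf 63)))) (.node (.node (.node (.leaf 0) (.leaf 455)) (.node (.leaf 397) (.leaf 249))) (.node (.node (.leaf 0) (.leaf 79)) (.node (.leaf 328) (.leaf 543))))))) (.node (.node (.node (.node (.node (.node (.leaf 18) (.leaf 0)) (.node (.leaf 0) (.leaf 0))) (.node (.node (.leaf 0) (.leaf 680)) (.node (.leaf 684) (.leaf 24)))) (.node (.node (.node (.leaf 0) (.leaf 663)) (.node (.leaf 422) (.leaf 51))) (.node (.node (.leaf 0) (.leaf 17)) (.node (.leaf 70) (.leaf 127))))) (.node (.node (.node (.node (.leaf 0) (.leaf 623)) (.node (.leaf 423) (.leaf 19))) (.node (.node (.leaf 551) (.leaf 0)) (.node (.leaf 0) (.leaf 0)))) (.node (.node (.node (.leaf 354) (.leaf 0)) (.node (.leaf 0) (.leaf 0))) (.node (.node (.leaf 25) (.leaf 0)) (.node (.leaf 0) (.leaf 0)))))) (.node (.node (.node (.node (.node (.leaf 0) (.leaf 303)) (.node (.leaf 227) (.leaf 424))) (.node (.node (.leaf 323) (.leaf 0)) (.node (.leaf 0) (.leaf 0))))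 (.node (.node (.node (.leaf 278) (.leaf 0)) (.node (.leaf 0) (.leaf 0))) (.node (.node (.leaf 355) (.leaf 0)) (.node (.leaf 0) (.leaf 0))))) (.node (.node (.node (.node (.leaf 0) (.leaf 125)) (.node (.leaf 290) (.leaf 622))) (.node (.node (.leaf 185) (.leaf 0)) (.node (.leaf 0) (.leaf 0)))) (.node (.node (.node (.leaf 208) (.leaf 0)) (.node (.leaf 0) (.leaf 0))) (.node (.node (.leaf 580) (.leaf 0)) (.node (.leaf 0) (.leaf 0)))))))) (.node (.node (.node (.node (.node (.node (.node (.leaf 596) (.leaf 0)) (.node (.leaf 0) (.leaf 0))) (.node (.node (.leaf 0) (.leaf 106)) (.node (.leaf 652) (.leaf 594)))) (.node (.node (.node (.leaf 0) (.leaf 676)) (.node (.leaf 585) (.leaf 606))) (.node (.node (.leaf 0) (.leaf 653)) (.node (.leaf 649) (.leaf 39))))) (.node (.node (.node (.node (.leaf 0) (.leaf 421)) (.node (.leaf 255) (.leaf 448))) (.node (.node (.leaf 494) (.leaf 0)) (.node (.leaf 0) (.leaf 0)))) (.node (.node (.node (.leaf 330) (.leaf 0)) (.node (.leaf 0) (.leaf 0))) (.node (.node (.leaf 470) (.leaf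 0)) (.node (.leaf 0) (.leaf 0)))))) (.node (.node (.node (.node (.node (.leaf 0) (.leaf 595)) (.node (.leaf 427) (.leaf 202))) (.node (.node (.leaf 616) (.leaf 0)) (.node (.leaf 0) (.leaf 0)))) (.node (.node (.node (.leaf 382) (.leaf 0)) (.node (.leaf 0) (.leaf 0))) (.node (.node (.leaf 244) (.leaf 0)) (.node (.leaf 0) (.leaf 0))))) (.node (.node (.node (.node (.leaf 0) (.leaf 86)) (.node (.leaf 456) (.leaf 103))) (.node (.node (.leaf 114) (.leaf 0)) (.node (.leaf 0) (.leaf 0)))) (.node (.node (.node (.leaf 525) (.leaf 0)) (.node (.leaf 0) (.leaf 0))) (.node (.node (.leaf 162) (.leaf 0)) (.node (.leaf 0) (.leaf 0))))))) (.node (.node (.node (.node (.node (.node (.leaf 467) (.leaf 0)) (.node (.leaf 0) (.leaf 0))) (.node (.node (.leaf 0) (.leaf 626)) (.node (.leaf 499) (.leaf 650)))) (.node (.node (.node (.leaf 0) (.leaf 428)) (.node (.leaf 91) (.leaf 579))) (.node (.node (.leaf 0) (.leaf 687)) (.node (.leaf 496) (.leaf 83))))) (.node (.node (.node (.node (.leaf 0) (.leaf 231)) (.node (.leaf 587) (.leaf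 317))) (.node (.node (.leaf 307) (.leaf 0)) (.node (.leaf 0) (.leaf 0)))) (.node (.node (.node (.leaf 512) (.leaf 0)) (.node (.leaf 0) (.leaf 0))) (.node (.node (.leaf 273) (.leaf 0)) (.node (.leaf 0) (.leaf 0)))))) (.node (.node (.node (.node (.node (.leaf 0) (.leaf 329)) (.node (.leaf 44) (.leaf 241))) (.node (.node (.leaf 306) (.leaf 0)) (.node (.leaf 0) (.leaf 0)))) (.node (.node (.node (.leaf 33) (.leaf 0)) (.node (.leaf 0) (.leaf 0))) (.node (.node (.leaf 200) (.leaf 0)) (.node (.leaf 0) (.leaf 0))))) (.node (.node (.node (.node (.leaf 0) (.leaf 530)) (.node (.leaf 463) (.leaf 176))) (.node (.node (.leaf 601) (.leaf 0)) (.node (.leaf 0) (.leaf 0)))) (.node (.node (.node (.leaf 452) (.leaf 0)) (.node (.leaf 0) (.leaf 0))) (.node (.node (.leaf 141) (.leaf 0)) (.node (.leaf 0) (.leaf 0))))))))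

/-- Part of `posT`. -/
def posT_p0100 : Tr := .node (.node (.node (.node (.node (.node (.node (.node (.leaf 0) (.leaf 9)) (.node (.leaf 552) (.leaf 481))) (.node (.node (.leaf 14) (.leaf 0)) (.node (.leaf 0) (.leaf 0)))) (.node (.node (.node (.leaf 471) (.leaf 0)) (.node (.leaf 0) (.leaf 0))) (.node (.node (.leaf 410) (.leaf 0)) (.node (.leaf 0) (.leaf 0))))) (.node (.node (.node (.node (.leaf 148) (.leaf 0)) (.node (.leaf 0) (.leaf 0))) (.node (.node (.leaf 0) (.leaf 267)) (.node (.leaf 160) (.leaf 292)))) (.node (.node (.node (.leaf 0) (.leaf 223)) (.node (.leaf 260) (.leaf 484))) (.node (.node (.leaf 0) (.leaf 361)) (.node (.leaf 565) (.leaf 414)))))) (.node (.node (.node (.node (.node (.leaf 664) (.leaf 0)) (.node (.leaf 0) (.leaf 0))) (.node (.node (.leaf 0) (.leaf 13)) (.node (.leaf 609) (.leaf 634)))) (.node (.node (.node (.leaf 0) (.leaf 636)) (.node (.leaf 139) (.leaf 686))) (.node (.node (.leaf 0) (.leaf 560)) (.node (.leaf 639) (.leaf 242))))) (.node (.node (.node (.node (.leaf 190) (.leaf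 0)) (.node (.leaf 0) (.leaf 0))) (.node (.node (.leaf 0) (.leaf 347)) (.node (.leaf 293) (.leaf 186)))) (.node (.node (.node (.leaf 0) (.leaf 325)) (.node (.leaf 473) (.leaf 619))) (.node (.node (.leaf 0) (.leaf 254)) (.node (.leaf 554) (.leaf 93))))))) (.node (.node (.node (.node (.node (.node (.leaf 344) (.leaf 0)) (.node (.leaf 0) (.leaf 0))) (.node (.node (.leaf 0) (.leaf 337)) (.node (.leaf 320) (.leaf 140)))) (.node (.node (.node (.leaf 0) (.leaf 276)) (.node (.leaf 193) (.leaf 378))) (.node (.node (.leaf 0) (.leaf 175)) (.node (.leaf 295) (.leaf 214))))) (.node (.node (.node (.node (.leaf 0) (.leaf 279)) (.node (.leaf 642) (.leaf 485))) (.node (.node (.leaf 322) (.leaf 0)) (.node (.leaf 0) (.leaf 0)))) (.node (.node (.node (.leaf 607) (.leaf 0)) (.node (.leaf 0) (.leaf 0))) (.node (.node (.leaf 454) (.leaf 0)) (.node (.leaf 0) (.leaf 0)))))) (.node (.node (.node (.node (.node (.leaf 0) (.leaf 631)) (.node (.leaf 574) (.leaf 172))) (.node (.node (.leaf 674) (.leaf 0)) (.node (.leaf 0) (.leaf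 0)))) (.node (.node (.node (.leaf 645) (.leaf 0)) (.node (.leaf 0) (.leaf 0))) (.node (.node (.leaf 136) (.leaf 0)) (.node (.leaf 0) (.leaf 0))))) (.node (.node (.node (.node (.leaf 0) (.leaf 229)) (.node (.leaf 477) (.leaf 57))) (.node (.node (.leaf 163) (.leaf 0)) (.node (.leaf 0) (.leaf 0)))) (.node (.node (.node (.leaf 558) (.leaf 0)) (.node (.leaf 0) (.leaf 0))) (.node (.node (.leaf 73) (.leaf 0)) (.node (.leaf 0) (.leaf 0)))))))) (.node (.node (.node (.node (.node (.node (.node (.leaf 26) (.leaf 0)) (.node (.leaf 0) (.leaf 0))) (.node (.node (.leaf 0) (.leaf 610)) (.node (.leaf 119) (.leaf 232)))) (.node (.node (.node (.leaf 0) (.leaf 96)) (.node (.leaf 314) (.leaf 228))) (.node (.node (.leaf 0) (.leaf 308)) (.node (.leaf 253) (.leaf 205))))) (.node (.node (.node (.node (.leaf 0) (.leaf 199)) (.node (.leaf 101) (.leaf 209))) (.node (.node (.leaf 240) (.leaf 0)) (.node (.leaf 0) (.leaf 0)))) (.node (.node (.node (.leaf 122) (.leaf 0)) (.node (.leaf 0) (.leaf 0))) (.node (.node (.leaf 250) (.leaf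 0)) (.node (.leaf 0) (.leaf 0)))))) (.node (.node (.node (.node (.node (.leaf 0) (.leaf 6)) (.node (.leaf 662) (.leaf 603))) (.node (.node (.leaf 4) (.leaf 0)) (.node (.leaf 0) (.leaf 0)))) (.node (.node (.node (.leaf 685) (.leaf 0)) (.node (.leaf 0) (.leaf 0))) (.node (.node (.leaf 620) (.leaf 0)) (.node (.leaf 0) (.leaf 0))))) (.node (.node (.node (.node (.leaf 0) (.leaf 417)) (.node (.leaf 369) (.leaf 126))) (.node (.node (.leaf 365) (.leaf 0)) (.node (.leaf 0) (.leaf 0)))) (.node (.node (.node (.leaf 287) (.leaf 0)) (.node (.leaf 0) (.leaf 0))) (.node (.node (.leaf 104) (.leaf 0)) (.node (.leaf 0) (.leaf 0))))))) (.node (.node (.node (.node (.node (.node (.leaf 402) (.leaf 0)) (.node (.leaf 0) (.leaf 0))) (.node (.node (.leaf 0) (.leaf 150)) (.node (.leaf 243) (.leaf 305)))) (.node (.node (.node (.leaf 0) (.leaf 201)) (.node (.leaf 262) (.leaf 170))) (.node (.node (.leaf 0) (.leaf 360)) (.node (.leaf 134) (.leaf 403))))) (.node (.node (.node (.node (.leaf 0) (.leaf 155)) (.node (.leaf 335) (.leaf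 561))) (.node (.node (.leaf 182) (.leaf 0)) (.node (.leaf 0) (.leaf 0)))) (.node (.node (.node (.leaf 304) (.leaf 0)) (.node (.leaf 0) (.leaf 0))) (.node (.node (.leaf 532) (.leaf 0)) (.node (.leaf 0) (.leaf 0)))))) (.node (.node (.node (.node (.node (.leaf 0) (.leaf 571)) (.node (.leaf 87) (.leaf 692))) (.node (.node (.leaf 643) (.leaf 0)) (.node (.leaf 0) (.leaf 0)))) (.node (.node (.node (.leaf 115) (.leaf 0)) (.node (.leaf 0) (.leaf 0))) (.node (.node (.leaf 688) (.leaf 0)) (.node (.leaf 0) (.leaf 0))))) (.node (.node (.node (.node (.leaf 0) (.leaf 247)) (.node (.leaf 555) (.leaf 539))) (.node (.node (.leaf 206) (.leaf 0)) (.node (.leaf 0) (.leaf 0)))) (.node (.node (.node (.leaf 629) (.leaf 0)) (.node (.leaf 0) (.leaf 0))) (.node (.node (.leaf 522) (.leaf 0)) (.node (.leaf 0) (.leaf 0))))))))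

/-- Part of `posT`. -/
def posT_p0101 : Tr := .node (.node (.node (.node (.node (.node (.node (.node (.leaf 60) (.leaf 0)) (.node (.leaf 0) (.leaf 0))) (.node (.node (.leaf 0) (.leaf 257)) (.node (.leaf 97) (.leaf 117)))) (.node (.node (.node (.leaf 0) (.leaf 120)) (.node (.leaf 576) (.leaf 604))) (.node (.node (.leaf 0) (.leaf 89)) (.node (.leaf 531) (.leaf 270))))) (.node (.node (.node (.node (.leaf 0) (.leaf 593)) (.node (.leaf 118) (.leaf 419))) (.node (.node (.leaf 633) (.leaf 0)) (.node (.leaf 0) (.leaf 0)))) (.node (.node (.node (.leaf 95) (.leaf 0)) (.node (.leaf 0) (.leaf 0))) (.node (.node (.leaf 350) (.leaf 0)) (.node (.leaf 0) (.leaf 0)))))) (.node (.node (.node (.node (.node (.leaf 0) (.leaf 3)) (.node (.leaf 677) (.leaf 509))) (.node (.node (.leaf 5) (.leaf 0)) (.node (.leaf 0) (.leaf 0)))) (.node (.node (.node (.leaf 647) (.leaf 0)) (.node (.leaf 0) (.leaf 0))) (.node (.node (.leaf 577) (.leaf 0)) (.node (.leaf 0) (.leaf 0))))) (.node (.node (.node (.node (.leaf 0) (.leaf 387)) (.node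 (.leaf 280) (.leaf 211))) (.node (.node (.leaf 429) (.leaf 0)) (.node (.leaf 0) (.leaf 0)))) (.node (.node (.node (.leaf 313) (.leaf 0)) (.node (.leaf 0) (.leaf 0))) (.node (.node (.leaf 294) (.leaf 0)) (.node (.leaf 0) (.leaf 0))))))) (.node (.node (.node (.node (.node (.node (.leaf 0) (.leaf 143)) (.node (.leaf 457) (.leaf 203))) (.node (.node (.leaf 210) (.leaf 0)) (.node (.leaf 0) (.leaf 0)))) (.node (.node (.node (.leaf 487) (.leaf 0)) (.node (.leaf 0) (.leaf 0))) (.node (.node (.leaf 245) (.leaf 0)) (.node (.leaf 0) (.leaf 0))))) (.node (.node (.node (.node (.leaf 269) (.leaf 0)) (.node (.leaf 0) (.leaf 0))) (.node (.node (.leaf 0) (.leaf 61)) (.node (.leaf 75) (.leaf 31)))) (.node (.node (.node (.leaf 0) (.leaf 59)) (.node (.leaf 550) (.leaf 476))) (.node (.node (.leaf 0) (.leaf 42)) (.node (.leaf 557) (.leaf 258)))))) (.node (.node (.node (.node (.node (.leaf 492) (.leaf 0)) (.node (.leaf 0) (.leaf 0))) (.node (.node (.leaf 0) (.leaf 30)) (.node (.leaf 683) (.leaf 614)))) (.node (.node (.node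 (.leaf 0) (.leaf 646)) (.node (.leaf 627) (.leaf 503))) (.node (.node (.leaf 0) (.leaf 541)) (.node (.leaf 459) (.leaf 81))))) (.node (.node (.node (.node (.leaf 342) (.leaf 0)) (.node (.leaf 0) (.leaf 0))) (.node (.node (.leaf 0) (.leaf 218)) (.node (.leaf 221) (.leaf 570)))) (.node (.node (.node (.leaf 0) (.leaf 246)) (.node (.leaf 341) (.leaf 207))) (.node (.node (.leaf 0) (.leaf 641)) (.node (.leaf 248) (.leaf 340)))))))) (.node (.node (.node (.node (.node (.node (.node (.leaf 0) (.leaf 331)) (.node (.leaf 156) (.leaf 178))) (.node (.node (.leaf 394) (.leaf 0)) (.node (.leaf 0) (.leaf 0)))) (.node (.node (.node (.leaf 220) (.leaf 0)) (.node (.leaf 0) (.leaf 0))) (.node (.node (.leaf 251) (.leaf 0)) (.node (.leaf 0) (.leaf 0))))) (.node (.node (.node (.node (.leaf 556) (.leaf 0)) (.node (.leaf 0) (.leaf 0))) (.node (.node (.leaf 0) (.leaf 128)) (.node (.leaf 284) (.leaf 45)))) (.node (.node (.node (.leaf 0) (.leaf 349)) (.node (.leaf 418) (.leaf 183))) (.node (.node (.leaf 0) (.leaf 35)) (.node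 (.leaf 121) (.leaf 55)))))) (.node (.node (.node (.node (.node (.leaf 10) (.leaf 0)) (.node (.leaf 0) (.leaf 0))) (.node (.node (.leaf 0) (.leaf 105)) (.node (.leaf 40) (.leaf 23)))) (.node (.node (.node (.leaf 0) (.leaf 28)) (.node (.leaf 673) (.leaf 608))) (.node (.node (.leaf 0) (.leaf 16)) (.node (.leaf 637) (.leaf 668))))) (.node (.node (.node (.node (.leaf 474) (.leaf 0)) (.node (.leaf 0) (.leaf 0))) (.node (.node (.leaf 0) (.leaf 90)) (.node (.leaf 20) (.leaf 181)))) (.node (.node (.node (.leaf 0) (.leaf 27)) (.node (.leaf 82) (.leaf 204))) (.node (.node (.leaf 0) (.leaf 154)) (.node (.leaf 283) (.leaf 488))))))) (.node (.node (.node (.node (.node (.node (.leaf 0) (.leaf 179)) (.node (.leaf 493) (.leaf 640))) (.node (.node (.leaf 152) (.leaf 0)) (.node (.leaf 0) (.leaf 0)))) (.node (.node (.node (.leaf 420) (.leaf 0)) (.node (.leaf 0) (.leaf 0))) (.node (.node (.leaf 569) (.leaf 0)) (.node (.leaf 0) (.leaf 0))))) (.node (.node (.node (.node (.leaf 149) (.leaf 0)) (.node (.leaf 0) (.leaf 0)))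 (.node (.node (.leaf 0) (.leaf 268)) (.node (.leaf 491) (.leaf 157)))) (.node (.node (.node (.leaf 0) (.leaf 436)) (.node (.leaf 261) (.leaf 438))) (.node (.node (.leaf 0) (.leaf 98)) (.node (.leaf 510) (.leaf 406)))))) (.node (.node (.node (.node (.node (.leaf 575) (.leaf 0)) (.node (.leaf 0) (.leaf 0))) (.node (.node (.leaf 0) (.leaf 49)) (.node (.leaf 618) (.leaf 533)))) (.node (.node (.node (.leaf 0) (.leaf 667)) (.node (.leaf 54) (.leaf 658))) (.node (.node (.leaf 0) (.leaf 573)) (.node (.leaf 678) (.leaf 546))))) (.node (.node (.node (.node (.leaf 234) (.leaf 0)) (.node (.leaf 0) (.leaf 0))) (.node (.node (.leaf 0) (.leaf 47)) (.node (.leaf 50) (.leaf 138)))) (.node (.node (.node (.leaf 0) (.leaf 69)) (.node (.leaf 598) (.leaf 479))) (.node (.node (.leaf 0) (.leaf 174)) (.node (.leaf 408) (.leaf 286))))))))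

/-- Part of `posT`. -/
def posT_p0110 : Tr := .node (.node (.node (.node (.node (.node (.node (.node (.leaf 333) (.leaf 0)) (.node (.leaf 0) (.leaf 0))) (.node (.node (.leaf 0) (.leaf 100)) (.node (.leaf 371) (.leaf 356)))) (.node (.node (.node (.leaf 0) (.leaf 425)) (.node (.leaf 196) (.leaf 566))) (.node (.node (.leaf 0) (.leaf 311)) (.node (.leaf 615) (.leaf 469))))) (.node (.node (.node (.node (.leaf 0) (.leaf 74)) (.node (.leaf 112) (.leaf 327))) (.node (.node (.leaf 58) (.leaf 0)) (.node (.leaf 0) (.leaf 0)))) (.node (.node (.node (.leaf 84) (.leaf 0)) (.node (.leaf 0) (.leaf 0))) (.node (.node (.leaf 289) (.leaf 0)) (.node (.leaf 0) (.leaf 0)))))) (.node (.node (.node (.node (.node (.leaf 0) (.leaf 504)) (.node (.leaf 113) (.leaf 675))) (.node (.node (.leaf 586) (.leaf 0)) (.node (.leaf 0) (.leaf 0)))) (.node (.node (.node (.leaf 85) (.leaf 0)) (.node (.leaf 0) (.leaf 0))) (.node (.node (.leaf 624) (.leaf 0)) (.node (.leaf 0) (.leaf 0))))) (.node (.node (.node (.node (.leaf 0) (.leaf 495))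 (.node (.leaf 321) (.leaf 379))) (.node (.node (.leaf 578) (.leaf 0)) (.node (.leaf 0) (.leaf 0)))) (.node (.node (.node (.leaf 277) (.leaf 0)) (.node (.leaf 0) (.leaf 0))) (.node (.node (.leaf 401) (.leaf 0)) (.node (.leaf 0) (.leaf 0))))))) (.node (.node (.node (.node (.node (.node (.leaf 0) (.leaf 233)) (.node (.leaf 562) (.leaf 548))) (.node (.node (.leaf 256) (.leaf 0)) (.node (.leaf 0) (.leaf 0)))) (.node (.node (.node (.leaf 480) (.leaf 0)) (.node (.leaf 0) (.leaf 0))) (.node (.node (.leaf 511) (.leaf 0)) (.node (.leaf 0) (.leaf 0))))) (.node (.node (.node (.node (.leaf 368) (.leaf 0)) (.node (.leaf 0) (.leaf 0))) (.node (.node (.leaf 0) (.leaf 78)) (.node (.leaf 364) (.leaf 451)))) (.node (.node (.node (.leaf 0) (.leaf 433)) (.node (.leaf 168) (.leaf 483))) (.node (.node (.leaf 0) (.leaf 380)) (.node (.leaf 564) (.leaf 516)))))) (.node (.node (.node (.node (.node (.leaf 544) (.leaf 0)) (.node (.leaf 0) (.leaf 0))) (.node (.node (.leaf 0) (.leaf 545)) (.node (.leaf 567) (.leaf 671)))) (.node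 (.node (.node (.leaf 0) (.leaf 486)) (.node (.leaf 56) (.leaf 651))) (.node (.node (.leaf 0) (.leaf 690)) (.node (.leaf 581) (.leaf 129))))) (.node (.node (.node (.node (.leaf 336) (.leaf 0)) (.node (.leaf 0) (.leaf 0))) (.node (.node (.leaf 0) (.leaf 194)) (.node (.leaf 238) (.leaf 137)))) (.node (.node (.node (.leaf 0) (.leaf 197)) (.node (.leaf 472) (.leaf 430))) (.node (.node (.leaf 0) (.leaf 173)) (.node (.leaf 381) (.leaf 215)))))))) (.node (.node (.node (.node (.node (.node (.node (.leaf 0) (.leaf 62)) (.node (.leaf 288) (.leaf 274))) (.node (.node (.leaf 76) (.leaf 0)) (.node (.leaf 0) (.leaf 0)))) (.node (.node (.node (.leaf 326) (.leaf 0)) (.node (.leaf 0) (.leaf 0))) (.node (.node (.leaf 318) (.leaf 0)) (.node (.leaf 0) (.leaf 0))))) (.node (.node (.node (.node (.leaf 94) (.leaf 0)) (.node (.leaf 0) (.leaf 0))) (.node (.node (.leaf 0) (.leaf 191)) (.node (.leaf 310) (.leaf 36)))) (.node (.node (.node (.leaf 0) (.leaf 384)) (.node (.leaf 465) (.leaf 324))) (.node (.node (.leaf 0) (.leaf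 48)) (.node (.leaf 282) (.leaf 466)))))) (.node (.node (.node (.node (.node (.leaf 655) (.leaf 0)) (.node (.leaf 0) (.leaf 0))) (.node (.node (.leaf 0) (.leaf 65)) (.node (.leaf 536) (.leaf 453)))) (.node (.node (.node (.leaf 0) (.leaf 464)) (.node (.leaf 21) (.leaf 669))) (.node (.node (.leaf 0) (.leaf 526)) (.node (.leaf 644) (.leaf 660))))) (.node (.node (.node (.node (.leaf 625) (.leaf 0)) (.node (.leaf 0) (.leaf 0))) (.node (.node (.leaf 0) (.leaf 99)) (.node (.leaf 334) (.leaf 171)))) (.node (.node (.node (.leaf 0) (.leaf 259)) (.node (.leaf 332) (.leaf 312))) (.node (.node (.leaf 0) (.leaf 135)) (.node (.leaf 316) (.leaf 195))))))) (.node (.node (.node (.node (.node (.node (.leaf 0) (.leaf 357)) (.node (.leaf 271) (.leaf 482))) (.node (.node (.leaf 390) (.leaf 0)) (.node (.leaf 0) (.leaf 0)))) (.node (.node (.node (.leaf 352) (.leaf 0)) (.node (.leaf 0) (.leaf 0))) (.node (.node (.leaf 411) (.leaf 0)) (.node (.leaf 0) (.leaf 0))))) (.node (.node (.node (.node (.leaf 131) (.leaf 0)) (.node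 (.leaf 0) (.leaf 0))) (.node (.node (.leaf 0) (.leaf 404)) (.node (.leaf 542) (.leaf 393)))) (.node (.node (.node (.leaf 0) (.leaf 621)) (.node (.leaf 145) (.leaf 315))) (.node (.node (.leaf 0) (.leaf 373)) (.node (.leaf 236) (.leaf 413)))))) (.node (.node (.node (.node (.node (.leaf 132) (.leaf 0)) (.node (.leaf 0) (.leaf 0))) (.node (.node (.leaf 0) (.leaf 398)) (.node (.leaf 11) (.leaf 638)))) (.node (.node (.node (.leaf 0) (.leaf 7)) (.node (.leaf 146) (.leaf 43))) (.node (.node (.leaf 0) (.leaf 563)) (.node (.leaf 32) (.leaf 679))))) (.node (.node (.node (.node (.leaf 348) (.leaf 0)) (.node (.leaf 0) (.leaf 0))) (.node (.node (.leaf 0) (.leaf 189)) (.node (.leaf 396) (.leaf 353)))) (.node (.node (.node (.leaf 0) (.leaf 461)) (.node (.leaf 92) (.leaf 529))) (.node (.node (.leaf 0) (.leaf 272)) (.node (.leaf 553) (.leaf 489))))))))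

/-- Part of `posT`. -/
def posT_p0111 : Tr := .node (.node (.node (.node (.node (.node (.node (.node (.leaf 442) (.leaf 0)) (.node (.leaf 0) (.leaf 0))) (.node (.node (.leaf 0) (.leaf 124)) (.node (.leaf 568) (.leaf 506)))) (.node (.node (.node (.leaf 0) (.leaf 520)) (.node (.leaf 443) (.leaf 449))) (.node (.node (.leaf 0) (.leaf 435)) (.node (.leaf 521) (.leaf 111))))) (.node (.node (.node (.node (.leaf 0) (.leaf 501)) (.node (.leaf 239) (.leaf 309))) (.node (.node (.leaf 439) (.leaf 0)) (.node (.leaf 0) (.leaf 0)))) (.node (.node (.node (.leaf 198) (.leaf 0)) (.node (.leaf 0) (.leaf 0))) (.node (.node (.leaf 383) (.leaf 0)) (.node (.leaf 0) (.leaf 0)))))) (.node (.node (.node (.node (.node (.leaf 0) (.leaf 672)) (.node (.leaf 502) (.leaf 52))) (.node (.node (.leaf 691) (.leaf 0)) (.node (.leaf 0) (.leaf 0)))) (.node (.node (.node (.leaf 583) (.leaf 0)) (.node (.leaf 0) (.leaf 0))) (.node (.node (.leaf 71) (.leaf 0)) (.node (.leaf 0) (.leaf 0))))) (.node (.node (.node (.node (.leaf 0) (.leaf 53))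 (.node (.leaf 547) (.leaf 226))) (.node (.node (.leaf 72) (.leaf 0)) (.node (.leaf 0) (.leaf 0)))) (.node (.node (.node (.leaf 468) (.leaf 0)) (.node (.leaf 0) (.leaf 0))) (.node (.node (.leaf 297) (.leaf 0)) (.node (.leaf 0) (.leaf 0))))))) (.node (.node (.node (.node (.node (.node (.leaf 0) (.leaf 375)) (.node (.leaf 591) (.leaf 169))) (.node (.node (.leaf 291) (.leaf 0)) (.node (.leaf 0) (.leaf 0)))) (.node (.node (.node (.leaf 630) (.leaf 0)) (.node (.leaf 0) (.leaf 0))) (.node (.node (.leaf 237) (.leaf 0)) (.node (.leaf 0) (.leaf 0))))) (.node (.node (.node (.node (.leaf 415) (.leaf 0)) (.node (.leaf 0) (.leaf 0))) (.node (.node (.leaf 0) (.leaf 144)) (.node (.leaf 590) (.leaf 535)))) (.node (.node (.node (.leaf 0) (.leaf 508)) (.node (.leaf 416) (.leaf 343))) (.node (.node (.leaf 0) (.leaf 462)) (.node (.leaf 409) (.leaf 130)))))) (.node (.node (.node (.node (.node (.leaf 109) (.leaf 0)) (.node (.leaf 0) (.leaf 0))) (.node (.node (.leaf 0) (.leaf 665)) (.node (.leaf 600) (.leaf 22)))) (.node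 (.node (.node (.leaf 0) (.leaf 635)) (.node (.leaf 441) (.leaf 41))) (.node (.node (.leaf 0) (.leaf 15)) (.node (.leaf 29) (.leaf 107))))) (.node (.node (.node (.node (.leaf 213) (.leaf 0)) (.node (.leaf 0) (.leaf 0))) (.node (.node (.leaf 0) (.leaf 346)) (.node (.leaf 431) (.leaf 497)))) (.node (.node (.node (.leaf 0) (.leaf 377)) (.node (.leaf 345) (.leaf 219))) (.node (.node (.leaf 0) (.leaf 426)) (.node (.leaf 302) (.leaf 192)))))))) (.node (.node (.node (.node (.node (.node (.node (.leaf 0) (.leaf 80)) (.node (.leaf 490) (.leaf 444))) (.node (.node (.leaf 64) (.leaf 0)) (.node (.leaf 0) (.leaf 0)))) (.node (.node (.node (.leaf 434) (.leaf 0)) (.node (.leaf 0) (.leaf 0))) (.node (.node (.leaf 370) (.leaf 0)) (.node (.leaf 0) (.leaf 0))))) (.node (.node (.node (.node (.leaf 367) (.leaf 0)) (.node (.leaf 0) (.leaf 0))) (.node (.node (.leaf 0) (.leaf 77)) (.node (.leaf 164) (.leaf 296)))) (.node (.node (.node (.leaf 0) (.leaf 230)) (.node (.leaf 167) (.leaf 445))) (.node (.node (.leaf 0) (.leaf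 212)) (.node (.leaf 517) (.leaf 611)))))) (.node (.node (.node (.node (.node (.leaf 689) (.leaf 0)) (.node (.leaf 0) (.leaf 0))) (.node (.node (.leaf 0) (.leaf 37)) (.node (.leaf 617) (.leaf 538)))) (.node (.node (.node (.leaf 0) (.leaf 666)) (.node (.leaf 597) (.leaf 602))) (.node (.node (.leaf 0) (.leaf 613)) (.node (.leaf 524) (.leaf 38))))) (.node (.node (.node (.node (.leaf 110) (.leaf 0)) (.node (.leaf 0) (.leaf 0))) (.node (.node (.leaf 0) (.leaf 108)) (.node (.leaf 123) (.leaf 319)))) (.node (.node (.node (.leaf 0) (.leaf 102)) (.node (.leaf 584) (.leaf 432))) (.node (.node (.leaf 0) (.leaf 275)) (.node (.leaf 363) (.leaf 440))))))) (.node (.node (.node (.node (.node (.node (.leaf 0) (.leaf 450)) (.node (.leaf 374) (.leaf 519))) (.node (.node (.leaf 505) (.leaf 0)) (.node (.leaf 0) (.leaf 0)))) (.node (.node (.node (.leaf 389) (.leaf 0)) (.node (.leaf 0) (.leaf 0))) (.node (.node (.leaf 559) (.leaf 0)) (.node (.leaf 0) (.leaf 0))))) (.node (.node (.node (.node (.leaf 266) (.leaf 0)) (.node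 (.leaf 0) (.leaf 0))) (.node (.node (.leaf 0) (.leaf 299)) (.node (.leaf 116) (.leaf 376)))) (.node (.node (.node (.leaf 0) (.leaf 88)) (.node (.leaf 264) (.leaf 392))) (.node (.node (.leaf 0) (.leaf 447)) (.node (.leaf 359) (.leaf 265)))))) (.node (.node (.node (.node (.node (.leaf 515) (.leaf 0)) (.node (.leaf 0) (.leaf 0))) (.node (.node (.leaf 0) (.leaf 654)) (.node (.leaf 528) (.leaf 657)))) (.node (.node (.node (.leaf 0) (.leaf 588)) (.node (.leaf 66) (.leaf 582))) (.node (.node (.leaf 0) (.leaf 681)) (.node (.leaf 513) (.leaf 67))))) (.node (.node (.node (.node (.leaf 399) (.leaf 0)) (.node (.leaf 0) (.leaf 0))) (.node (.node (.leaf 0) (.leaf 159)) (.node (.leaf 612) (.leaf 500)))) (.node (.node (.node (.leaf 0) (.leaf 537)) (.node (.leaf 400) (.leaf 386))) (.node (.node (.leaf 0) (.leaf 446)) (.node (.leaf 412) (.leaf 151))))))))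

/-- Part of `posT`. -/
def posT_p1000 : Tr := .node (.node (.node (.node (.node (.node (.node (.node (.leaf 0) (.leaf 481)) (.node (.leaf 9) (.leaf 552))) (.node (.node (.leaf 410) (.leaf 0)) (.node (.leaf 0) (.leaf 0)))) (.node (.node (.node (.leaf 14) (.leaf 0)) (.node (.leaf 0) (.leaf 0))) (.node (.node (.leaf 471) (.leaf 0)) (.node (.leaf 0) (.leaf 0))))) (.node (.node (.node (.node (.leaf 190) (.leaf 0)) (.node (.leaf 0) (.leaf 0))) (.node (.node (.leaf 0) (.leaf 93)) (.node (.leaf 254) (.leaf 554)))) (.node (.node (.node (.leaf 0) (.leaf 186)) (.node (.leaf 347) (.leaf 293))) (.node (.node (.leaf 0) (.leaf 619)) (.node (.leaf 325) (.leaf 473)))))) (.node (.node (.node (.node (.node (.leaf 148) (.leaf 0)) (.node (.leaf 0) (.leaf 0))) (.node (.node (.leaf 0) (.leaf 414)) (.node (.leaf 361) (.leaf 565)))) (.node (.node (.node (.leaf 0) (.leaf 292)) (.node (.leaf 267) (.leaf 160))) (.node (.node (.leaf 0) (.leaf 484)) (.node (.leaf 223) (.leaf 260))))) (.node (.node (.node (.node (.leaf 664) (.leaf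 0)) (.node (.leaf 0) (.leaf 0))) (.node (.node (.leaf 0) (.leaf 242)) (.node (.leaf 560) (.leaf 639)))) (.node (.node (.node (.leaf 0) (.leaf 634)) (.node (.leaf 13) (.leaf 609))) (.node (.node (.leaf 0) (.leaf 686)) (.node (.leaf 636) (.leaf 139))))))) (.node (.node (.node (.node (.node (.node (.leaf 402) (.leaf 0)) (.node (.leaf 0) (.leaf 0))) (.node (.node (.leaf 0) (.leaf 403)) (.node (.leaf 360) (.leaf 134)))) (.node (.node (.node (.leaf 0) (.leaf 305)) (.node (.leaf 150) (.leaf 243))) (.node (.node (.leaf 0) (.leaf 170)) (.node (.leaf 201) (.leaf 262))))) (.node (.node (.node (.node (.leaf 0) (.leaf 539)) (.node (.leaf 247) (.leaf 555))) (.node (.node (.leaf 522) (.leaf 0)) (.node (.leaf 0) (.leaf 0)))) (.node (.node (.node (.leaf 206) (.leaf 0)) (.node (.leaf 0) (.leaf 0))) (.node (.node (.leaf 629) (.leaf 0)) (.node (.leaf 0) (.leaf 0)))))) (.node (.node (.node (.node (.node (.leaf 0) (.leaf 561)) (.node (.leaf 155) (.leaf 335))) (.node (.node (.leaf 532) (.leaf 0)) (.node (.leaf 0) (.leaf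 0)))) (.node (.node (.node (.leaf 182) (.leaf 0)) (.node (.leaf 0) (.leaf 0))) (.node (.node (.leaf 304) (.leaf 0)) (.node (.leaf 0) (.leaf 0))))) (.node (.node (.node (.node (.leaf 0) (.leaf 692)) (.node (.leaf 571) (.leaf 87))) (.node (.node (.leaf 688) (.leaf 0)) (.node (.leaf 0) (.leaf 0)))) (.node (.node (.node (.leaf 643) (.leaf 0)) (.node (.leaf 0) (.leaf 0))) (.node (.node (.leaf 115) (.leaf 0)) (.node (.leaf 0) (.leaf 0)))))))) (.node (.node (.node (.node (.node (.node (.node (.leaf 344) (.leaf 0)) (.node (.leaf 0) (.leaf 0))) (.node (.node (.leaf 0) (.leaf 214)) (.node (.leaf 175) (.leaf 295)))) (.node (.node (.node (.leaf 0) (.leaf 140)) (.node (.leaf 337) (.leaf 320))) (.node (.node (.leaf 0) (.leaf 378)) (.node (.leaf 276) (.leaf 193))))) (.node (.node (.node (.node (.leaf 0) (.leaf 57)) (.node (.leaf 229) (.leaf 477))) (.node (.node (.leaf 73) (.leaf 0)) (.node (.leaf 0) (.leaf 0)))) (.node (.node (.node (.leaf 163) (.leaf 0)) (.node (.leaf 0) (.leaf 0))) (.node (.node (.leaf 558) (.leaf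 0)) (.node (.leaf 0) (.leaf 0)))))) (.node (.node (.node (.node (.node (.leaf 0) (.leaf 485)) (.node (.leaf 279) (.leaf 642))) (.node (.node (.leaf 454) (.leaf 0)) (.node (.leaf 0) (.leaf 0)))) (.node (.node (.node (.leaf 322) (.leaf 0)) (.node (.leaf 0) (.leaf 0))) (.node (.node (.leaf 607) (.leaf 0)) (.node (.leaf 0) (.leaf 0))))) (.node (.node (.node (.node (.leaf 0) (.leaf 172)) (.node (.leaf 631) (.leaf 574))) (.node (.node (.leaf 136) (.leaf 0)) (.node (.leaf 0) (.leaf 0)))) (.node (.node (.node (.leaf 674) (.leaf 0)) (.node (.leaf 0) (.leaf 0))) (.node (.node (.leaf 645) (.leaf 0)) (.node (.leaf 0) (.leaf 0))))))) (.node (.node (.node (.node (.node (.node (.leaf 26) (.leaf 0)) (.node (.leaf 0) (.leaf 0))) (.node (.node (.leaf 0) (.leaf 205)) (.node (.leaf 308) (.leaf 253)))) (.node (.node (.node (.leaf 0) (.leaf 232)) (.node (.leaf 610) (.leaf 119))) (.node (.node (.leaf 0) (.leaf 228)) (.node (.leaf 96) (.leaf 314))))) (.node (.node (.node (.node (.leaf 0) (.leaf 126)) (.node (.leaf 417)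 (.leaf 369))) (.node (.node (.leaf 104) (.leaf 0)) (.node (.leaf 0) (.leaf 0)))) (.node (.node (.node (.leaf 365) (.leaf 0)) (.node (.leaf 0) (.leaf 0))) (.node (.node (.leaf 287) (.leaf 0)) (.node (.leaf 0) (.leaf 0)))))) (.node (.node (.node (.node (.node (.leaf 0) (.leaf 209)) (.node (.leaf 199) (.leaf 101))) (.node (.node (.leaf 250) (.leaf 0)) (.node (.leaf 0) (.leaf 0)))) (.node (.node (.node (.leaf 240) (.leaf 0)) (.node (.leaf 0) (.leaf 0))) (.node (.node (.leaf 122) (.leaf 0)) (.node (.leaf 0) (.leaf 0))))) (.node (.node (.node (.node (.leaf 0) (.leaf 603)) (.node (.leaf 6) (.leaf 662))) (.node (.node (.leaf 620) (.leaf 0)) (.node (.leaf 0) (.leaf 0)))) (.node (.node (.node (.leaf 4) (.leaf 0)) (.node (.leaf 0) (.leaf 0))) (.node (.node (.leaf 685) (.leaf 0)) (.node (.leaf 0) (.leaf 0))))))))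

/-- Part of `posT`. -/
def posT_p1001 : Tr := .node (.node (.node (.node (.node (.node (.node (.node (.leaf 442) (.leaf 0)) (.node (.leaf 0) (.leaf 0))) (.node (.node (.leaf 0) (.leaf 111)) (.node (.leaf 435) (.leaf 521)))) (.node (.node (.node (.leaf 0) (.leaf 506)) (.node (.leaf 124) (.leaf 568))) (.node (.node (.leaf 0) (.leaf 449)) (.node (.leaf 520) (.leaf 443))))) (.node (.node (.node (.node (.leaf 0) (.leaf 226)) (.node (.leaf 53) (.leaf 547))) (.node (.node (.leaf 297) (.leaf 0)) (.node (.leaf 0) (.leaf 0)))) (.node (.node (.node (.leaf 72) (.leaf 0)) (.node (.leaf 0) (.leaf 0))) (.node (.node (.leaf 468) (.leaf 0)) (.node (.leaf 0) (.leaf 0)))))) (.node (.node (.node (.node (.node (.leaf 0) (.leaf 309)) (.node (.leaf 501) (.leaf 239))) (.node (.node (.leaf 383) (.leaf 0)) (.node (.leaf 0) (.leaf 0)))) (.node (.node (.node (.leaf 439) (.leaf 0)) (.node (.leaf 0) (.leaf 0))) (.node (.node (.leaf 198) (.leaf 0)) (.node (.leaf 0) (.leaf 0))))) (.node (.node (.node (.node (.leaf 0) (.leaf 52))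 (.node (.leaf 672) (.leaf 502))) (.node (.node (.leaf 71) (.leaf 0)) (.node (.leaf 0) (.leaf 0)))) (.node (.node (.node (.leaf 691) (.leaf 0)) (.node (.leaf 0) (.leaf 0))) (.node (.node (.leaf 583) (.leaf 0)) (.node (.leaf 0) (.leaf 0))))))) (.node (.node (.node (.node (.node (.node (.leaf 0) (.leaf 519)) (.node (.leaf 450) (.leaf 374))) (.node (.node (.leaf 559) (.leaf 0)) (.node (.leaf 0) (.leaf 0)))) (.node (.node (.node (.leaf 505) (.leaf 0)) (.node (.leaf 0) (.leaf 0))) (.node (.node (.leaf 389) (.leaf 0)) (.node (.leaf 0) (.leaf 0))))) (.node (.node (.node (.node (.leaf 399) (.leaf 0)) (.node (.leaf 0) (.leaf 0))) (.node (.node (.leaf 0) (.leaf 151)) (.node (.leaf 446) (.leaf 412)))) (.node (.node (.node (.leaf 0) (.leaf 500)) (.node (.leaf 159) (.leaf 612))) (.node (.node (.leaf 0) (.leaf 386)) (.node (.leaf 537) (.leaf 400)))))) (.node (.node (.node (.node (.node (.leaf 266) (.leaf 0)) (.node (.leaf 0) (.leaf 0))) (.node (.node (.leaf 0) (.leaf 265)) (.node (.leaf 447) (.leaf 359)))) (.node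 (.node (.node (.leaf 0) (.leaf 376)) (.node (.leaf 299) (.leaf 116))) (.node (.node (.leaf 0) (.leaf 392)) (.node (.leaf 88) (.leaf 264))))) (.node (.node (.node (.node (.leaf 515) (.leaf 0)) (.node (.leaf 0) (.leaf 0))) (.node (.node (.leaf 0) (.leaf 67)) (.node (.leaf 681) (.leaf 513)))) (.node (.node (.node (.leaf 0) (.leaf 657)) (.node (.leaf 654) (.leaf 528))) (.node (.node (.leaf 0) (.leaf 582)) (.node (.leaf 588) (.leaf 66)))))))) (.node (.node (.node (.node (.node (.node (.node (.leaf 0) (.leaf 169)) (.node (.leaf 375) (.leaf 591))) (.node (.node (.leaf 237) (.leaf 0)) (.node (.leaf 0) (.leaf 0)))) (.node (.node (.node (.leaf 291) (.leaf 0)) (.node (.leaf 0) (.leaf 0))) (.node (.node (.leaf 630) (.leaf 0)) (.node (.leaf 0) (.leaf 0))))) (.node (.node (.node (.node (.leaf 213) (.leaf 0)) (.node (.leaf 0) (.leaf 0))) (.node (.node (.leaf 0) (.leaf 192)) (.node (.leaf 426) (.leaf 302)))) (.node (.node (.node (.leaf 0) (.leaf 497)) (.node (.leaf 346) (.leaf 431))) (.node (.node (.leaf 0) (.leaf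 219)) (.node (.leaf 377) (.leaf 345)))))) (.node (.node (.node (.node (.node (.leaf 415) (.leaf 0)) (.node (.leaf 0) (.leaf 0))) (.node (.node (.leaf 0) (.leaf 130)) (.node (.leaf 462) (.leaf 409)))) (.node (.node (.node (.leaf 0) (.leaf 535)) (.node (.leaf 144) (.leaf 590))) (.node (.node (.leaf 0) (.leaf 343)) (.node (.leaf 508) (.leaf 416))))) (.node (.node (.node (.node (.leaf 109) (.leaf 0)) (.node (.leaf 0) (.leaf 0))) (.node (.node (.leaf 0) (.leaf 107)) (.node (.leaf 15) (.leaf 29)))) (.node (.node (.node (.leaf 0) (.leaf 22)) (.node (.leaf 665) (.leaf 600))) (.node (.node (.leaf 0) (.leaf 41)) (.node (.leaf 635) (.leaf 441))))))) (.node (.node (.node (.node (.node (.node (.leaf 0) (.leaf 444)) (.node (.leaf 80) (.leaf 490))) (.node (.node (.leaf 370) (.leaf 0)) (.node (.leaf 0) (.leaf 0)))) (.node (.node (.node (.leaf 64) (.leaf 0)) (.node (.leaf 0) (.leaf 0))) (.node (.node (.leaf 434) (.leaf 0)) (.node (.leaf 0) (.leaf 0))))) (.node (.node (.node (.node (.leaf 110) (.leaf 0)) (.node (.leaf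 0) (.leaf 0))) (.node (.node (.leaf 0) (.leaf 440)) (.node (.leaf 275) (.leaf 363)))) (.node (.node (.node (.leaf 0) (.leaf 319)) (.node (.leaf 108) (.leaf 123))) (.node (.node (.leaf 0) (.leaf 432)) (.node (.leaf 102) (.leaf 584)))))) (.node (.node (.node (.node (.node (.leaf 367) (.leaf 0)) (.node (.leaf 0) (.leaf 0))) (.node (.node (.leaf 0) (.leaf 611)) (.node (.leaf 212) (.leaf 517)))) (.node (.node (.node (.leaf 0) (.leaf 296)) (.node (.leaf 77) (.leaf 164))) (.node (.node (.leaf 0) (.leaf 445)) (.node (.leaf 230) (.leaf 167))))) (.node (.node (.node (.node (.leaf 689) (.leaf 0)) (.node (.leaf 0) (.leaf 0))) (.node (.node (.leaf 0) (.leaf 38)) (.node (.leaf 613) (.leaf 524)))) (.node (.node (.node (.leaf 0) (.leaf 538)) (.node (.leaf 37) (.leaf 617))) (.node (.node (.leaf 0) (.leaf 602)) (.node (.leaf 666) (.leaf 597))))))))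

/-- Part of `posT`. -/
def posT_p1010 : Tr := .node (.node (.node (.node (.node (.node (.node (.node (.leaf 60) (.leaf 0)) (.node (.leaf 0) (.leaf 0))) (.node (.node (.leaf 0) (.leaf 270)) (.node (.leaf 89) (.leaf 531)))) (.node (.node (.node (.leaf 0) (.leaf 117)) (.node (.leaf 257) (.leaf 97))) (.node (.node (.leaf 0) (.leaf 604)) (.node (.leaf 120) (.leaf 576))))) (.node (.node (.node (.node (.leaf 0) (.leaf 211)) (.node (.leaf 387) (.leaf 280))) (.node (.node (.leaf 294) (.leaf 0)) (.node (.leaf 0) (.leaf 0)))) (.node (.node (.node (.leaf 429) (.leaf 0)) (.node (.leaf 0) (.leaf 0))) (.node (.node (.leaf 313) (.leaf 0)) (.node (.leaf 0) (.leaf 0)))))) (.node (.node (.node (.node (.node (.leaf 0) (.leaf 419)) (.node (.leaf 593) (.leaf 118))) (.node (.node (.leaf 350) (.leaf 0)) (.node (.leaf 0) (.leaf 0)))) (.node (.node (.node (.leaf 633) (.leaf 0)) (.node (.leaf 0) (.leaf 0))) (.node (.node (.leaf 95) (.leaf 0)) (.node (.leaf 0) (.leaf 0))))) (.node (.node (.node (.node (.leaf 0) (.leaf 509))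 (.node (.leaf 3) (.leaf 677))) (.node (.node (.leaf 577) (.leaf 0)) (.node (.leaf 0) (.leaf 0)))) (.node (.node (.node (.leaf 5) (.leaf 0)) (.node (.leaf 0) (.leaf 0))) (.node (.node (.leaf 647) (.leaf 0)) (.node (.leaf 0) (.leaf 0))))))) (.node (.node (.node (.node (.node (.node (.leaf 0) (.leaf 640)) (.node (.leaf 179) (.leaf 493))) (.node (.node (.leaf 569) (.leaf 0)) (.node (.leaf 0) (.leaf 0)))) (.node (.node (.node (.leaf 152) (.leaf 0)) (.node (.leaf 0) (.leaf 0))) (.node (.node (.leaf 420) (.leaf 0)) (.node (.leaf 0) (.leaf 0))))) (.node (.node (.node (.node (.leaf 234) (.leaf 0)) (.node (.leaf 0) (.leaf 0))) (.node (.node (.leaf 0) (.leaf 286)) (.node (.leaf 174) (.leaf 408)))) (.node (.node (.node (.leaf 0) (.leaf 138)) (.node (.leaf 47) (.leaf 50))) (.node (.node (.leaf 0) (.leaf 479)) (.node (.leaf 69) (.leaf 598)))))) (.node (.node (.node (.node (.node (.leaf 149) (.leaf 0)) (.node (.leaf 0) (.leaf 0))) (.node (.node (.leaf 0) (.leaf 406)) (.node (.leaf 98) (.leaf 510)))) (.node (.node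 (.node (.leaf 0) (.leaf 157)) (.node (.leaf 268) (.leaf 491))) (.node (.node (.leaf 0) (.leaf 438)) (.node (.leaf 436) (.leaf 261))))) (.node (.node (.node (.node (.leaf 575) (.leaf 0)) (.node (.leaf 0) (.leaf 0))) (.node (.node (.leaf 0) (.leaf 546)) (.node (.leaf 573) (.leaf 678)))) (.node (.node (.node (.leaf 0) (.leaf 533)) (.node (.leaf 49) (.leaf 618))) (.node (.node (.leaf 0) (.leaf 658)) (.node (.leaf 667) (.leaf 54)))))))) (.node (.node (.node (.node (.node (.node (.node (.leaf 0) (.leaf 203)) (.node (.leaf 143) (.leaf 457))) (.node (.node (.leaf 245) (.leaf 0)) (.node (.leaf 0) (.leaf 0)))) (.node (.node (.node (.leaf 210) (.leaf 0)) (.node (.leaf 0) (.leaf 0))) (.node (.node (.leaf 487) (.leaf 0)) (.node (.leaf 0) (.leaf 0))))) (.node (.node (.node (.node (.leaf 342) (.leaf 0)) (.node (.leaf 0) (.leaf 0))) (.node (.node (.leaf 0) (.leaf 340)) (.node (.leaf 641) (.leaf 248)))) (.node (.node (.node (.leaf 0) (.leaf 570)) (.node (.leaf 218) (.leaf 221))) (.node (.node (.leaf 0) (.leaf 207))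 (.node (.leaf 246) (.leaf 341)))))) (.node (.node (.node (.node (.node (.leaf 269) (.leaf 0)) (.node (.leaf 0) (.leaf 0))) (.node (.node (.leaf 0) (.leaf 258)) (.node (.leaf 42) (.leaf 557)))) (.node (.node (.node (.leaf 0) (.leaf 31)) (.node (.leaf 61) (.leaf 75))) (.node (.node (.leaf 0) (.leaf 476)) (.node (.leaf 59) (.leaf 550))))) (.node (.node (.node (.node (.leaf 492) (.leaf 0)) (.node (.leaf 0) (.leaf 0))) (.node (.node (.leaf 0) (.leaf 81)) (.node (.leaf 541) (.leaf 459)))) (.node (.node (.node (.leaf 0) (.leaf 614)) (.node (.leaf 30) (.leaf 683))) (.node (.node (.leaf 0) (.leaf 503)) (.node (.leaf 646) (.leaf 627))))))) (.node (.node (.node (.node (.node (.node (.leaf 0) (.leaf 178)) (.node (.leaf 331) (.leaf 156))) (.node (.node (.leaf 251) (.leaf 0)) (.node (.leaf 0) (.leaf 0)))) (.node (.node (.node (.leaf 394) (.leaf 0)) (.node (.leaf 0) (.leaf 0))) (.node (.node (.leaf 220) (.leaf 0)) (.node (.leaf 0) (.leaf 0))))) (.node (.node (.node (.node (.leaf 474) (.leaf 0)) (.node (.leaf 0)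 (.leaf 0))) (.node (.node (.leaf 0) (.leaf 488)) (.node (.leaf 154) (.leaf 283)))) (.node (.node (.node (.leaf 0) (.leaf 181)) (.node (.leaf 90) (.leaf 20))) (.node (.node (.leaf 0) (.leaf 204)) (.node (.leaf 27) (.leaf 82)))))) (.node (.node (.node (.node (.node (.leaf 556) (.leaf 0)) (.node (.leaf 0) (.leaf 0))) (.node (.node (.leaf 0) (.leaf 55)) (.node (.leaf 35) (.leaf 121)))) (.node (.node (.node (.leaf 0) (.leaf 45)) (.node (.leaf 128) (.leaf 284))) (.node (.node (.leaf 0) (.leaf 183)) (.node (.leaf 349) (.leaf 418))))) (.node (.node (.node (.node (.leaf 10) (.leaf 0)) (.node (.leaf 0) (.leaf 0))) (.node (.node (.leaf 0) (.leaf 668)) (.node (.leaf 16) (.leaf 637)))) (.node (.node (.node (.leaf 0) (.leaf 23)) (.node (.leaf 105) (.leaf 40))) (.node (.node (.leaf 0) (.leaf 608)) (.node (.leaf 28) (.leaf 673))))))))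

/-- Part of `posT`. -/
def posT_p1011 : Tr := .node (.node (.node (.node (.node (.node (.node (.node (.leaf 333) (.leaf 0)) (.node (.leaf 0) (.leaf 0))) (.node (.node (.leaf 0) (.leaf 469)) (.node (.leaf 311) (.leaf 615)))) (.node (.node (.node (.leaf 0) (.leaf 356)) (.node (.leaf 100) (.leaf 371))) (.node (.node (.leaf 0) (.leaf 566)) (.node (.leaf 425) (.leaf 196))))) (.node (.node (.node (.node (.leaf 0) (.leaf 379)) (.node (.leaf 495) (.leaf 321))) (.node (.node (.leaf 401) (.leaf 0)) (.node (.leaf 0) (.leaf 0)))) (.node (.node (.node (.leaf 578) (.leaf 0)) (.node (.leaf 0) (.leaf 0))) (.node (.node (.leaf 277) (.leaf 0)) (.node (.leaf 0) (.leaf 0)))))) (.node (.node (.node (.node (.node (.leaf 0) (.leaf 327)) (.node (.leaf 74) (.leaf 112))) (.node (.node (.leaf 289) (.leaf 0)) (.node (.leaf 0) (.leaf 0)))) (.node (.node (.node (.leaf 58) (.leaf 0)) (.node (.leaf 0) (.leaf 0))) (.node (.node (.leaf 84) (.leaf 0)) (.node (.leaf 0) (.leaf 0))))) (.node (.node (.node (.node (.leaf 0) (.leaf 675))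 (.node (.leaf 504) (.leaf 113))) (.node (.node (.leaf 624) (.leaf 0)) (.node (.leaf 0) (.leaf 0)))) (.node (.node (.node (.leaf 586) (.leaf 0)) (.node (.leaf 0) (.leaf 0))) (.node (.node (.leaf 85) (.leaf 0)) (.node (.leaf 0) (.leaf 0))))))) (.node (.node (.node (.node (.node (.node (.leaf 0) (.leaf 482)) (.node (.leaf 357) (.leaf 271))) (.node (.node (.leaf 411) (.leaf 0)) (.node (.leaf 0) (.leaf 0)))) (.node (.node (.node (.leaf 390) (.leaf 0)) (.node (.leaf 0) (.leaf 0))) (.node (.node (.leaf 352) (.leaf 0)) (.node (.leaf 0) (.leaf 0))))) (.node (.node (.node (.node (.leaf 348) (.leaf 0)) (.node (.leaf 0) (.leaf 0))) (.node (.node (.leaf 0) (.leaf 489)) (.node (.leaf 272) (.leaf 553)))) (.node (.node (.node (.leaf 0) (.leaf 353)) (.node (.leaf 189) (.leaf 396))) (.node (.node (.leaf 0) (.leaf 529)) (.node (.leaf 461) (.leaf 92)))))) (.node (.node (.node (.node (.node (.leaf 131) (.leaf 0)) (.node (.leaf 0) (.leaf 0))) (.node (.node (.leaf 0) (.leaf 413)) (.node (.leaf 373) (.leaf 236)))) (.node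 (.node (.node (.leaf 0) (.leaf 393)) (.node (.leaf 404) (.leaf 542))) (.node (.node (.leaf 0) (.leaf 315)) (.node (.leaf 621) (.leaf 145))))) (.node (.node (.node (.node (.leaf 132) (.leaf 0)) (.node (.leaf 0) (.leaf 0))) (.node (.node (.leaf 0) (.leaf 679)) (.node (.leaf 563) (.leaf 32)))) (.node (.node (.node (.leaf 0) (.leaf 638)) (.node (.leaf 398) (.leaf 11))) (.node (.node (.leaf 0) (.leaf 43)) (.node (.leaf 7) (.leaf 146)))))))) (.node (.node (.node (.node (.node (.node (.node (.leaf 0) (.leaf 548)) (.node (.leaf 233) (.leaf 562))) (.node (.node (.leaf 511) (.leaf 0)) (.node (.leaf 0) (.leaf 0)))) (.node (.node (.node (.leaf 256) (.leaf 0)) (.node (.leaf 0) (.leaf 0))) (.node (.node (.leaf 480) (.leaf 0)) (.node (.leaf 0) (.leaf 0))))) (.node (.node (.node (.node (.leaf 336) (.leaf 0)) (.node (.leaf 0) (.leaf 0))) (.node (.node (.leaf 0) (.leaf 215)) (.node (.leaf 173) (.leaf 381)))) (.node (.node (.node (.leaf 0) (.leaf 137)) (.node (.leaf 194) (.leaf 238))) (.node (.node (.leaf 0) (.leaf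 430)) (.node (.leaf 197) (.leaf 472)))))) (.node (.node (.node (.node (.node (.leaf 368) (.leaf 0)) (.node (.leaf 0) (.leaf 0))) (.node (.node (.leaf 0) (.leaf 516)) (.node (.leaf 380) (.leaf 564)))) (.node (.node (.node (.leaf 0) (.leaf 451)) (.node (.leaf 78) (.leaf 364))) (.node (.node (.leaf 0) (.leaf 483)) (.node (.leaf 433) (.leaf 168))))) (.node (.node (.node (.node (.leaf 544) (.leaf 0)) (.node (.leaf 0) (.leaf 0))) (.node (.node (.leaf 0) (.leaf 129)) (.node (.leaf 690) (.leaf 581)))) (.node (.node (.node (.leaf 0) (.leaf 671)) (.node (.leaf 545) (.leaf 567))) (.node (.node (.leaf 0) (.leaf 651)) (.node (.leaf 486) (.leaf 56))))))) (.node (.node (.node (.node (.node (.node (.leaf 0) (.leaf 274)) (.node (.leaf 62) (.leaf 288))) (.node (.node (.leaf 318) (.leaf 0)) (.node (.leaf 0) (.leaf 0)))) (.node (.node (.node (.leaf 76) (.leaf 0)) (.node (.leaf 0) (.leaf 0))) (.node (.node (.leaf 326) (.leaf 0)) (.node (.leaf 0) (.leaf 0))))) (.node (.node (.node (.node (.leaf 625) (.leaf 0)) (.node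 (.leaf 0) (.leaf 0))) (.node (.node (.leaf 0) (.leaf 195)) (.node (.leaf 135) (.leaf 316)))) (.node (.node (.node (.leaf 0) (.leaf 171)) (.node (.leaf 99) (.leaf 334))) (.node (.node (.leaf 0) (.leaf 312)) (.node (.leaf 259) (.leaf 332)))))) (.node (.node (.node (.node (.node (.leaf 94) (.leaf 0)) (.node (.leaf 0) (.leaf 0))) (.node (.node (.leaf 0) (.leaf 466)) (.node (.leaf 48) (.leaf 282)))) (.node (.node (.node (.leaf 0) (.leaf 36)) (.node (.leaf 191) (.leaf 310))) (.node (.node (.leaf 0) (.leaf 324)) (.node (.leaf 384) (.leaf 465))))) (.node (.node (.node (.node (.leaf 655) (.leaf 0)) (.node (.leaf 0) (.leaf 0))) (.node (.node (.leaf 0) (.leaf 660)) (.node (.leaf 526) (.leaf 644)))) (.node (.node (.node (.leaf 0) (.leaf 453)) (.node (.leaf 65) (.leaf 536))) (.node (.node (.leaf 0) (.leaf 669)) (.node (.leaf 464) (.leaf 21))))))))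

/-- Part of `posT`. -/
def posT_p1100 : Tr := .node (.node (.node (.node (.node (.node (.node (.node (.leaf 0) (.leaf 552)) (.node (.leaf 481) (.leaf 9))) (.node (.node (.leaf 471) (.leaf 0)) (.node (.leaf 0) (.leaf 0)))) (.node (.node (.node (.leaf 410) (.leaf 0)) (.node (.leaf 0) (.leaf 0))) (.node (.node (.leaf 14) (.leaf 0)) (.node (.leaf 0) (.leaf 0))))) (.node (.node (.node (.node (.leaf 664) (.leaf 0)) (.node (.leaf 0) (.leaf 0))) (.node (.node (.leaf 0) (.leaf 139)) (.node (.leaf 686) (.leaf 636)))) (.node (.node (.node (.leaf 0) (.leaf 639)) (.node (.leaf 242) (.leaf 560))) (.node (.node (.leaf 0) (.leaf 609)) (.node (.leaf 634) (.leaf 13)))))) (.node (.node (.node (.node (.node (.leaf 190) (.leaf 0)) (.node (.leaf 0) (.leaf 0))) (.node (.node (.leaf 0) (.leaf 473)) (.node (.leaf 619) (.leaf 325)))) (.node (.node (.node (.leaf 0) (.leaf 554)) (.node (.leaf 93) (.leaf 254))) (.node (.node (.leaf 0) (.leaf 293)) (.node (.leaf 186) (.leaf 347))))) (.node (.node (.node (.node (.leaf 148) (.leaf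 0)) (.node (.leaf 0) (.leaf 0))) (.node (.node (.leaf 0) (.leaf 260)) (.node (.leaf 484) (.leaf 223)))) (.node (.node (.node (.leaf 0) (.leaf 565)) (.node (.leaf 414) (.leaf 361))) (.node (.node (.leaf 0) (.leaf 160)) (.node (.leaf 292) (.leaf 267))))))) (.node (.node (.node (.node (.node (.node (.leaf 26) (.leaf 0)) (.node (.leaf 0) (.leaf 0))) (.node (.node (.leaf 0) (.leaf 314)) (.node (.leaf 228) (.leaf 96)))) (.node (.node (.node (.leaf 0) (.leaf 253)) (.node (.leaf 205) (.leaf 308))) (.node (.node (.leaf 0) (.leaf 119)) (.node (.leaf 232) (.leaf 610))))) (.node (.node (.node (.node (.leaf 0) (.leaf 662)) (.node (.leaf 603) (.leaf 6))) (.node (.node (.leaf 685) (.leaf 0)) (.node (.leaf 0) (.leaf 0)))) (.node (.node (.node (.leaf 620) (.leaf 0)) (.node (.leaf 0) (.leaf 0))) (.node (.node (.leaf 4) (.leaf 0)) (.node (.leaf 0) (.leaf 0)))))) (.node (.node (.node (.node (.node (.leaf 0) (.leaf 369)) (.node (.leaf 126) (.leaf 417))) (.node (.node (.leaf 287) (.leaf 0)) (.node (.leaf 0) (.leaf 0))))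 (.node (.node (.node (.leaf 104) (.leaf 0)) (.node (.leaf 0) (.leaf 0))) (.node (.node (.leaf 365) (.leaf 0)) (.node (.leaf 0) (.leaf 0))))) (.node (.node (.node (.node (.leaf 0) (.leaf 101)) (.node (.leaf 209) (.leaf 199))) (.node (.node (.leaf 122) (.leaf 0)) (.node (.leaf 0) (.leaf 0)))) (.node (.node (.node (.leaf 250) (.leaf 0)) (.node (.leaf 0) (.leaf 0))) (.node (.node (.leaf 240) (.leaf 0)) (.node (.leaf 0) (.leaf 0)))))))) (.node (.node (.node (.node (.node (.node (.node (.leaf 402) (.leaf 0)) (.node (.leaf 0) (.leaf 0))) (.node (.node (.leaf 0) (.leaf 262)) (.node (.leaf 170) (.leaf 201)))) (.node (.node (.node (.leaf 0) (.leaf 134)) (.node (.leaf 403) (.leaf 360))) (.node (.node (.leaf 0) (.leaf 243)) (.node (.leaf 305) (.leaf 150))))) (.node (.node (.node (.node (.leaf 0) (.leaf 87)) (.node (.leaf 692) (.leaf 571))) (.node (.node (.leaf 115) (.leaf 0)) (.node (.leaf 0) (.leaf 0)))) (.node (.node (.node (.leaf 688) (.leaf 0)) (.node (.leaf 0) (.leaf 0))) (.node (.node (.leaf 643) (.leaf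 0)) (.node (.leaf 0) (.leaf 0)))))) (.node (.node (.node (.node (.node (.leaf 0) (.leaf 555)) (.node (.leaf 539) (.leaf 247))) (.node (.node (.leaf 629) (.leaf 0)) (.node (.leaf 0) (.leaf 0)))) (.node (.node (.node (.leaf 522) (.leaf 0)) (.node (.leaf 0) (.leaf 0))) (.node (.node (.leaf 206) (.leaf 0)) (.node (.leaf 0) (.leaf 0))))) (.node (.node (.node (.node (.leaf 0) (.leaf 335)) (.node (.leaf 561) (.leaf 155))) (.node (.node (.leaf 304) (.leaf 0)) (.node (.leaf 0) (.leaf 0)))) (.node (.node (.node (.leaf 532) (.leaf 0)) (.node (.leaf 0) (.leaf 0))) (.node (.node (.leaf 182) (.leaf 0)) (.node (.leaf 0) (.leaf 0))))))) (.node (.node (.node (.node (.node (.node (.leaf 344) (.leaf 0)) (.node (.leaf 0) (.leaf 0))) (.node (.node (.leaf 0) (.leaf 193)) (.node (.leaf 378) (.leaf 276)))) (.node (.node (.node (.leaf 0) (.leaf 295)) (.node (.leaf 214) (.leaf 175))) (.node (.node (.leaf 0) (.leaf 320)) (.node (.leaf 140) (.leaf 337))))) (.node (.node (.node (.node (.leaf 0) (.leaf 574)) (.node (.leaf 172)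 (.leaf 631))) (.node (.node (.leaf 645) (.leaf 0)) (.node (.leaf 0) (.leaf 0)))) (.node (.node (.node (.leaf 136) (.leaf 0)) (.node (.leaf 0) (.leaf 0))) (.node (.node (.leaf 674) (.leaf 0)) (.node (.leaf 0) (.leaf 0)))))) (.node (.node (.node (.node (.node (.leaf 0) (.leaf 477)) (.node (.leaf 57) (.leaf 229))) (.node (.node (.leaf 558) (.leaf 0)) (.node (.leaf 0) (.leaf 0)))) (.node (.node (.node (.leaf 73) (.leaf 0)) (.node (.leaf 0) (.leaf 0))) (.node (.node (.leaf 163) (.leaf 0)) (.node (.leaf 0) (.leaf 0))))) (.node (.node (.node (.node (.leaf 0) (.leaf 642)) (.node (.leaf 485) (.leaf 279))) (.node (.node (.leaf 607) (.leaf 0)) (.node (.leaf 0) (.leaf 0)))) (.node (.node (.node (.leaf 454) (.leaf 0)) (.node (.leaf 0) (.leaf 0))) (.node (.node (.leaf 322) (.leaf 0)) (.node (.leaf 0) (.leaf 0))))))))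

/-- Part of `posT`. -/
def posT_p1101 : Tr := .node (.node (.node (.node (.node (.node (.node (.node (.leaf 333) (.leaf 0)) (.node (.leaf 0) (.leaf 0))) (.node (.node (.leaf 0) (.leaf 196)) (.node (.leaf 566) (.leaf 425)))) (.node (.node (.node (.leaf 0) (.leaf 615)) (.node (.leaf 469) (.leaf 311))) (.node (.node (.leaf 0) (.leaf 371)) (.node (.leaf 356) (.leaf 100))))) (.node (.node (.node (.node (.leaf 0) (.leaf 113)) (.node (.leaf 675) (.leaf 504))) (.node (.node (.leaf 85) (.leaf 0)) (.node (.leaf 0) (.leaf 0)))) (.node (.node (.node (.leaf 624) (.leaf 0)) (.node (.leaf 0) (.leaf 0))) (.node (.node (.leaf 586) (.leaf 0)) (.node (.leaf 0) (.leaf 0)))))) (.node (.node (.node (.node (.node (.leaf 0) (.leaf 321)) (.node (.leaf 379) (.leaf 495))) (.node (.node (.leaf 277) (.leaf 0)) (.node (.leaf 0) (.leaf 0)))) (.node (.node (.node (.leaf 401) (.leaf 0)) (.node (.leaf 0) (.leaf 0))) (.node (.node (.leaf 578) (.leaf 0)) (.node (.leaf 0) (.leaf 0))))) (.node (.node (.node (.node (.leaf 0) (.leaf 112))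 (.node (.leaf 327) (.leaf 74))) (.node (.node (.leaf 84) (.leaf 0)) (.node (.leaf 0) (.leaf 0)))) (.node (.node (.node (.leaf 289) (.leaf 0)) (.node (.leaf 0) (.leaf 0))) (.node (.node (.leaf 58) (.leaf 0)) (.node (.leaf 0) (.leaf 0))))))) (.node (.node (.node (.node (.node (.node (.leaf 0) (.leaf 288)) (.node (.leaf 274) (.leaf 62))) (.node (.node (.leaf 326) (.leaf 0)) (.node (.leaf 0) (.leaf 0)))) (.node (.node (.node (.leaf 318) (.leaf 0)) (.node (.leaf 0) (.leaf 0))) (.node (.node (.leaf 76) (.leaf 0)) (.node (.leaf 0) (.leaf 0))))) (.node (.node (.node (.node (.leaf 655) (.leaf 0)) (.node (.leaf 0) (.leaf 0))) (.node (.node (.leaf 0) (.leaf 21)) (.node (.leaf 669) (.leaf 464)))) (.node (.node (.node (.leaf 0) (.leaf 644)) (.node (.leaf 660) (.leaf 526))) (.node (.node (.leaf 0) (.leaf 536)) (.node (.leaf 453) (.leaf 65)))))) (.node (.node (.node (.node (.node (.leaf 625) (.leaf 0)) (.node (.leaf 0) (.leaf 0))) (.node (.node (.leaf 0) (.leaf 332)) (.node (.leaf 312) (.leaf 259)))) (.node (.node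 (.node (.leaf 0) (.leaf 316)) (.node (.leaf 195) (.leaf 135))) (.node (.node (.leaf 0) (.leaf 334)) (.node (.leaf 171) (.leaf 99))))) (.node (.node (.node (.node (.leaf 94) (.leaf 0)) (.node (.leaf 0) (.leaf 0))) (.node (.node (.leaf 0) (.leaf 465)) (.node (.leaf 324) (.leaf 384)))) (.node (.node (.node (.leaf 0) (.leaf 282)) (.node (.leaf 466) (.leaf 48))) (.node (.node (.leaf 0) (.leaf 310)) (.node (.leaf 36) (.leaf 191)))))))) (.node (.node (.node (.node (.node (.node (.node (.leaf 0) (.leaf 271)) (.node (.leaf 482) (.leaf 357))) (.node (.node (.leaf 352) (.leaf 0)) (.node (.leaf 0) (.leaf 0)))) (.node (.node (.node (.leaf 411) (.leaf 0)) (.node (.leaf 0) (.leaf 0))) (.node (.node (.leaf 390) (.leaf 0)) (.node (.leaf 0) (.leaf 0))))) (.node (.node (.node (.node (.leaf 132) (.leaf 0)) (.node (.leaf 0) (.leaf 0))) (.node (.node (.leaf 0) (.leaf 146)) (.node (.leaf 43) (.leaf 7)))) (.node (.node (.node (.leaf 0) (.leaf 32)) (.node (.leaf 679) (.leaf 563))) (.node (.node (.leaf 0) (.leaf 11)) (.node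 (.leaf 638) (.leaf 398)))))) (.node (.node (.node (.node (.node (.leaf 348) (.leaf 0)) (.node (.leaf 0) (.leaf 0))) (.node (.node (.leaf 0) (.leaf 92)) (.node (.leaf 529) (.leaf 461)))) (.node (.node (.node (.leaf 0) (.leaf 553)) (.node (.leaf 489) (.leaf 272))) (.node (.node (.leaf 0) (.leaf 396)) (.node (.leaf 353) (.leaf 189))))) (.node (.node (.node (.node (.leaf 131) (.leaf 0)) (.node (.leaf 0) (.leaf 0))) (.node (.node (.leaf 0) (.leaf 145)) (.node (.leaf 315) (.leaf 621)))) (.node (.node (.node (.leaf 0) (.leaf 236)) (.node (.leaf 413) (.leaf 373))) (.node (.node (.leaf 0) (.leaf 542)) (.node (.leaf 393) (.leaf 404))))))) (.node (.node (.node (.node (.node (.node (.leaf 0) (.leaf 562)) (.node (.leaf 548) (.leaf 233))) (.node (.node (.leaf 480) (.leaf 0)) (.node (.leaf 0) (.leaf 0)))) (.node (.node (.node (.leaf 511) (.leaf 0)) (.node (.leaf 0) (.leaf 0))) (.node (.node (.leaf 256) (.leaf 0)) (.node (.leaf 0) (.leaf 0))))) (.node (.node (.node (.node (.leaf 544) (.leaf 0)) (.node (.leaf 0)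 (.leaf 0))) (.node (.node (.leaf 0) (.leaf 56)) (.node (.leaf 651) (.leaf 486)))) (.node (.node (.node (.leaf 0) (.leaf 581)) (.node (.leaf 129) (.leaf 690))) (.node (.node (.leaf 0) (.leaf 567)) (.node (.leaf 671) (.leaf 545)))))) (.node (.node (.node (.node (.node (.leaf 336) (.leaf 0)) (.node (.leaf 0) (.leaf 0))) (.node (.node (.leaf 0) (.leaf 472)) (.node (.leaf 430) (.leaf 197)))) (.node (.node (.node (.leaf 0) (.leaf 381)) (.node (.leaf 215) (.leaf 173))) (.node (.node (.leaf 0) (.leaf 238)) (.node (.leaf 137) (.leaf 194))))) (.node (.node (.node (.node (.leaf 368) (.leaf 0)) (.node (.leaf 0) (.leaf 0))) (.node (.node (.leaf 0) (.leaf 168)) (.node (.leaf 483) (.leaf 433)))) (.node (.node (.node (.leaf 0) (.leaf 564)) (.node (.leaf 516) (.leaf 380))) (.node (.node (.leaf 0) (.leaf 364)) (.node (.leaf 451) (.leaf 78))))))))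

/-- Part of `posT`. -/
def posT_p1110 : Tr := .node (.node (.node (.node (.node (.node (.node (.node (.leaf 442) (.leaf 0)) (.node (.leaf 0) (.leaf 0))) (.node (.node (.leaf 0) (.leaf 443)) (.node (.leaf 449) (.leaf 520)))) (.node (.node (.node (.leaf 0) (.leaf 521)) (.node (.leaf 111) (.leaf 435))) (.node (.node (.leaf 0) (.leaf 568)) (.node (.leaf 506) (.leaf 124))))) (.node (.node (.node (.node (.leaf 0) (.leaf 502)) (.node (.leaf 52) (.leaf 672))) (.node (.node (.leaf 583) (.leaf 0)) (.node (.leaf 0) (.leaf 0)))) (.node (.node (.node (.leaf 71) (.leaf 0)) (.node (.leaf 0) (.leaf 0))) (.node (.node (.leaf 691) (.leaf 0)) (.node (.leaf 0) (.leaf 0)))))) (.node (.node (.node (.node (.node (.leaf 0) (.leaf 547)) (.node (.leaf 226) (.leaf 53))) (.node (.node (.leaf 468) (.leaf 0)) (.node (.leaf 0) (.leaf 0)))) (.node (.node (.node (.leaf 297) (.leaf 0)) (.node (.leaf 0) (.leaf 0))) (.node (.node (.leaf 72) (.leaf 0)) (.node (.leaf 0) (.leaf 0))))) (.node (.node (.node (.node (.leaf 0) (.leaf 239))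 (.node (.leaf 309) (.leaf 501))) (.node (.node (.leaf 198) (.leaf 0)) (.node (.leaf 0) (.leaf 0)))) (.node (.node (.node (.leaf 383) (.leaf 0)) (.node (.leaf 0) (.leaf 0))) (.node (.node (.leaf 439) (.leaf 0)) (.node (.leaf 0) (.leaf 0))))))) (.node (.node (.node (.node (.node (.node (.leaf 0) (.leaf 490)) (.node (.leaf 444) (.leaf 80))) (.node (.node (.leaf 434) (.leaf 0)) (.node (.leaf 0) (.leaf 0)))) (.node (.node (.node (.leaf 370) (.leaf 0)) (.node (.leaf 0) (.leaf 0))) (.node (.node (.leaf 64) (.leaf 0)) (.node (.leaf 0) (.leaf 0))))) (.node (.node (.node (.node (.leaf 689) (.leaf 0)) (.node (.leaf 0) (.leaf 0))) (.node (.node (.leaf 0) (.leaf 597)) (.node (.leaf 602) (.leaf 666)))) (.node (.node (.node (.leaf 0) (.leaf 524)) (.node (.leaf 38) (.leaf 613))) (.node (.node (.leaf 0) (.leaf 617)) (.node (.leaf 538) (.leaf 37)))))) (.node (.node (.node (.node (.node (.leaf 110) (.leaf 0)) (.node (.leaf 0) (.leaf 0))) (.node (.node (.leaf 0) (.leaf 584)) (.node (.leaf 432) (.leaf 102)))) (.node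 (.node (.node (.leaf 0) (.leaf 363)) (.node (.leaf 440) (.leaf 275))) (.node (.node (.leaf 0) (.leaf 123)) (.node (.leaf 319) (.leaf 108))))) (.node (.node (.node (.node (.leaf 367) (.leaf 0)) (.node (.leaf 0) (.leaf 0))) (.node (.node (.leaf 0) (.leaf 167)) (.node (.leaf 445) (.leaf 230)))) (.node (.node (.node (.leaf 0) (.leaf 517)) (.node (.leaf 611) (.leaf 212))) (.node (.node (.leaf 0) (.leaf 164)) (.node (.leaf 296) (.leaf 77)))))))) (.node (.node (.node (.node (.node (.node (.node (.leaf 0) (.leaf 374)) (.node (.leaf 519) (.leaf 450))) (.node (.node (.leaf 389) (.leaf 0)) (.node (.leaf 0) (.leaf 0)))) (.node (.node (.node (.leaf 559) (.leaf 0)) (.node (.leaf 0) (.leaf 0))) (.node (.node (.leaf 505) (.leaf 0)) (.node (.leaf 0) (.leaf 0))))) (.node (.node (.node (.node (.leaf 515) (.leaf 0)) (.node (.leaf 0) (.leaf 0))) (.node (.node (.leaf 0) (.leaf 66)) (.node (.leaf 582) (.leaf 588)))) (.node (.node (.node (.leaf 0) (.leaf 513)) (.node (.leaf 67) (.leaf 681))) (.node (.node (.leaf 0) (.leaf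 528)) (.node (.leaf 657) (.leaf 654)))))) (.node (.node (.node (.node (.node (.leaf 399) (.leaf 0)) (.node (.leaf 0) (.leaf 0))) (.node (.node (.leaf 0) (.leaf 400)) (.node (.leaf 386) (.leaf 537)))) (.node (.node (.node (.leaf 0) (.leaf 412)) (.node (.leaf 151) (.leaf 446))) (.node (.node (.leaf 0) (.leaf 612)) (.node (.leaf 500) (.leaf 159))))) (.node (.node (.node (.node (.leaf 266) (.leaf 0)) (.node (.leaf 0) (.leaf 0))) (.node (.node (.leaf 0) (.leaf 264)) (.node (.leaf 392) (.leaf 88)))) (.node (.node (.node (.leaf 0) (.leaf 359)) (.node (.leaf 265) (.leaf 447))) (.node (.node (.leaf 0) (.leaf 116)) (.node (.leaf 376) (.leaf 299))))))) (.node (.node (.node (.node (.node (.node (.leaf 0) (.leaf 591)) (.node (.leaf 169) (.leaf 375))) (.node (.node (.leaf 630) (.leaf 0)) (.node (.leaf 0) (.leaf 0)))) (.node (.node (.node (.leaf 237) (.leaf 0)) (.node (.leaf 0) (.leaf 0))) (.node (.node (.leaf 291) (.leaf 0)) (.node (.leaf 0) (.leaf 0))))) (.node (.node (.node (.node (.leaf 109) (.leaf 0)) (.node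 (.leaf 0) (.leaf 0))) (.node (.node (.leaf 0) (.leaf 441)) (.node (.leaf 41) (.leaf 635)))) (.node (.node (.node (.leaf 0) (.leaf 29)) (.node (.leaf 107) (.leaf 15))) (.node (.node (.leaf 0) (.leaf 600)) (.node (.leaf 22) (.leaf 665)))))) (.node (.node (.node (.node (.node (.leaf 213) (.leaf 0)) (.node (.leaf 0) (.leaf 0))) (.node (.node (.leaf 0) (.leaf 345)) (.node (.leaf 219) (.leaf 377)))) (.node (.node (.node (.leaf 0) (.leaf 302)) (.node (.leaf 192) (.leaf 426))) (.node (.node (.leaf 0) (.leaf 431)) (.node (.leaf 497) (.leaf 346))))) (.node (.node (.node (.node (.leaf 415) (.leaf 0)) (.node (.leaf 0) (.leaf 0))) (.node (.node (.leaf 0) (.leaf 416)) (.node (.leaf 343) (.leaf 508)))) (.node (.node (.node (.leaf 0) (.leaf 409)) (.node (.leaf 130) (.leaf 462))) (.node (.node (.leaf 0) (.leaf 590)) (.node (.leaf 535) (.leaf 144))))))))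

/-- Part of `posT`. -/
def posT_p1111 : Tr := .node (.node (.node (.node (.node (.node (.node (.node (.leaf 60) (.leaf 0)) (.node (.leaf 0) (.leaf 0))) (.node (.node (.leaf 0) (.leaf 576)) (.node (.leaf 604) (.leaf 120)))) (.node (.node (.node (.leaf 0) (.leaf 531)) (.node (.leaf 270) (.leaf 89))) (.node (.node (.leaf 0) (.leaf 97)) (.node (.leaf 117) (.leaf 257))))) (.node (.node (.node (.node (.leaf 0) (.leaf 677)) (.node (.leaf 509) (.leaf 3))) (.node (.node (.leaf 647) (.leaf 0)) (.node (.leaf 0) (.leaf 0)))) (.node (.node (.node (.leaf 577) (.leaf 0)) (.node (.leaf 0) (.leaf 0))) (.node (.node (.leaf 5) (.leaf 0)) (.node (.leaf 0) (.leaf 0)))))) (.node (.node (.node (.node (.node (.leaf 0) (.leaf 280)) (.node (.leaf 211) (.leaf 387))) (.node (.node (.leaf 313) (.leaf 0)) (.node (.leaf 0) (.leaf 0)))) (.node (.node (.node (.leaf 294) (.leaf 0)) (.node (.leaf 0) (.leaf 0))) (.node (.node (.leaf 429) (.leaf 0)) (.node (.leaf 0) (.leaf 0))))) (.node (.node (.node (.node (.leaf 0) (.leaf 118)) (.node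 (.leaf 419) (.leaf 593))) (.node (.node (.leaf 95) (.leaf 0)) (.node (.leaf 0) (.leaf 0)))) (.node (.node (.node (.leaf 350) (.leaf 0)) (.node (.leaf 0) (.leaf 0))) (.node (.node (.leaf 633) (.leaf 0)) (.node (.leaf 0) (.leaf 0))))))) (.node (.node (.node (.node (.node (.node (.leaf 0) (.leaf 156)) (.node (.leaf 178) (.leaf 331))) (.node (.node (.leaf 220) (.leaf 0)) (.node (.leaf 0) (.leaf 0)))) (.node (.node (.node (.leaf 251) (.leaf 0)) (.node (.leaf 0) (.leaf 0))) (.node (.node (.leaf 394) (.leaf 0)) (.node (.leaf 0) (.leaf 0))))) (.node (.node (.node (.node (.leaf 10) (.leaf 0)) (.node (.leaf 0) (.leaf 0))) (.node (.node (.leaf 0) (.leaf 673)) (.node (.leaf 608) (.leaf 28)))) (.node (.node (.node (.leaf 0) (.leaf 637)) (.node (.leaf 668) (.leaf 16))) (.node (.node (.leaf 0) (.leaf 40)) (.node (.leaf 23) (.leaf 105)))))) (.node (.node (.node (.node (.node (.leaf 474) (.leaf 0)) (.node (.leaf 0) (.leaf 0))) (.node (.node (.leaf 0) (.leaf 82)) (.node (.leaf 204) (.leaf 27)))) (.node (.node (.node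 (.leaf 0) (.leaf 283)) (.node (.leaf 488) (.leaf 154))) (.node (.node (.leaf 0) (.leaf 20)) (.node (.leaf 181) (.leaf 90))))) (.node (.node (.node (.node (.leaf 556) (.leaf 0)) (.node (.leaf 0) (.leaf 0))) (.node (.node (.leaf 0) (.leaf 418)) (.node (.leaf 183) (.leaf 349)))) (.node (.node (.node (.leaf 0) (.leaf 121)) (.node (.leaf 55) (.leaf 35))) (.node (.node (.leaf 0) (.leaf 284)) (.node (.leaf 45) (.leaf 128)))))))) (.node (.node (.node (.node (.node (.node (.node (.leaf 0) (.leaf 493)) (.node (.leaf 640) (.leaf 179))) (.node (.node (.leaf 420) (.leaf 0)) (.node (.leaf 0) (.leaf 0)))) (.node (.node (.node (.leaf 569) (.leaf 0)) (.node (.leaf 0) (.leaf 0))) (.node (.node (.leaf 152) (.leaf 0)) (.node (.leaf 0) (.leaf 0))))) (.node (.node (.node (.node (.leaf 575) (.leaf 0)) (.node (.leaf 0) (.leaf 0))) (.node (.node (.leaf 0) (.leaf 54)) (.node (.leaf 658) (.leaf 667)))) (.node (.node (.node (.leaf 0) (.leaf 678)) (.node (.leaf 546) (.leaf 573))) (.node (.node (.leaf 0) (.leaf 618)) (.node (.leaf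 533) (.leaf 49)))))) (.node (.node (.node (.node (.node (.leaf 234) (.leaf 0)) (.node (.leaf 0) (.leaf 0))) (.node (.node (.leaf 0) (.leaf 598)) (.node (.leaf 479) (.leaf 69)))) (.node (.node (.node (.leaf 0) (.leaf 408)) (.node (.leaf 286) (.leaf 174))) (.node (.node (.leaf 0) (.leaf 50)) (.node (.leaf 138) (.leaf 47))))) (.node (.node (.node (.node (.leaf 149) (.leaf 0)) (.node (.leaf 0) (.leaf 0))) (.node (.node (.leaf 0) (.leaf 261)) (.node (.leaf 438) (.leaf 436)))) (.node (.node (.node (.leaf 0) (.leaf 510)) (.node (.leaf 406) (.leaf 98))) (.node (.node (.leaf 0) (.leaf 491)) (.node (.leaf 157) (.leaf 268))))))) (.node (.node (.node (.node (.node (.node (.leaf 0) (.leaf 457)) (.node (.leaf 203) (.leaf 143))) (.node (.node (.leaf 487) (.leaf 0)) (.node (.leaf 0) (.leaf 0)))) (.node (.node (.node (.leaf 245) (.leaf 0)) (.node (.leaf 0) (.leaf 0))) (.node (.node (.leaf 210) (.leaf 0)) (.node (.leaf 0) (.leaf 0))))) (.node (.node (.node (.node (.leaf 492) (.leaf 0)) (.node (.leaf 0) (.leaf 0)))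 (.node (.node (.leaf 0) (.leaf 627)) (.node (.leaf 503) (.leaf 646)))) (.node (.node (.node (.leaf 0) (.leaf 459)) (.node (.leaf 81) (.leaf 541))) (.node (.node (.leaf 0) (.leaf 683)) (.node (.leaf 614) (.leaf 30)))))) (.node (.node (.node (.node (.node (.leaf 342) (.leaf 0)) (.node (.leaf 0) (.leaf 0))) (.node (.node (.leaf 0) (.leaf 341)) (.node (.leaf 207) (.leaf 246)))) (.node (.node (.node (.leaf 0) (.leaf 248)) (.node (.leaf 340) (.leaf 641))) (.node (.node (.leaf 0) (.leaf 221)) (.node (.leaf 570) (.leaf 218))))) (.node (.node (.node (.node (.leaf 269) (.leaf 0)) (.node (.leaf 0) (.leaf 0))) (.node (.node (.leaf 0) (.leaf 550)) (.node (.leaf 476) (.leaf 59)))) (.node (.node (.node (.leaf 0) (.leaf 557)) (.node (.leaf 258) (.leaf 42))) (.node (.node (.leaf 0) (.leaf 75)) (.node (.leaf 31) (.leaf 61))))))))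

/-- The line of each isotropic code. -/
def posT : Tr := .node (.node (.node (.node (posT_p0000) (posT_p0001)) (.node (posT_p0010) (posT_p0011))) (.node (.node (posT_p0100) (posT_p0101)) (.node (posT_p0110) (posT_p0111)))) (.node (.node (.node (posT_p1000) (posT_p1001)) (.node (posT_p1010) (posT_p1011))) (.node (.node (posT_p1100) (posT_p1101)) (.node (posT_p1110) (posT_p1111))))

end CfsgLib.Sporadic.ConwayPsu62
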