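import Cfsg.Agent.Lib.Sporadic.ConwayPsu62.Cert
import Cfsg.Agent.Lib.Sporadic.TwinIso
import Cfsg.Agent.Lib.Sporadic.ConwayTwoThree
import Cfsg.Agent.Lib.ClassicalGroups.UnitarySimple
import Cfsg.Agent.Lib.Golay.LeechOrbit.CertC

/-! The stabiliser of two minimal vectors at inner product `-16` is `PSU₆(2)`. -/

set_option autoImplicit false
set_option linter.unusedSectionVars false

namespace CfsgLib.Sporadic.ConwayPsu62

open Matrix
open Cfsg CfsgLib.Golay CfsgLib.Golay.LeechOrbit CfsgLib.MonsterType CfsgLib.Sporadic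
open CfsgLib.Presented.Fi22Unitary CfsgLib.ThreeTrans.USix CfsgLib.ClassicalGroups

/-- The second vector. -/
def pairVec : leechLattice := ⟨vecK pairKey, mem_of_latA pair_ok⟩

theorem pairVec_mem : pairVec ∈ consSet cs4600 := by
  refine ⟨by rw [sqNorm_eq_dotL]; exact pair_mem.1, fun c hc => ?_⟩
  simp only [cs4600, List.mem_singleton] at hc
  subst hc
  rw [dotInt_eq_dotL]
  exact pair_mem.2

/-- The standard pair stabiliser. -/
abbrev G0 : Subgroup Co0 :=
  MulAction.stabilizer Co0 Spor.leechU ⊓ MulAction.stabilizer Co0 pairVec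

theorem card_G0 : Nat.card G0 = 9196830720 := by
  have := co0_finite
  set H := MulAction.stabilizer Co0 Spor.leechU with hH'
  have hH : Nat.card H = 42305421312000 :=
    (ConwayTwoThree.isCo2 _ (by rw [sqNorm_eq_dotL]; decide +kernel)).2
  have hcs : consStab cs4600 = H := by
    ext γ
    simp [cs4600, mem_consStab, H, MulAction.mem_stabilizer_iff]
  have horb : MulAction.orbit H pairVec = consSet cs4600 := by
    have h' := spec4600.orbit_eq pairVec_mem
    rw [hcs] at h'
    exact h'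
  have hos := (MulAction.stabilizer H pairVec).card_mul_index
  rw [MulAction.index_stabilizer, horb, spec4600.ncard, hH] at hos
  have hst : MulAction.stabilizer H pairVec = G0.subgroupOf H := by
    ext γ
    simp [Subgroup.mem_subgroupOf, MulAction.mem_stabilizer_iff, H, G0, Subgroup.smul_def,
      MulAction.mem_stabilizer_iff.1 γ.2]
  rw [hst, Nat.card_congr (Subgroup.subgroupOfEquivOfLe (inf_le_left : G0 ≤ H)).toEquiv] at hos
  exact Nat.eq_of_mul_eq_mul_right (show 0 < 4600 by norm_num) (hos.trans (by norm_num))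

theorem gen_mem (k : Fin 8) : wordW (gWs.getD k []) ∈ G0 := by
  have hg := gens_ok
  simp only [Bool.and_eq_true, beq_iff_eq] at hg
  have hmem : gWs.getD k [] ∈ gWs := by
    rw [List.getD_eq_getElem _ _ (by rw [hg.1.2]; exact k.2)]
    exact List.getElem_mem _
  have h := mem_consStab_of_fixB (cs := [(Spor.leechU, -16), (pairVec, 0)])
    (ws := gWs) fix_ok _ hmem
  exact ⟨h (Spor.leechU, -16) (by simp), h (pairVec, 0) (by simp)⟩

/-- The generators. -/
noncomputable def sGen (k : Fin 8) : G0 := ⟨wordW (gWs.getD k []), gen_mem k⟩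

section Model

variable {F : Type*} [Field F] [Fintype F] (hF : Fintype.card F = 2 ^ 2) {w : F}
  (hw : 1 + w + w ^ 2 = 0)

/-- The plane at an index. -/
noncomputable def plane (w : F) (i : ℕ) : Submodule F (Fin 6 → F) :=
  Submodule.span F {vec w (base1 i), vec w (base2 i), vec w (base3 i)}

/-- An automorphism maps the vectors as a unitary class maps the planes. -/
def Twin (w : F) (g : G0) (q : Cfsg.PSU 6 F 2) : Prop :=
  ∃ M : Cfsg.SU 6 F 2, QuotientGroup.mk M = q ∧ ∀ i < 891, ∀ x : leechLattice,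
    sqNorm (x : GolayPt → ℤ) = 32 → keyOf (x : GolayPt → ℤ) = keyT.get i →
      ∃ j < 891, keyOf (((g : Co0) • x : leechLattice) : GolayPt → ℤ) = keyT.get j ∧
        ∀ y ∈ plane w i, M.1.1 *ᵥ y ∈ plane w j

theorem twin_one : Twin (F := F) w 1 1 :=
  ⟨1, rfl, fun i hi x _ e => ⟨i, hi, by rw [OneMemClass.coe_one, one_smul]; exact e,
    fun y hy => by rwa [SU_one_mulVec]⟩⟩

theorem twin_mul (g g' : G0) (q q' : Cfsg.PSU 6 F 2) (h : Twin w g q) (h' : Twin w g' q') :
    Twin w (g * g') (q * q') := by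
  obtain ⟨M, rfl, hM⟩ := h
  obtain ⟨M', rfl, hM'⟩ := h'
  refine ⟨M * M', rfl, fun i hi x hx e => ?_⟩
  obtain ⟨j, hj, ej, hj'⟩ := hM' i hi x hx e
  obtain ⟨l, hl, el, hl'⟩ := hM j hj ((g' : Co0) • x) (by rw [sqNorm_smul_lat, hx]) ej
  refine ⟨l, hl, by rw [MulMemClass.coe_mul, mul_smul]; exact el, fun y hy => ?_⟩
  have := hl' _ (hj' y hy)
  rwa [Matrix.mulVec_mulVec] at this

include hF hw

theorem vec_opts {v x : ℕ} (h : x ∈ opts v) : vec w x ∈ Submodule.span F {vec w v} := by
  simp only [opts, List.mem_cons, List.not_mem_nil, or_false] at h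
  rcases h with rfl | rfl | rfl | rfl
  · rw [vec_zero hF hw]; exact Submodule.zero_mem _
  · exact Submodule.mem_span_singleton_self _
  · rw [vec_smulW hF hw]; exact Submodule.smul_mem _ _ (Submodule.mem_span_singleton_self _)
  · rw [vec_smulW hF hw, vec_smulW hF hw]
    exact Submodule.smul_mem _ _ (Submodule.smul_mem _ _ (Submodule.mem_span_singleton_self _))

theorem mem_plane {i u : ℕ} (h : inSpan (base1 i) (base2 i) (base3 i) u = true) :
    vec w u ∈ plane w i := by
  simp only [inSpan, List.any_eq_true, Bool.or_eq_true, beq_iff_eq, forceN_eq] at h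
  obtain ⟨x, hx, y, hy, hz⟩ := h
  have mono : ∀ a ∈ ({vec w (base1 i), vec w (base2 i), vec w (base3 i)} : Set (Fin 6 → F)),
      Submodule.span F {a} ≤ plane w i := fun a ha => Submodule.span_mono (Set.singleton_subset_iff.2 ha)
  have e : u = (u ^^^ x ^^^ y) ^^^ (x ^^^ y) := by
    rw [Nat.xor_assoc u x y, Nat.xor_assoc u, Nat.xor_self, Nat.xor_zero]
  rw [e]
  generalize u ^^^ x ^^^ y = z at hz ⊢
  rw [vec_xor hF hw, vec_xor hF hw]
  refine add_mem ?_ (add_mem (mono (vec w (base1 i)) (by simp) (vec_opts hF hw hx))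
    (mono (vec w (base2 i)) (by simp) (vec_opts hF hw hy)))
  rcases hz with hz | hz
  · rw [hz, vec_zero hF hw]; exact zero_mem _
  · obtain ⟨c, -, hc⟩ := sameLine_spec hF hw hz
    rw [hc]
    exact Submodule.smul_mem _ _ (Submodule.subset_span (by simp))

theorem exists_gen (k : Fin 8) : ∃ A : Cfsg.SU 6 F 2, IsTvAt (vec w (gVecs.getD k 0)) A := by
  have hg := gens_ok
  simp only [Bool.and_eq_true, beq_iff_eq, List.all_eq_true, Nat.blt_eq, Bool.not_eq_true',
    beq_eq_false_iff_ne] at hg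
  have hk : (k : ℕ) < gVecs.length := by rw [hg.1.1]; exact k.2
  obtain ⟨⟨hv, hv0⟩, hiso⟩ := hg.2 (gVecs.getD k 0)
    (by rw [List.getD_eq_getElem _ _ hk]; exact List.getElem_mem _)
  refine exists_tvAt hF (fun e => hv0 (vec_injective hF hw hv (by norm_num) (e.trans (vec_zero hF hw).symm))) ?_
  simp only [isoOK, Bool.and_eq_true, Bool.not_eq_true'] at hiso
  rw [herm_vec hF hw, hiso.1, hiso.2]
  simp [el]

theorem twin_gen (k : Fin 8) {A : Cfsg.SU 6 F 2} (hA : IsTvAt (vec w (gVecs.getD k 0)) A) :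
    Twin w (sGen k) (QuotientGroup.mk A) := by
  refine ⟨A, rfl, fun i hi x hx e => ?_⟩
  have h := moves_ok k k.2 i hi
  simp only [moveOK, forceN_eq, Bool.and_eq_true, Nat.blt_eq, decide_eq_true_eq] at h
  obtain ⟨⟨⟨⟨hj, hdot⟩, h1⟩, h2⟩, h3⟩ := h
  set j := succT.get (891 * (k : ℕ) + i)
  refine ⟨j, hj, ?_, ?_⟩
  · have hcol : gCols.getD k [] = colsW (gWs.getD k []) := by
      have hg := gens_ok
      simp only [Bool.and_eq_true, beq_iff_eq] at hg
      rw [cols_g, List.getD_eq_getElem _ _ (by rw [List.length_map, hg.1.2]; exact k.2),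
        List.getD_eq_getElem _ _ (by rw [hg.1.2]; exact k.2), List.getElem_map]
    rw [hcol, digitsF_eq, ← toL_vecK, ← e, vecK_keyOf hx, ← pack_wordW] at hdot
    have e' : pack (((sGen k : Co0) • x : leechLattice) : GolayPt → ℤ) + off = (keyT.get j : ℤ) := by
      show pack ((wordW (gWs.getD k []) • x : leechLattice) : GolayPt → ℤ) + off = _
      linarith
    rw [keyOf, e', Int.toNat_natCast]
  · intro y hy
    have hy' : y ∈ (plane w j).comap A.1.1.mulVecLin := by
      refine Submodule.span_le.2 ?_ hy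
      rintro z (rfl | rfl | rfl) <;>
        simp only [SetLike.mem_coe, Submodule.mem_comap, Matrix.mulVecLin_apply, hA.apply,
          ← vec_tvCode hF hw]
      exacts [mem_plane hF hw h1, mem_plane hF hw h2, mem_plane hF hw h3]
    exact hy'

theorem closure_gens (t : Fin 8 → Cfsg.SU 6 F 2) (ht : ∀ k : Fin 8, IsTvAt (vec w (gVecs.getD k 0)) (t k)) :
    Subgroup.closure (Set.range fun k => (QuotientGroup.mk (t k) : Cfsg.PSU 6 F 2)) = ⊤ := by
  set K := Subgroup.closure (Set.range fun k => (QuotientGroup.mk (t k) : Cfsg.PSU 6 F 2))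
  have hgen : ∀ k < 8, ∃ A : Cfsg.SU 6 F 2,
      IsTvAt (vec w (gVecs.getD k 0)) A ∧ QuotientGroup.mk A ∈ K :=
    fun k hk => ⟨_, ht ⟨k, hk⟩, Subgroup.subset_closure ⟨⟨k, hk⟩, rfl⟩⟩
  have hreach : ∀ s < 693, ∃ A : Cfsg.SU 6 F 2,
      IsTvAt (vec w (ordT.get s)) A ∧ QuotientGroup.mk A ∈ K := by
    intro s
    induction s using Nat.strong_induction_on with
    | _ s ih =>
      intro hs
      have hb := of_allFrom_zero reach_ok hs
      simp only [reachOK, forceN_eq] at hb
      by_cases h0 : s = 0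
      · subst h0
        simp only [beq_self_eq_true, cond_true] at hb
        obtain ⟨c, hc, hce⟩ := sameLine_spec hF hw hb
        obtain ⟨A, hA, hAK⟩ := hgen 0 (by norm_num)
        exact ⟨A, hce ▸ hA.scale hF hc, hAK⟩
      · rw [show (s == 0) = false by simpa using h0] at hb
        simp only [cond_false, Bool.and_eq_true, Nat.blt_eq] at hb
        obtain ⟨⟨hlt, hk⟩, hline⟩ := hb
        obtain ⟨c, hc, hce⟩ := sameLine_spec hF hw hline
        obtain ⟨A, hA, hAK⟩ := hgen _ hk
        obtain ⟨B, hB, hBK⟩ := ih _ hlt (by omega)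
        refine ⟨A * B * A⁻¹, ?_, K.mul_mem (K.mul_mem hAK hBK) (K.inv_mem hAK)⟩
        have := (hB.conj hF A).scale hF hc
        rwa [hA.apply, ← vec_tvCode hF hw, ← hce] at this
  let T : Set (Cfsg.PSU 6 F 2) := QuotientGroup.mk '' tvSet F
  have hTK : T ⊆ K := by
    rintro _ ⟨B, ⟨x, hx⟩, rfl⟩
    obtain ⟨v, hv, rfl⟩ := vec_surjective hF hw x
    have hb := of_allFrom_zero cover_ok hv
    have hv0 : (v == 0) = false := beq_eq_false_iff_ne.2 fun e => hx.1 (e ▸ vec_zero hF hw)
    have hiso : isoOK v = true := by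
      have h0 : el w (hLo v v) (hHi v v) = el w false false :=
        ((herm_vec hF hw v v).symm.trans hx.2.1).trans (by simp [el])
      obtain ⟨e1, e2⟩ := el_injective hF hw h0
      simp [isoOK, e1, e2]
    simp only [coverOK, forceN_eq, hiso, hv0, Bool.not_true, Bool.false_or, Bool.and_eq_true,
      Nat.blt_eq] at hb
    obtain ⟨A, hA, hAK⟩ := hreach _ hb.1
    obtain ⟨c, hc, hce⟩ := sameLine_spec hF hw hb.2
    have hA' := hA.scale hF hc
    rw [← hce] at hA'
    rwa [hx.unique hF hA']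
  have hnorm : (Subgroup.closure T).Normal := ⟨fun g hg s => by
    induction hg using Subgroup.closure_induction with
    | mem y hy =>
      obtain ⟨B, ⟨x, hx⟩, rfl⟩ := hy
      obtain ⟨s, rfl⟩ := QuotientGroup.mk_surjective s
      exact Subgroup.subset_closure ⟨s * B * s⁻¹, ⟨_, hx.conj hF s⟩, rfl⟩
    | one => rw [mul_one, mul_inv_cancel]; exact Subgroup.one_mem _
    | mul a b _ _ iha ihb =>
      rw [show s * (a * b) * s⁻¹ = s * a * s⁻¹ * (s * b * s⁻¹) by group]
      exact Subgroup.mul_mem _ iha ihb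
    | inv a _ ih =>
      rw [show s * a⁻¹ * s⁻¹ = (s * a * s⁻¹)⁻¹ by group]
      exact Subgroup.inv_mem _ ih⟩
  have hsimple := psu_isSimpleGroup (n := 6) hF (by norm_num) (by norm_num)
  rcases IsSimpleGroup.eq_bot_or_eq_top_of_normal _ hnorm with h | h
  · exfalso
    obtain ⟨A, hA, -⟩ := hgen 0 (by norm_num)
    have h1 : (QuotientGroup.mk A : Cfsg.PSU 6 F 2) = 1 :=
      Subgroup.mem_bot.1 (h ▸ Subgroup.subset_closure ⟨A, ⟨_, hA⟩, rfl⟩)
    refine hA.ne_one hF (center_eq_one_of_fix hF ((QuotientGroup.eq_one_iff _).1 h1) hA.1 ?_)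
    rw [hA.apply, hA.2.1, zero_smul, add_zero]
  · exact top_le_iff.1 (h ▸ (Subgroup.closure_le K).2 hTK)

theorem not_twin_one {A : Cfsg.SU 6 F 2} (hA : IsTvAt (vec w (gVecs.getD 1 0)) A) :
    ¬ Twin w (1 : G0) (QuotientGroup.mk A : Cfsg.PSU 6 F 2) := by
  rintro ⟨M, hMA, hM⟩
  let x0 : leechLattice := ⟨vecK (keyT.get 0), mem_of_latA root_ok⟩
  have hx0 : sqNorm (x0 : GolayPt → ℤ) = 32 := by rw [sqNorm_eq_dotL]; exact root_norm.1
  obtain ⟨j, hj, ej, hj'⟩ := hM 0 (by norm_num) x0 hx0 root_norm.2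
  rw [OneMemClass.coe_one, one_smul, show keyOf (x0 : GolayPt → ℤ) = keyT.get 0 from root_norm.2] at ej
  have h0 := of_allFrom_zero key_zero_unique hj
  simp only [← ej, beq_self_eq_true, Bool.not_true, Bool.or_false, beq_iff_eq] at h0
  subst h0
  have hz : M⁻¹ * A ∈ Subgroup.center (Cfsg.SU 6 F 2) := QuotientGroup.eq.1 hMA
  obtain ⟨a, ha, happ⟩ := center_scalar hF hz
  have hf := first_ok
  simp only [perpOK, Bool.and_eq_true, Bool.not_eq_true'] at hf
  have hperp : ∀ y ∈ plane w 0, Cfsg.hermForm 6 F 2 y (vec w (base1 0)) = 0 := by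
    intro y hy
    induction hy using Submodule.span_induction with
    | mem z hz' =>
      rcases hz' with rfl | rfl | rfl <;> rw [herm_vec hF hw]
      · simp [el, hf.1.1.1.1, hf.1.1.1.2]
      · simp [el, hf.1.1.2.1, hf.1.1.2.2]
      · simp [el, hf.1.2.1, hf.1.2.2]
    | zero => simp [Cfsg.hermForm]
    | add p r _ _ hp hr => rw [hermForm_add_left, hp, hr, add_zero]
    | smul c p _ hp => rw [hermForm_smul_left, hp, mul_zero]
  have hmem : A.1.1 *ᵥ vec w (base1 0) ∈ plane w 0 := by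
    have e : A = M * (M⁻¹ * A) := (mul_inv_cancel_left M A).symm
    rw [e]
    show (M.1.1 * (M⁻¹ * A).1.1) *ᵥ _ ∈ _
    rw [← Matrix.mulVec_mulVec, happ]
    exact hj' _ (Submodule.smul_mem _ _ (Submodule.subset_span (by simp)))
  have h1 := hperp _ hmem
  rw [hA.apply, ← vec_tvCode hF hw, herm_vec hF hw] at h1
  obtain ⟨e1, e2⟩ := el_injective hF hw (h1.trans (show (0 : F) = el w false false by simp [el]))
  rw [e1, e2] at hf
  simp at hf

theorem card_psu : Nat.card (Cfsg.PSU 6 F 2) = 9196830720 := by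
  have h1 := card_SU_mul (q := 2) hF (n := 6) (by norm_num)
  have h2 := card_SU_eq_center_mul_PSU (F := F) (q := 2) 6
  rw [card_center_SU hF (by norm_num)] at h2
  rw [card_GU hF 6, h2] at h1
  simp [Finset.prod_range_succ, Nat.even_add_one, Nat.gcd] at h1
  omega

theorem iso_G0 : Nonempty (G0 ≃* Cfsg.PSU 6 F 2) := by
  have := co0_finite
  have hsimple := psu_isSimpleGroup (n := 6) hF (by norm_num) (by norm_num)
  have hfinQ : Finite (Cfsg.PSU 6 F 2) := Nat.finite_of_card_ne_zero (by rw [card_psu hF hw]; norm_num)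
  choose t ht using exists_gen hF hw
  exact nonempty_mulEquiv_of_twin (card_G0.trans (card_psu hF hw).symm) (Twin w) twin_one twin_mul sGen
    (fun k => QuotientGroup.mk (t k)) (fun k => twin_gen hF hw k (ht k)) (closure_gens hF hw t ht)
    ⟨_, not_twin_one hF hw (ht 1)⟩

end Model

end CfsgLib.Sporadic.ConwayPsu62
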