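import Cfsg.Agent.Lib.Sporadic.ConwayPsu62.Data
import Cfsg.Agent.Lib.Presented.Fi22Unitary.Field

/-! Checks on the action of eight automorphisms of the lattice on 891 vectors and their planes. -/

set_option autoImplicit false
set_option maxRecDepth 100000

namespace CfsgLib.Sporadic.ConwayPsu62

open Cfsg CfsgLib.Golay CfsgLib.Golay.LeechOrbit CfsgLib.Sporadic CfsgLib.Presented.Fi22Unitary

/-- The three codes of a plane. -/
noncomputable def base1 (i : ℕ) : ℕ := planeT.get i &&& 4095

/-- The second code. -/
noncomputable def base2 (i : ℕ) : ℕ := (planeT.get i >>> 12) &&& 4095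

/-- The third code. -/
noncomputable def base3 (i : ℕ) : ℕ := planeT.get i >>> 24

/-- The multiples of a code. -/
noncomputable def opts (v : ℕ) : List ℕ := [0, v, smulW v, smulW (smulW v)]

/-- Membership in the span of three codes. -/
noncomputable def inSpan (a b c u : ℕ) : Bool :=
  (opts a).any fun x => (opts b).any fun y =>
    forceN (u ^^^ x ^^^ y) fun z => z == 0 || sameLine z c

/-- The image test of a generator at an index. -/
noncomputable def moveOK (k i : ℕ) : Bool :=
  forceN i fun i => forceN (keyT.get i) fun ki => forceN (succT.get (891 * k + i)) fun j =>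
  forceN (keyT.get j) fun kj => forceN (base1 j) fun a => forceN (base2 j) fun b =>
  forceN (base3 j) fun c => forceN (gVecs.getD k 0) fun v =>
    Nat.blt j 891 && decide (dotL (digitsF 24 ki) (gCols.getD k []) = 8 * ((kj : ℤ) - off)) &&
      inSpan a b c (tvCode v (base1 i)) && inSpan a b c (tvCode v (base2 i)) &&
      inSpan a b c (tvCode v (base3 i))

end CfsgLib.Sporadic.ConwayPsu62
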