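import Cfsg.Agent.Lib.Sporadic.ConwayPsu62.Moves

/-! Image checks for four of the generators. -/

set_option autoImplicit false

namespace CfsgLib.Sporadic.ConwayPsu62

open CfsgLib.Sporadic

theorem moves_ok0 : allFrom 0 891 (moveOK 0) = true := by decide +kernel
theorem moves_ok1 : allFrom 0 891 (moveOK 1) = true := by decide +kernel
theorem moves_ok2 : allFrom 0 891 (moveOK 2) = true := by decide +kernel
theorem moves_ok3 : allFrom 0 891 (moveOK 3) = true := by decide +kernel

end CfsgLib.Sporadic.ConwayPsu62
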